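import Groth.Agent.FLCLib.Criterion
import Groth.Agent.EtPtsLib.Agree
import Groth.Prelude.Def_EtRestW
/-!
Locally constant sheaves through sections; stability under isomorphism and inverse image.
-/

set_option autoImplicit false
set_option backward.isDefEq.respectTransparency false
set_option backward.isDefEq.respectTransparency.types false

universe u

open CategoryTheory CategoryTheory.Limits AlgebraicGeometry Opposite GrothendieckTopology

namespace Groth.Agent.FLCLib

open EtPtsLib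

variable {X : Scheme.{u}}

/-- Locally on `X`, sections indexed by a group satisfying `P` give every stalk. -/
def LocConst (P : AddCommGrpCat.{u + 1} → Prop) (F : EtCoh.Ab X) : Prop :=
  ∀ x : X, ∃ (U : X.Etale) (M : AddCommGrpCat.{u + 1}) (θ : M ⟶ F.obj.obj (op U)),
    x ∈ Set.range U.hom ∧ P M ∧ IsConstOn F U θ

theorem LocConst.of_iso {P : AddCommGrpCat.{u + 1} → Prop} {F G : EtCoh.Ab X} (a : F ≅ G) (h : LocConst P F) :
    LocConst P G := fun x =>
  let ⟨U, M, θ, hx, hM, hθ⟩ := h x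
  ⟨U, M, _, hx, hM, hθ.of_iso a⟩

theorem LocConst.mono {P Q : AddCommGrpCat.{u + 1} → Prop} (hPQ : ∀ M, P M → Q M) {F : EtCoh.Ab X} (h : LocConst P F) :
    LocConst Q F := fun x =>
  let ⟨U, M, θ, hx, hM, hθ⟩ := h x
  ⟨U, M, θ, hx, hPQ M hM, hθ⟩

/-- Finite groups are isomorphic to small ones. -/
theorem exists_small (M : AddCommGrpCat.{u + 1}) [Finite M] :
    ∃ (M' : Type) (_ : AddCommGroup M') (_ : Finite M'), Nonempty (AddCommGrpCat.of (ULift.{u + 1} M') ≅ M) := by
  haveI : Small.{0} M := small_of_injective (Finite.exists_equiv_fin M).choose_spec.some.injective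
  exact ⟨Shrink.{0} M, inferInstance, Finite.of_equiv M (equivShrink M),
    ⟨(AddEquiv.ulift.trans (Shrink.addEquiv (α := M))).toAddCommGrpIso⟩⟩

theorem finiteLocallyConstant_iff (F : EtCoh.Ab X) :
    EtCoh.IsFiniteLocallyConstant F ↔ LocConst (fun M => Finite M) F := by
  constructor
  · rintro ⟨ι, U, hU, hM⟩ x
    obtain ⟨i, y, hy⟩ := hU x
    obtain ⟨M, _, _, ⟨φ⟩⟩ := hM i
    obtain ⟨θ, hθ⟩ := exists_isConstOn_of_iso F (U i) _ φ
    exact ⟨U i, _, θ, ⟨y, hy⟩, (inferInstance : Finite (ULift.{u + 1} M)), hθ⟩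
  · intro h
    choose U M θ hx hM hθ using h
    refine ⟨X, U, fun x => ⟨x, (hx x).choose, (hx x).choose_spec⟩, fun x => ?_⟩
    haveI : Finite (M x) := hM x
    obtain ⟨M', i₁, i₂, ⟨e⟩⟩ := exists_small (M x)
    exact ⟨M', i₁, i₂, nonempty_iso_of_isConstOn F (U x) _ ((hθ x).comp_iso e)⟩

theorem locallyConstant_iff (F : EtCoh.Ab X) :
    EtRest.IsLocallyConstant F ↔ LocConst (fun _ => True) F := by
  constructor
  · rintro ⟨ι, U, hU, hM⟩ x
    obtain ⟨i, y, hy⟩ := hU x
    obtain ⟨M, _, ⟨φ⟩⟩ := hM i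
    obtain ⟨θ, hθ⟩ := exists_isConstOn_of_iso F (U i) _ φ
    exact ⟨U i, _, θ, ⟨y, hy⟩, trivial, hθ⟩
  · intro h
    choose U M θ hx hM hθ using h
    exact ⟨X, U, fun x => ⟨x, (hx x).choose, (hx x).choose_spec⟩, fun x =>
      ⟨M x, inferInstance, nonempty_iso_of_isConstOn F (U x) (M x) (hθ x)⟩⟩

section Pull

variable {Y : Scheme.{u}} (f : X ⟶ Y)

theorem bcFst_range {U : Y.Etale} {x : X} (h : f x ∈ Set.range U.hom) :
    x ∈ Set.range ((EtCoh.bc f).obj U).hom := by
  show x ∈ Set.range (pullback.snd U.hom f)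
  rw [Scheme.Pullback.range_snd]
  exact h

theorem IsConstOn.pull {F : EtCoh.Ab Y} {U : Y.Etale} {M : AddCommGrpCat.{u + 1}} {θ : M ⟶ F.obj.obj (op U)}
    (h : IsConstOn F U θ) :
    IsConstOn ((EtCoh.pull f).obj F) ((EtCoh.bc f).obj U)
      (θ ≫ ((EtCoh.pullPushAdj f).unit.app F).hom.app (op U)) := fun Ω _ _ ζ l => by
  let l' : (Scheme.pointSmallEtale (ζ ≫ f)).fiber.obj U := Over.homMk (liftHom ζ l ≫ bcFst f U) (by
    show (liftHom ζ l ≫ pullback.fst U.hom f) ≫ U.hom = ζ ≫ f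
    rw [Category.assoc, pullback.condition, ← Category.assoc]
    exact congrArg (· ≫ f) (liftHom_comp ζ l))
  have hl : liftBc f ζ U l' = l := fiber_bc_ext f ζ (liftHom_liftBc_fst f ζ U l')
  have e : (fun m : M => germ ζ ((EtCoh.pull f).obj F) l ((θ ≫ ((EtCoh.pullPushAdj f).unit.app F).hom.app (op U)) m)) =
      unitStalk f ζ F ∘ fun m : M => germ (ζ ≫ f) F l' (θ m) := funext fun m => by
    have := ConcreteCategory.congr_hom (toPresheafFiber_unitStalk f ζ F U l') (θ m)
    rw [hl] at this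
    exact this.symm
  exact e ▸ ((bijective_unitStalk f ζ F).comp (h Ω (ζ ≫ f) l'))

theorem LocConst.pull {P : AddCommGrpCat.{u + 1} → Prop} {F : EtCoh.Ab Y} (h : LocConst P F) :
    LocConst P ((EtCoh.pull f).obj F) := fun x =>
  let ⟨U, M, _, hx, hM, hθ⟩ := h (f x)
  ⟨(EtCoh.bc f).obj U, M, _, bcFst_range f hx, hM, hθ.pull f⟩

theorem isFiniteLocallyConstant_pull {F : EtCoh.Ab Y} (h : EtCoh.IsFiniteLocallyConstant F) :
    EtCoh.IsFiniteLocallyConstant ((EtCoh.pull f).obj F) :=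
  (finiteLocallyConstant_iff _).2 (((finiteLocallyConstant_iff F).1 h).pull f)

theorem isFiniteLocallyConstant_of_iso {F G : EtCoh.Ab X} (a : F ≅ G) (h : EtCoh.IsFiniteLocallyConstant F) :
    EtCoh.IsFiniteLocallyConstant G :=
  (finiteLocallyConstant_iff _).2 (((finiteLocallyConstant_iff F).1 h).of_iso a)

theorem isLocallyConstant_pull {F : EtCoh.Ab Y} (h : EtRest.IsLocallyConstant F) :
    EtRest.IsLocallyConstant ((EtCoh.pull f).obj F) :=
  (locallyConstant_iff _).2 (((locallyConstant_iff F).1 h).pull f)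

end Pull

end Groth.Agent.FLCLib
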