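import Groth.Agent.FLCLib.Generic
/-!
Subsheaves of generically constant sheaves; specialisation of geometric points.
-/

set_option autoImplicit false
set_option backward.isDefEq.respectTransparency false
set_option backward.isDefEq.respectTransparency.types false

universe u

open CategoryTheory CategoryTheory.Limits AlgebraicGeometry Opposite Topology

namespace Groth.Agent.FLCLib

open EtPtsLib

variable {X : Scheme.{u}} {Ω : Type u} [Field Ω] [IsSepClosed Ω] {ξ : Spec (CommRingCat.of Ω) ⟶ X}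

/-- Lifts at the point generalise lifts over the closure. -/
theorem Nbhd.Good.exists_lift {p : Nbhd ξ} (hp : p.Good) {W : X.Etale} (k : W ⟶ p.1)
    {Ω' : Type u} [Field Ω'] [IsSepClosed Ω'] {ζ : Spec (CommRingCat.of Ω') ⟶ X}
    (l : (Scheme.pointSmallEtale ζ).fiber.obj W) (hz : ξ default ⤳ ζ default) :
    ∃ y : (Scheme.pointSmallEtale ξ).fiber.obj W, (Scheme.pointSmallEtale ξ).fiber.map k y = p.2 ∧
      liftHom ξ y default ⤳ liftHom ζ l default := by
  haveI := etale_left k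
  have h : p.point ⤳ k.left (liftHom ζ l default) := by
    refine hp _ ?_
    rw [← fiber_map_point k l, show p.1.hom (liftHom ζ ((Scheme.pointSmallEtale ζ).fiber.map k l) default) = ζ default
      from Nbhd.hom_point (⟨p.1, _⟩ : Nbhd ζ)]
    exact hz
  obtain ⟨w, hw, hwp⟩ := Flat.generalizingMap k.left h
  obtain ⟨O, -, hwO, huniq⟩ := EtPointClass.exists_open_fibre w
  obtain ⟨y', hy'⟩ := exists_fiber_map_eq ξ (EtPointClass.incl W O ≫ k) p.2 ⟨w, hwO⟩ hwp
  refine ⟨(Scheme.pointSmallEtale ξ).fiber.map (EtPointClass.incl W O) y', ?_, ?_⟩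
  · refine Eq.trans ?_ hy'
    rw [Functor.map_comp]; rfl
  · have hbase : ∀ (V : X.Etale) (v : (Scheme.pointSmallEtale ξ).fiber.obj V),
        V.hom (liftHom ξ v default) = ξ default := fun V v => Nbhd.hom_point (⟨V, v⟩ : Nbhd ξ)
    have e : liftHom ξ ((Scheme.pointSmallEtale ξ).fiber.map (EtPointClass.incl W O) y') default = w := by
      refine huniq _ ?_ ?_
      · rw [fiber_map_point]
        exact (liftHom ξ y' default : (Scheme.Opens.toScheme O)).2
      · rw [hbase]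
        rw [show W.hom w = p.1.hom (k.left w) from
          (congrArg (fun h : W.left ⟶ X => h w) (MorphismProperty.Over.w k)).symm.trans (Scheme.Hom.comp_apply _ _ _),
          hwp]
        exact p.hom_point.symm
    rw [e]
    exact hw

theorem injective_stalk {F G : EtCoh.Ab X} (i : G ⟶ F) [Mono i] {Ω : Type u} [Field Ω] [IsSepClosed Ω]
    (ξ : Spec (CommRingCat.of Ω) ⟶ X) : Function.Injective ((EtCoh.stalk ξ).map i) :=
  (mono_iff_ab i).1 inferInstance Ω ξ

/-- A value of a subsheaf over the closure is a value at the point. -/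
theorem mem_stalk_of_sub {F G : EtCoh.Ab X} (i : G ⟶ F) {M : AddCommGrpCat.{u + 1}} {p : Nbhd ξ} (hp : p.Good)
    {θ : M ⟶ F.obj.obj (op p.1)} (hθ : IsConstAbove (ξ default) F p.1 θ)
    {Ω' : Type u} [Field Ω'] [IsSepClosed Ω'] {ζ : Spec (CommRingCat.of Ω') ⟶ X}
    (z : (Scheme.pointSmallEtale ζ).fiber.obj p.1) (hz : ξ default ⤳ ζ default) (b : (EtCoh.stalk ζ).obj G) :
    ∃ (m : M) (e : (EtCoh.stalk ξ).obj G), (EtCoh.stalk ζ).map i b = germ ζ F z (θ m) ∧
      (EtCoh.stalk ξ).map i e = germ ξ F p.2 (θ m) := by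
  obtain ⟨V, lV, t, ht⟩ := (Scheme.pointSmallEtale ζ).toPresheafFiber_jointly_surjective b
  obtain ⟨m, hm⟩ := (hθ Ω' ζ z hz).2 ((EtCoh.stalk ζ).map i b)
  obtain ⟨r, g₁, g₂, -⟩ := IsCofilteredOrEmpty.cone_objs (C := Nbhd ζ) ⟨p.1, z⟩ ⟨V, lV⟩
  obtain ⟨y, hy, hyz⟩ := hp.exists_lift g₁.1 r.2 hz
  let t' := G.obj.map g₂.1.op t
  have e₁ : germ ζ F r.2 (i.hom.app (op r.1) t') = germ ζ F r.2 (F.obj.map g₁.1.op (θ m)) := by
    refine (germ_app i r.2 t').symm.trans ?_
    have : germ ζ G r.2 t' = b := by rw [germ_map, g₂.2]; exact ht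
    rw [this, germ_map, g₁.2]
    exact hm.symm
  refine ⟨m, germ ξ G y t', hm.symm, (germ_app i y t').trans ?_⟩
  refine ((germ_eq_iff_mem_agree ξ F.obj y _ _).2 (hyz.mem_open (isOpen_agree F.obj _ _)
    ((germ_eq_iff_mem_agree ζ F.obj r.2 _ _).1 e₁))).trans ?_
  exact (germ_map ξ F g₁.1 y (θ m)).trans (congrArg (fun q => germ ξ F q (θ m)) hy)

/-- Near the point, a subsheaf of a constant sheaf contains every value it has at the point. -/
theorem exists_sub_nbhd {F G : EtCoh.Ab X} (i : G ⟶ F) [Finite ((EtCoh.stalk ξ).obj G)] {M : AddCommGrpCat.{u + 1}}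
    {U : X.Etale} {θ : M ⟶ F.obj.obj (op U)} (hθ : IsConstAbove (ξ default) F U θ)
    (l : (Scheme.pointSmallEtale ξ).fiber.obj U) :
    ∃ (p : Nbhd ξ) (g : p ⟶ ⟨U, l⟩) (σ : (EtCoh.stalk ξ).obj G ⟶ G.obj.obj (op p.1)),
      p.Good ∧ (∀ e, germ ξ G p.2 (σ e) = e) ∧
      ∀ e, ∃ m, i.hom.app (op p.1) (σ e) = F.obj.map g.1.op (θ m) := by
  obtain ⟨q, g, σ, -, hσ⟩ := exists_sigma G (⟨U, l⟩ : Nbhd ξ)
  have hb := hθ.map g.1 Ω ξ q.2 specializes_rfl
  choose h hh using fun e => hb.2 (germ ξ F q.2 (i.hom.app (op q.1) (σ e)))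
  obtain ⟨q₂, k, hk⟩ := exists_forall_map_eq F q (fun e => i.hom.app (op q.1) (σ e))
    (fun e => F.obj.map g.1.op (θ (h e))) fun e => (hh e).symm
  obtain ⟨p, k', hp⟩ := exists_good q₂
  refine ⟨p, k' ≫ k ≫ g, σ ≫ G.obj.map (k' ≫ k).1.op, hp, fun e => ?_, fun e => ⟨h e, ?_⟩⟩
  · show germ ξ G p.2 (G.obj.map (k' ≫ k).1.op (σ e)) = e
    rw [germ_map, (k' ≫ k).2]; exact hσ e
  · refine (NatTrans.naturality_apply i.hom (k' ≫ k).1.op (σ e)).trans ?_
    show F.obj.map (k'.1 ≫ k.1).op (i.hom.app (op q.1) (σ e)) = F.obj.map (k'.1 ≫ k.1 ≫ g.1).op (θ (h e))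
    rw [← sect_map_map, hk e, sect_map_map, sect_map_map, Category.assoc]

omit [IsSepClosed Ω] in
theorem finite_stalk_of_genConst {F : EtCoh.Ab X} (hF : GenConst F) {Ω' : Type u} [Field Ω'] [IsSepClosed Ω']
    (ζ : Spec (CommRingCat.of Ω') ⟶ X) : Finite ((EtCoh.stalk ζ).obj F) := by
  obtain ⟨U, M, θ, ⟨v, hv⟩, hM, hθ⟩ := hF (ζ default)
  obtain ⟨l, -⟩ := Scheme.pointSmallEtaleFiberObjToPreimage_surjective ζ rfl U ⟨v, hv⟩
  haveI : Finite M := hM
  exact Finite.of_equiv M (Equiv.ofBijective _ (hθ Ω' ζ l specializes_rfl))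

omit [IsSepClosed Ω] in
theorem GenConst.sub {F G : EtCoh.Ab X} (i : G ⟶ F) [Mono i] (hF : GenConst F) : GenConst G := fun x => by
  obtain ⟨U, M, θ, hx, -, hθ⟩ := hF x
  obtain ⟨l⟩ := exists_geomPt_lift hx
  haveI : Finite ((EtCoh.stalk (geomPt x)).obj G) :=
    haveI := finite_stalk_of_genConst hF (geomPt x)
    Finite.of_injective _ (injective_stalk i (geomPt x))
  rw [← geomPt_default x] at hθ
  obtain ⟨p, g, σ, hp, hσ, hi⟩ := exists_sub_nbhd i hθ l
  refine ⟨p.1, _, σ, ⟨p.point, p.hom_point.trans (geomPt_default x)⟩, inferInstance, fun Ω' _ _ ζ z hz => ?_⟩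
  rw [← geomPt_default x] at hz
  refine ⟨injective_germ_sigma hp hσ z hz, fun b => ?_⟩
  obtain ⟨m, e, hb, he⟩ := mem_stalk_of_sub i hp (hθ.map g.1) z hz b
  refine ⟨e, injective_stalk i ζ ?_⟩
  rw [hb, germ_app]
  obtain ⟨m', hm'⟩ := hi e
  refine (congrArg (germ ζ F z) hm').trans ?_
  have : m' = m := (hθ.map g.1 _ _ p.2 specializes_rfl).1
    ((congrArg (germ (geomPt x) F p.2) hm').symm.trans ((germ_app i p.2 (σ e)).symm.trans ((congrArg _ (hσ e)).trans he)))
  rw [this]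
  rfl

theorem finite_fiber_over [IsLocallyNoetherian X] [IsAlgClosed Ω] {U : X.Etale} (v : U.left) :
    {y : (Scheme.pointSmallEtale ξ).fiber.obj U | liftHom ξ y default ⤳ v}.Finite := by
  haveI : AlgebraicGeometry.Etale U.hom := U.prop
  haveI := EtPointClass.lqf_of_etale U.hom
  obtain ⟨O, hO, hvO, -⟩ := exists_isAffineOpen_mem_and_subset (show v ∈ (⊤ : U.left.Opens) from trivial)
  haveI : IsAffine (Scheme.Opens.toScheme O) := hO
  haveI := EtPointClass.lqf_of_etale (O.ι ≫ U.hom)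
  haveI : CompactSpace (Scheme.Opens.toScheme O) := inferInstance
  haveI : QuasiSeparatedSpace ((Functor.fromPUnit X).obj U.right) := (inferInstance : QuasiSeparatedSpace X)
  haveI : QuasiCompact (O.ι ≫ U.hom) := quasiCompact_of_compactSpace _
  have hfin : {w : U.left | w ∈ (O : Set U.left) ∧ U.hom w = EtaleSplit.pt ξ}.Finite := by
    refine (((O.ι ≫ U.hom).finite_preimage_singleton (EtaleSplit.pt ξ)).image O.ι).subset ?_
    rintro w ⟨hw, hwx⟩
    exact ⟨⟨w, hw⟩, hwx, rfl⟩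
  have h := EtaleSplit.finite_gpts_over U.hom ξ (O : Set U.left) hfin
  refine Set.Finite.of_finite_image (f := fun y => (⟨liftHom ξ y, liftHom_comp ξ y⟩ : EtaleSplit.GPts U.hom ξ))
    (h.subset ?_) ?_
  · rintro _ ⟨y, hy, rfl⟩
    show EtaleSplit.pt (liftHom ξ y) ∈ O
    have hy' : liftHom ξ y default ⤳ v := hy
    have := Specializes.mem_open (s := (O : Set U.left)) hy' O.2 hvO
    refine (show EtaleSplit.pt (liftHom ξ y) = liftHom ξ y default from ?_) ▸ this
    show liftHom ξ y (IsLocalRing.closedPoint Ω) = liftHom ξ y default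
    exact congrArg _ (Subsingleton.elim (α := ↥(Spec (CommRingCat.of Ω))) _ _)
  · intro y _ y' _ e
    exact Over.OverMorphism.ext (congrArg Subtype.val e)

/-- A generisation of the base point gives a map of the points of the site. -/
theorem nonempty_specialization [IsLocallyNoetherian X] [IsAlgClosed Ω] {Ω' : Type u} [Field Ω'] [IsSepClosed Ω']
    {ζ : Spec (CommRingCat.of Ω') ⟶ X} (hz : ξ default ⤳ ζ default) :
    Nonempty (Scheme.pointSmallEtale ξ ⟶ Scheme.pointSmallEtale ζ) := by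
  let Φ : Nbhd ζ ⥤ Type u :=
    { obj := fun j => {y : (Scheme.pointSmallEtale ξ).fiber.obj j.1 // liftHom ξ y default ⤳ j.point}
      map := fun {j j'} k => TypeCat.ofHom fun y => ⟨(Scheme.pointSmallEtale ξ).fiber.map k.1 y.1, by
        rw [fiber_map_point, ← Nbhd.map_point k]
        exact y.2.map k.1.left.continuous⟩
      map_id := fun j => by
        ext y; exact congrArg (fun q => q y.1) ((Scheme.pointSmallEtale ξ).fiber.map_id j.1)
      map_comp := fun {a b c} k k' => by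
        ext y; exact congrArg (fun q => q y.1) ((Scheme.pointSmallEtale ξ).fiber.map_comp k.1 k'.1) }
  haveI : IsCofiltered (Nbhd ζ) := inferInstance
  haveI : ∀ j, Finite (Φ.obj j) := fun j => (finite_fiber_over j.point).to_subtype
  haveI : ∀ j, Nonempty (Φ.obj j) := fun j => by
    haveI : AlgebraicGeometry.Etale j.1.hom := j.1.prop
    obtain ⟨w, hw, hwx⟩ := Flat.generalizingMap j.1.hom (j.hom_point.symm ▸ hz : ξ default ⤳ j.1.hom j.point)
    obtain ⟨O, -, hwO, huniq⟩ := EtPointClass.exists_open_fibre w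
    obtain ⟨y, -⟩ := Scheme.pointSmallEtaleFiberObjToPreimage_surjective ξ rfl (EtPointClass.sub j.1 O)
      ⟨⟨w, hwO⟩, hwx⟩
    refine ⟨⟨(Scheme.pointSmallEtale ξ).fiber.map (EtPointClass.incl j.1 O) y, ?_⟩⟩
    rw [fiber_map_point]
    have e := huniq _ (liftHom ξ y default : (Scheme.Opens.toScheme O)).2
      ((Nbhd.hom_point (⟨EtPointClass.sub j.1 O, y⟩ : Nbhd ξ)).trans hwx.symm)
    exact (show (EtPointClass.incl j.1 O).left (liftHom ξ y default) = w from e).symm ▸ hw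
  obtain ⟨s, hs⟩ := nonempty_sections_of_finite_cofiltered_system Φ
  refine ⟨⟨{ app := fun U => TypeCat.ofHom fun l => (s ⟨U, l⟩).1, naturality := fun {U V} g => ?_ }⟩⟩
  ext l
  exact (congrArg Subtype.val (hs (j := ⟨U, l⟩) (j' := ⟨V, (Scheme.pointSmallEtale ζ).fiber.map g l⟩) ⟨g, rfl⟩)).symm

theorem genConst_of_specializations_mono [IsLocallyNoetherian X] (F : EtCoh.Ab X)
    (hfin : ∀ (Ω : Type u) [Field Ω] [IsSepClosed Ω] (ξ : Spec (CommRingCat.of Ω) ⟶ X), Finite ((EtCoh.stalk ξ).obj F))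
    (hmono : ∀ (Ω Ω' : Type u) [Field Ω] [IsSepClosed Ω] [Field Ω'] [IsSepClosed Ω']
        (ξ : Spec (CommRingCat.of Ω) ⟶ X) (ξ' : Spec (CommRingCat.of Ω') ⟶ X)
        (φ : Scheme.pointSmallEtale ξ' ⟶ Scheme.pointSmallEtale ξ),
        Mono ((GrothendieckTopology.Point.Hom.sheafFiber (A := AddCommGrpCat.{u + 1}) φ).app F)) : GenConst F := fun x => by
  haveI := hfin _ (geomPtAlg x)
  obtain ⟨q, -, σ, hq, hσ⟩ := exists_sigma F (⟨EtCoh.top X, topLift (geomPtAlg x)⟩ : Nbhd (geomPtAlg x))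
  refine ⟨q.1, _, σ, ⟨q.point, q.hom_point.trans (geomPtAlg_default x)⟩, inferInstance, fun Ω' _ _ ζ z hz => ?_⟩
  rw [← geomPtAlg_default x] at hz
  obtain ⟨φ⟩ := nonempty_specialization hz
  have hinj := injective_germ_sigma hq hσ z hz
  have hsp : Function.Injective ((GrothendieckTopology.Point.Hom.sheafFiber (A := AddCommGrpCat.{u + 1}) φ).app F) :=
    (AddCommGrpCat.mono_iff_injective _).1 (hmono _ _ ζ (geomPtAlg x) φ)
  exact hinj.bijective_of_nat_card_le (Nat.card_le_card_of_injective _ hsp)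

end Groth.Agent.FLCLib
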