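import Groth.Agent.SpectralLib.Basic
/-!
Constructible sets: atoms, compactness, images under embeddings.
-/

set_option autoImplicit false

universe u

open Topology TopologicalSpace Set AlgebraicGeometry

namespace Groth.Agent.FLCLib

variable {X : Type u} [TopologicalSpace X]

theorem exists_finset_opens {C : Set X} (hC : IsConstructible C) :
    ∃ 𝒰 : Finset (Set X), (∀ U ∈ 𝒰, IsOpen U ∧ IsRetrocompact U) ∧
      ∀ x y, (∀ U ∈ 𝒰, x ∈ U ↔ y ∈ U) → x ∈ C → y ∈ C := by
  classical
  induction hC using IsConstructible.empty_union_induction with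
  | open_retrocompact U ho hc => exact ⟨{U}, by simp [ho, hc], fun x y h hx => (h U (by simp)).1 hx⟩
  | union s _ t _ hs ht =>
    obtain ⟨A, hA, hA'⟩ := hs
    obtain ⟨B, hB, hB'⟩ := ht
    refine ⟨A ∪ B, fun U hU => (Finset.mem_union.1 hU).elim (hA U) (hB U), fun x y h => Or.imp ?_ ?_⟩
    · exact hA' x y fun U hU => h U (Finset.mem_union_left _ hU)
    · exact hB' x y fun U hU => h U (Finset.mem_union_right _ hU)
  | compl s _ hs =>
    obtain ⟨A, hA, hA'⟩ := hs
    exact ⟨A, hA, fun x y h hx hy => hx (hA' y x (fun U hU => (h U hU).symm) hy)⟩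

/-- Finitely many constructible sets are unions of parts of a finite partition into locally closed
constructible sets. -/
theorem exists_partition {ι : Type u} [Finite ι] (C : ι → Set X) (hC : ∀ i, IsConstructible (C i)) :
    ∃ (κ : Type u) (_ : Finite κ) (L : κ → Set X), (∀ k, IsLocallyClosed (L k) ∧ IsConstructible (L k)) ∧
      Pairwise (fun k k' => Disjoint (L k) (L k')) ∧ (∀ x, ∃ k, x ∈ L k) ∧
      ∀ k i, L k ⊆ C i ∨ Disjoint (L k) (C i) := by
  classical
  haveI := Fintype.ofFinite ι
  choose A hA hA' using fun i => exists_finset_opens (hC i)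
  let 𝒰 : Finset (Set X) := Finset.univ.biUnion A
  have h𝒰 : ∀ U ∈ 𝒰, IsOpen U ∧ IsRetrocompact U := fun U hU => by
    obtain ⟨i, -, hi⟩ := Finset.mem_biUnion.1 hU
    exact hA i U hi
  let L : ↥(𝒰.powerset) → Set X := fun B => (⋂ U ∈ B.1, U) ∩ (⋃ U ∈ 𝒰 \ B.1, U)ᶜ
  have hmem : ∀ B x, x ∈ L B ↔ ∀ U ∈ 𝒰, x ∈ U ↔ U ∈ B.1 := fun B x => by
    simp only [L, mem_inter_iff, mem_iInter, mem_compl_iff, mem_iUnion, not_exists, Finset.mem_sdiff]
    exact ⟨fun h U hU => ⟨fun hx => by_contra fun hB => h.2 U ⟨hU, hB⟩ hx, h.1 U⟩,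
      fun h => ⟨fun U hU => (h U (Finset.mem_powerset.1 B.2 hU)).2 hU, fun U hU hx => hU.2 ((h U hU.1).1 hx)⟩⟩
  have hB : ∀ B : ↥(𝒰.powerset), ∀ U ∈ B.1, U ∈ 𝒰 := fun B U hU => Finset.mem_powerset.1 B.2 hU
  refine ⟨↥(𝒰.powerset), inferInstance, L, fun B => ⟨⟨_, _, ?_, ?_, rfl⟩, ?_⟩, ?_, fun x => ?_, fun B i => ?_⟩
  · exact isOpen_biInter_finset fun U hU => (h𝒰 U (hB B U hU)).1
  · exact (isOpen_biUnion fun U hU => (h𝒰 U (Finset.mem_sdiff.1 hU).1).1).isClosed_compl
  · refine IsConstructible.inter (IsConstructible.biInter B.1.finite_toSet fun U hU => ?_)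
      (IsConstructible.biUnion (𝒰 \ B.1).finite_toSet fun U hU => ?_).compl
    · exact (h𝒰 U (hB B U hU)).2.isConstructible (h𝒰 U (hB B U hU)).1
    · exact (h𝒰 U (Finset.mem_sdiff.1 hU).1).2.isConstructible (h𝒰 U (Finset.mem_sdiff.1 hU).1).1
  · intro B B' hne
    refine Set.disjoint_left.2 fun x hx hx' => hne (Subtype.ext (Finset.ext fun U => ⟨fun hU => ?_, fun hU => ?_⟩))
    · exact ((hmem B' x).1 hx' U (hB B U hU)).1 (((hmem B x).1 hx U (hB B U hU)).2 hU)
    · exact ((hmem B x).1 hx U (hB B' U hU)).1 (((hmem B' x).1 hx' U (hB B' U hU)).2 hU)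
  · exact ⟨⟨𝒰.filter (fun U => x ∈ U), Finset.mem_powerset.2 (Finset.filter_subset _ _)⟩,
      (hmem _ x).2 fun U hU => by simp [hU]⟩
  · by_cases h : Disjoint (L B) (C i)
    · exact Or.inr h
    · obtain ⟨x, hx, hxC⟩ := Set.not_disjoint_iff.1 h
      refine Or.inl fun y hy => hA' i x y (fun U hU => ?_) hxC
      have hU' : U ∈ 𝒰 := Finset.mem_biUnion.2 ⟨i, Finset.mem_univ i, hU⟩
      rw [(hmem B x).1 hx U hU', (hmem B y).1 hy U hU']

/-- A covering of a spectral space by constructible sets has a finite subcovering. -/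
theorem exists_finite_subcover [SpectralSpace X] {ι : Type*} (C : ι → Set X) (hC : ∀ i, IsConstructible (C i))
    (hcov : ∀ x, ∃ i, x ∈ C i) : ∃ s : Finset ι, ∀ x, ∃ i ∈ s, x ∈ C i := by
  have hc : @IsCompact X (constructibleTopology X) Set.univ :=
    @isCompact_univ X (constructibleTopology X) SpectralLib.compactSpace_C
  obtain ⟨s, hs⟩ := @IsCompact.elim_finite_subcover X (constructibleTopology X) _ _ hc C
    (fun i => (SpectralLib.isClopen_C_of_isConstructible (hC i)).2) (fun x _ => mem_iUnion.2 (hcov x))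
  exact ⟨s, fun x => by simpa using hs (mem_univ x)⟩

theorem isCompact_of_isConstructible [SpectralSpace X] {C : Set X} (hC : IsConstructible C) : IsCompact C :=
  SpectralLib.isCompact_of_isClosed_C (SpectralLib.isClopen_C_of_isConstructible hC).1

theorem isConstructible_image_of_isEmbedding {T : Type u} [TopologicalSpace T] [CompactSpace T]
    [PrespectralSpace X] [QuasiSeparatedSpace X] {g : T → X} (hg : IsEmbedding g)
    (hr : IsConstructible (Set.range g)) {C : Set T} (hC : IsConstructible C) : IsConstructible (g '' C) := by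
  induction hC using IsConstructible.empty_union_induction with
  | open_retrocompact U ho hc =>
    obtain ⟨V, hV, rfl⟩ := hg.isOpen_iff.1 ho
    obtain ⟨K, hK, hKo, h1, h2⟩ := PrespectralSpace.exists_isCompact_and_isOpen_between
      (hc.isCompact.image hg.continuous) hV (image_preimage_subset _ _)
    have : g '' (g ⁻¹' V) = K ∩ Set.range g := by
      ext x
      refine ⟨fun hx => ⟨h1 hx, image_subset_range _ _ hx⟩, ?_⟩
      rintro ⟨hx, t, rfl⟩
      exact ⟨t, h2 hx, rfl⟩
    rw [this]
    exact (hK.isConstructible hKo).inter hr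
  | union s _ t _ h h' => rw [image_union]; exact h.union h'
  | compl s _ h => rw [← range_sdiff_image hg.injective]; exact hr.sdiff h

/-- A scheme which is quasi-compact and quasi-separated is spectral. -/
instance spectralSpace_scheme (S : Scheme.{u}) [CompactSpace S] [QuasiSeparatedSpace S] : SpectralSpace S where

theorem quasiSeparatedSpace_of_isEmbedding {T : Type u} [TopologicalSpace T] [CompactSpace T] [SpectralSpace X]
    {g : T → X} (hg : IsEmbedding g) (hr : IsConstructible (Set.range g)) : QuasiSeparatedSpace T := by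
  obtain ⟨h, -⟩ := SpectralLib.spectralSpace_of_isClosed (SpectralLib.isClopen_C_of_isConstructible hr).1
  haveI := h
  exact QuasiSeparatedSpace.of_isOpenEmbedding hg.toHomeomorph.isOpenEmbedding

end Groth.Agent.FLCLib
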