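import Groth.Agent.FLCLib.Basic
import Groth.Agent.FLCLib.Topology
import Groth.Prelude.Def_PBC
/-!
Stratifications on which a sheaf is finite locally constant.
-/

set_option autoImplicit false
set_option backward.isDefEq.respectTransparency false
set_option backward.isDefEq.respectTransparency.types false

universe u

open CategoryTheory CategoryTheory.Limits AlgebraicGeometry Opposite Topology

namespace Groth.Agent.FLCLib

section PullComp

variable {X Y Z : Scheme.{u}} (f : X ⟶ Y) (g : Y ⟶ Z)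

/-- Base change along a composite. -/
noncomputable def bcCompIso : EtCoh.bc (f ≫ g) ≅ EtCoh.bc g ⋙ EtCoh.bc f :=
  MorphismProperty.Over.pullbackComp (P := EtCoh.etaleMP) (Q := ⊤) f g

/-- Direct image along a composite. -/
noncomputable def pushCompIso' : EtCoh.push f ⋙ EtCoh.push g ≅ EtCoh.push (f ≫ g) :=
  ((fullyFaithfulSheafToPresheaf _ _).whiskeringRight _).preimageIso
    (NatIso.ofComponents (fun F => Functor.isoWhiskerRight (NatIso.op (bcCompIso f g)) F.obj)
      (fun {F G} a => by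
        ext W s
        exact (NatTrans.naturality_apply a.hom (((NatIso.op (bcCompIso f g)).hom.app W)) s).symm))

/-- Direct image along a composite. -/
noncomputable def pushCompIso : EtCoh.push (f ≫ g) ≅ EtCoh.push f ⋙ EtCoh.push g := (pushCompIso' f g).symm

/-- Inverse image along a composite. -/
noncomputable def pullCompIso : EtCoh.pull g ⋙ EtCoh.pull f ≅ EtCoh.pull (f ≫ g) :=
  Adjunction.leftAdjointUniq ((EtCoh.pullPushAdj g).comp (EtCoh.pullPushAdj f))
    ((EtCoh.pullPushAdj (f ≫ g)).ofNatIsoRight (pushCompIso f g))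

theorem flc_pull_comp {F : EtCoh.Ab Z} (h : EtCoh.IsFiniteLocallyConstant ((EtCoh.pull g).obj F)) :
    EtCoh.IsFiniteLocallyConstant ((EtCoh.pull (f ≫ g)).obj F) :=
  isFiniteLocallyConstant_of_iso ((pullCompIso f g).app F) (isFiniteLocallyConstant_pull f h)

theorem flc_pull_pull_iff {F : EtCoh.Ab Z} : EtCoh.IsFiniteLocallyConstant ((EtCoh.pull (f ≫ g)).obj F) ↔
    EtCoh.IsFiniteLocallyConstant ((EtCoh.pull f).obj ((EtCoh.pull g).obj F)) :=
  ⟨isFiniteLocallyConstant_of_iso ((pullCompIso f g).app F).symm,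
    isFiniteLocallyConstant_of_iso ((pullCompIso f g).app F)⟩

end PullComp

variable {X : Scheme.{u}}

/-- Finitely many immersions with constructible images covering `X`, along which `F` is finite
locally constant. -/
def Strat (F : EtCoh.Ab X) : Prop :=
  ∃ (ι : Type u) (_ : Finite ι) (T : ι → Scheme.{u}) (g : ∀ i, T i ⟶ X),
    (∀ i, IsImmersion (g i)) ∧ (∀ i, IsConstructible (Set.range (g i))) ∧ (∀ x, ∃ i, x ∈ Set.range (g i)) ∧
    ∀ i, EtCoh.IsFiniteLocallyConstant ((EtCoh.pull (g i)).obj F)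

theorem exists_immersion_inter {T : Scheme.{u}} (g : T ⟶ X) [IsImmersion g] {L : Set X} (hL : IsLocallyClosed L) :
    ∃ (T' : Scheme.{u}) (h : T' ⟶ T), IsImmersion h ∧ IsImmersion (h ≫ g) ∧ Set.range (h ≫ g) = Set.range g ∩ L := by
  obtain ⟨O, Z, hO, hZ, rfl⟩ := hL
  let V : T.Opens := ⟨g ⁻¹' O, hO.preimage g.continuous⟩
  let Z' : TopologicalSpace.Closeds V.toScheme := ⟨(V.ι ≫ g) ⁻¹' Z, hZ.preimage (V.ι ≫ g).continuous⟩
  let h := (Scheme.IdealSheafData.vanishingIdeal Z').subschemeι ≫ V.ι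
  haveI : IsImmersion h := inferInstance
  haveI : IsImmersion g := inferInstance
  refine ⟨_, h, inferInstance, inferInstance, ?_⟩
  ext x
  constructor
  · rintro ⟨t, rfl⟩
    have ht : (Scheme.IdealSheafData.vanishingIdeal Z').subschemeι t ∈ (Z' : Set V.toScheme) := by
      rw [← Scheme.IdealSheafData.coe_support_vanishingIdeal, ← Scheme.IdealSheafData.range_subschemeι]
      exact Set.mem_range_self t
    refine ⟨⟨h t, (Scheme.Hom.comp_apply _ _ _).symm⟩, ?_, ?_⟩
    · show (h ≫ g) t ∈ O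
      rw [Scheme.Hom.comp_apply, Scheme.Hom.comp_apply]
      exact ((Scheme.IdealSheafData.vanishingIdeal Z').subschemeι t).2
    · exact ht
  · rintro ⟨⟨t, rfl⟩, ht, hz⟩
    have : (⟨t, ht⟩ : V.toScheme) ∈ Set.range (Scheme.IdealSheafData.vanishingIdeal Z').subschemeι := by
      rw [Scheme.IdealSheafData.range_subschemeι, Scheme.IdealSheafData.coe_support_vanishingIdeal]
      exact hz
    obtain ⟨s, hs⟩ := this
    exact ⟨s, by rw [Scheme.Hom.comp_apply, Scheme.Hom.comp_apply, hs]; rfl⟩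

theorem Strat.disjoint {F : EtCoh.Ab X} (h : Strat F) :
    ∃ (n : ℕ) (T : Fin n → Scheme.{u}) (g : ∀ i, T i ⟶ X),
      (∀ i, IsImmersion (g i)) ∧ (∀ i, IsConstructible (Set.range (g i))) ∧
      Pairwise (fun i j => Disjoint (Set.range (g i)) (Set.range (g j))) ∧
      (⋃ i, Set.range (g i)) = Set.univ ∧ ∀ i, EtCoh.IsFiniteLocallyConstant ((EtCoh.pull (g i)).obj F) := by
  obtain ⟨ι, _, T, g, hg, hc, hcov, hF⟩ := h
  obtain ⟨κ, _, L, hL, hdis, hLcov, hsub⟩ := exists_partition (fun i => Set.range (g i)) hc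
  let κ' := {k : κ // ∃ i, L k ⊆ Set.range (g i)}
  obtain ⟨n, ⟨e⟩⟩ := Finite.exists_equiv_fin κ'
  choose i hi using fun k : κ' => k.2
  choose T' h hh hhg hr using fun k : κ' => haveI := hg (i k); exists_immersion_inter (g (i k)) (hL k.1).1
  have hr' : ∀ k : κ', Set.range (h k ≫ g (i k)) = L k.1 := fun k => (hr k).trans (Set.inter_eq_right.2 (hi k))
  refine ⟨n, fun j => T' (e.symm j), fun j => h (e.symm j) ≫ g (i (e.symm j)), fun j => hhg _, fun j => ?_, ?_, ?_,
    fun j => flc_pull_comp _ _ (hF _)⟩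
  · show IsConstructible (Set.range _)
    rw [hr']; exact (hL _).2
  · intro a b hab
    show Disjoint (Set.range _) (Set.range _)
    rw [hr', hr']
    exact hdis fun he => hab (e.symm.injective (Subtype.ext he))
  · refine Set.eq_univ_of_forall fun x => ?_
    obtain ⟨k, hk⟩ := hLcov x
    obtain ⟨a, ha⟩ := hcov x
    have hk' : L k ⊆ Set.range (g a) := (hsub k a).resolve_right fun hd => Set.disjoint_left.1 hd hk ha
    refine Set.mem_iUnion.2 ⟨e ⟨k, a, hk'⟩, ?_⟩
    show x ∈ Set.range _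
    rw [hr', e.symm_apply_apply]
    exact hk

theorem adaptedStrata_univ_iff (F : EtCoh.Ab X) : EtPBC.AdaptedStrata F (Set.univ : Set X) ↔ Strat F := by
  have he : IsOpenEmbedding (Subtype.val : ↥(Set.univ : Set X) → X) := isOpen_univ.isOpenEmbedding_subtypeVal
  have hiff : ∀ s : Set X, IsConstructible ((Subtype.val : ↥(Set.univ : Set X) → X) ⁻¹' s) ↔ IsConstructible s :=
    fun s => isConstructible_preimage_iff_of_isOpenEmbedding he (by simp) (by simp)
  constructor
  · rintro ⟨n, T, g, hg, hc, -, hcov, hF⟩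
    exact ⟨ULift (Fin n), inferInstance, fun i => T i.down, fun i => g i.down, fun i => hg _,
      fun i => (hiff _).1 (hc _), fun x => let ⟨i, hi⟩ := Set.mem_iUnion.1 (hcov ▸ Set.mem_univ x); ⟨⟨i⟩, hi⟩,
      fun i => hF _⟩
  · intro h
    obtain ⟨n, T, g, hg, hc, hd, hcov, hF⟩ := h.disjoint
    exact ⟨n, T, g, hg, fun i => (hiff _).2 (hc i), hd, hcov, fun i _ => hF i⟩

theorem adaptedStrata_open_iff (U : X.Opens) (F : EtCoh.Ab X) :
    EtPBC.AdaptedStrata F (U : Set X) ↔ Strat ((EtCoh.pull U.ι).obj F) := by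
  constructor
  · rintro ⟨n, T, g, hg, hc, -, hcov, hF⟩
    have hs : ∀ i, Set.range (g i) ⊆ Set.range U.ι := fun i => by
      rw [Scheme.Opens.range_ι, ← hcov]; exact Set.subset_iUnion (fun i => Set.range (g i)) i
    let k := fun i => IsOpenImmersion.lift U.ι (g i) (hs i)
    have hk : ∀ i, k i ≫ U.ι = g i := fun i => IsOpenImmersion.lift_fac _ _ _
    have hr : ∀ i, Set.range (k i) = (Subtype.val : U → X) ⁻¹' Set.range (g i) := fun i => by
      ext x
      constructor
      · rintro ⟨t, rfl⟩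
        exact ⟨t, by rw [← hk i, Scheme.Hom.comp_apply]; rfl⟩
      · rintro ⟨t, ht⟩
        exact ⟨t, U.ι.isOpenEmbedding.injective (by rw [← Scheme.Hom.comp_apply, hk]; exact ht)⟩
    refine ⟨ULift (Fin n), inferInstance, fun i => T i.down, fun i => k i.down, fun i => ?_, fun i => ?_, fun x => ?_,
      fun i => ?_⟩
    · haveI : IsImmersion (k i.down ≫ U.ι) := (hk i.down).symm ▸ hg i.down
      exact IsImmersion.of_comp _ U.ι
    · rw [hr]; exact hc _
    · obtain ⟨i, hi⟩ := Set.mem_iUnion.1 (hcov ▸ x.2 : x.val ∈ ⋃ i, Set.range (g i))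
      exact ⟨⟨i⟩, (hr i).symm ▸ hi⟩
    · refine (flc_pull_pull_iff (k i.down) U.ι).1 ?_
      rw [hk]; exact hF _
  · intro h
    obtain ⟨n, T, g, hg, hc, hd, hcov, hF⟩ := h.disjoint
    have hr : ∀ i, Set.range (g i ≫ U.ι) = U.ι '' Set.range (g i) := fun i => by
      rw [Scheme.Hom.comp_base, TopCat.coe_comp, Set.range_comp]
    refine ⟨n, T, fun i => g i ≫ U.ι, fun i => inferInstance, fun i => ?_, fun a b hab => ?_, ?_,
      fun i _ => (flc_pull_pull_iff _ _).2 (hF i)⟩
    · show IsConstructible ((U.ι : U.toScheme → X) ⁻¹' Set.range (g i ≫ U.ι))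
      rw [hr, Set.preimage_image_eq _ U.ι.isOpenEmbedding.injective]
      exact hc i
    · show Disjoint (Set.range _) (Set.range _)
      rw [hr, hr]
      exact (Set.disjoint_image_iff U.ι.isOpenEmbedding.injective).2 (hd hab)
    · simp only [hr]
      rw [← Set.image_iUnion, hcov, Set.image_univ, Scheme.Opens.range_ι]

theorem isConstructible_iff (F : EtCoh.Ab X) :
    EtPBC.IsConstructible F ↔ ∀ U : X.Opens, IsAffineOpen U → Strat ((EtCoh.pull U.ι).obj F) :=
  forall_congr' fun U => imp_congr_right fun _ => adaptedStrata_open_iff U F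

theorem Strat.of_iso {F G : EtCoh.Ab X} (a : F ≅ G) (h : Strat F) : Strat G := by
  obtain ⟨ι, _, T, g, hg, hc, hcov, hF⟩ := h
  exact ⟨ι, inferInstance, T, g, hg, hc, hcov, fun i => isFiniteLocallyConstant_of_iso ((EtCoh.pull (g i)).mapIso a) (hF i)⟩

theorem Strat.pull {Y : Scheme.{u}} (f : X ⟶ Y) {F : EtCoh.Ab Y} (h : Strat F) : Strat ((EtCoh.pull f).obj F) := by
  obtain ⟨ι, _, T, g, hg, hc, hcov, hF⟩ := h
  refine ⟨ι, inferInstance, fun i => Limits.pullback f (g i), fun i => pullback.fst f (g i), fun i => ?_, fun i => ?_,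
    fun x => ?_, fun i => ?_⟩
  · haveI := hg i; infer_instance
  · rw [Scheme.Pullback.range_fst]
    exact f.isConstructible_preimage (hc i)
  · obtain ⟨i, hi⟩ := hcov (f x)
    exact ⟨i, by rw [Scheme.Pullback.range_fst]; exact hi⟩
  · refine (flc_pull_pull_iff _ f).1 ?_
    rw [pullback.condition]
    exact flc_pull_comp _ _ (hF i)

/-- Stratifications glue along a finite family of immersions with constructible images. -/
theorem Strat.glue [CompactSpace X] [QuasiSeparatedSpace X] {F : EtCoh.Ab X} {κ : Type u} [Finite κ]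
    (T : κ → Scheme.{u}) (g : ∀ k, T k ⟶ X) [∀ k, IsImmersion (g k)]
    (hc : ∀ k, IsConstructible (Set.range (g k))) (hcov : ∀ x, ∃ k, x ∈ Set.range (g k))
    (h : ∀ k, Strat ((EtCoh.pull (g k)).obj F)) : Strat F := by
  choose ι hι S s hs hsc hscov hsF using h
  haveI : ∀ k, Finite (ι k) := hι
  refine ⟨Σ k, ι k, inferInstance, fun p => S p.1 p.2, fun p => s p.1 p.2 ≫ g p.1, fun p => ?_, fun p => ?_,
    fun x => ?_, fun p => (flc_pull_pull_iff _ _).2 (hsF _ _)⟩
  · haveI := hs p.1 p.2; infer_instance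
  · rw [Scheme.Hom.comp_base, TopCat.coe_comp, Set.range_comp]
    haveI : CompactSpace (T p.1) := by
      rw [← isCompact_univ_iff, (g p.1).isEmbedding.isInducing.isCompact_iff, Set.image_univ]
      exact isCompact_of_isConstructible (hc p.1)
    exact isConstructible_image_of_isEmbedding (g p.1).isEmbedding (hc p.1) (hsc p.1 p.2)
  · obtain ⟨k, t, rfl⟩ := hcov x
    obtain ⟨i, u, rfl⟩ := hscov k t
    exact ⟨⟨k, i⟩, u, Scheme.Hom.comp_apply _ _ _⟩

/-- It is enough to stratify on an affine open covering. -/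
theorem Strat.of_openCover [CompactSpace X] [QuasiSeparatedSpace X] {F : EtCoh.Ab X}
    (h : ∀ x : X, ∃ W : X.Opens, x ∈ W ∧ IsCompact (W : Set X) ∧ Strat ((EtCoh.pull W.ι).obj F)) : Strat F := by
  choose W hx hc hS using h
  obtain ⟨σ, hσ⟩ := isCompact_univ.elim_finite_subcover (fun x => (W x : Set X)) (fun x => (W x).2)
    (fun x _ => Set.mem_iUnion.2 ⟨x, hx x⟩)
  refine Strat.glue (κ := σ) (fun x => (W x.1).toScheme) (fun x => (W x.1).ι) (fun x => ?_) (fun y => ?_) fun x => hS _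
  · rw [Scheme.Opens.range_ι]; exact (hc _).isConstructible (W _).2
  · obtain ⟨x, hxσ, hy⟩ := Set.mem_iUnion₂.1 (hσ (Set.mem_univ y))
    exact ⟨⟨x, hxσ⟩, by rw [Scheme.Opens.range_ι]; exact hy⟩

theorem strat_pull_iso {Y Z : Scheme.{u}} {F : EtCoh.Ab X} (f : Y ⟶ X) (g : Z ⟶ Y)
    (h : Strat ((EtCoh.pull (g ≫ f)).obj F)) : Strat ((EtCoh.pull g).obj ((EtCoh.pull f).obj F)) :=
  h.of_iso ((pullCompIso g f).app F).symm

theorem isConstructible_pull {Y : Scheme.{u}} (f : X ⟶ Y) {F : EtCoh.Ab Y} (hF : EtPBC.IsConstructible F) :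
    EtPBC.IsConstructible ((EtCoh.pull f).obj F) := by
  rw [isConstructible_iff] at hF ⊢
  intro U hU
  haveI : IsAffine U.toScheme := hU
  refine Strat.of_openCover fun x => ?_
  obtain ⟨_, ⟨V, hV, rfl⟩, hxV, -⟩ := Y.isBasis_affineOpens.exists_subset_of_mem_open
    (Set.mem_univ ((U.ι ≫ f) x)) isOpen_univ
  obtain ⟨_, ⟨W, hW, rfl⟩, hxW, hWV⟩ := U.toScheme.isBasis_affineOpens.exists_subset_of_mem_open
    (show x ∈ ((U.ι ≫ f) ⁻¹ᵁ V : U.toScheme.Opens) from hxV) ((U.ι ≫ f) ⁻¹ᵁ V).2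
  refine ⟨W, hxW, hW.isCompact, ?_⟩
  have hle : Set.range (((Scheme.Opens.ι W) ≫ U.ι) ≫ f) ⊆ Set.range (Scheme.Opens.ι V) := by
    rintro _ ⟨t, rfl⟩
    rw [Scheme.Opens.range_ι, Scheme.Hom.comp_apply, Scheme.Hom.comp_apply]
    have := hWV t.2
    rwa [Scheme.Hom.comp_preimage] at this
  refine strat_pull_iso _ _ (strat_pull_iso _ _ ?_)
  rw [← IsOpenImmersion.lift_fac (Scheme.Opens.ι V) (((Scheme.Opens.ι W) ≫ U.ι) ≫ f) hle]
  exact ((hF V hV).pull _).of_iso ((pullCompIso _ (Scheme.Opens.ι V)).app F)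

theorem Strat.isConstructible {F : EtCoh.Ab X} (h : Strat F) : EtPBC.IsConstructible F :=
  (isConstructible_iff F).2 fun U _ => h.pull U.ι

theorem IsConstructible.strat [CompactSpace X] [QuasiSeparatedSpace X] {F : EtCoh.Ab X}
    (h : EtPBC.IsConstructible F) : Strat F := by
  refine Strat.of_openCover fun x => ?_
  obtain ⟨_, ⟨W, hW, rfl⟩, hxW, -⟩ := X.isBasis_affineOpens.exists_subset_of_mem_open (Set.mem_univ x) isOpen_univ
  exact ⟨W, hxW, hW.isCompact, (isConstructible_iff F).1 h W hW⟩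

end Groth.Agent.FLCLib
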