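import Groth.Agent.FLCLib.Serre
import Groth.Agent.FLCLib.Strata
/-!
Kernels, cokernels, extensions and supports of constructible sheaves.
-/

set_option autoImplicit false
set_option backward.isDefEq.respectTransparency false
set_option backward.isDefEq.respectTransparency.types false

universe u

open CategoryTheory CategoryTheory.Limits AlgebraicGeometry Opposite Topology

namespace Groth.Agent.FLCLib

open EtPtsLib

section PullExact

variable {X Y : Scheme.{u}} (f : X ⟶ Y)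

instance additive_pull : (EtCoh.pull f).Additive := (EtCoh.pullPushAdj f).left_adjoint_additive

/-- The stalk of an inverse image. -/
noncomputable def stalkPullIso {Ω : Type u} [Field Ω] [IsSepClosed Ω] (ζ : Spec (CommRingCat.of Ω) ⟶ X) :
    EtCoh.pull f ⋙ EtCoh.stalk ζ ≅ EtCoh.stalk (ζ ≫ f) :=
  pullStalkIso f ζ AddCommGrpCat.{u + 1}

theorem map_exact_pull (S : ShortComplex (EtCoh.Ab Y)) (hS : S.Exact) : (S.map (EtCoh.pull f)).Exact := by
  rw [exact_iff_ab]
  intro Ω _ _ ζ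
  have e : S.map (EtCoh.pull f ⋙ EtCoh.stalk ζ) ≅ S.map (EtCoh.stalk (ζ ≫ f)) := S.mapNatIso (stalkPullIso f ζ)
  exact ShortComplex.exact_of_iso e.symm (hS.map (EtCoh.stalk (ζ ≫ f)))

instance preservesHomology_pull : (EtCoh.pull f).PreservesHomology :=
  (EtCoh.pull f).preservesHomology_of_map_exact (map_exact_pull f)

instance preservesFiniteLimits_pull : PreservesFiniteLimits (EtCoh.pull f) :=
  (EtCoh.pull f).preservesFiniteLimits_of_preservesHomology

theorem shortExact_pull {S : ShortComplex (EtCoh.Ab Y)} (hS : S.ShortExact) : (S.map (EtCoh.pull f)).ShortExact :=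
  hS.map_of_exact (EtCoh.pull f)

end PullExact

section Stalk

variable {X : Scheme.{u}}

theorem subsingleton_iff_isZero (A : AddCommGrpCat.{u + 1}) : Subsingleton A ↔ IsZero A :=
  ⟨fun _ => AddCommGrpCat.isZero_of_subsingleton A, AddCommGrpCat.subsingleton_of_isZero⟩

theorem mem_range_of_range {Ω : Type u} [Field Ω] (ξ : Spec (CommRingCat.of Ω) ⟶ X) {x : X}
    (h : Set.range ξ = {x}) : ξ default = x := by
  have : ξ default ∈ Set.range ξ := Set.mem_range_self _
  rwa [h] at this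

theorem range_geomPt {Ω : Type u} [Field Ω] (ξ : Spec (CommRingCat.of Ω) ⟶ X) : Set.range ξ = {ξ default} := by
  refine Set.eq_singleton_iff_unique_mem.2 ⟨Set.mem_range_self _, ?_⟩
  rintro _ ⟨t, rfl⟩
  rw [Subsingleton.elim (α := ↥(Spec (CommRingCat.of Ω))) t default]

/-- Stalks at geometric points in the range of a constant piece. -/
theorem IsConstOn.isZero_stalk_iff {F : EtCoh.Ab X} {U : X.Etale} {M : AddCommGrpCat.{u + 1}}
    {θ : M ⟶ F.obj.obj (op U)} (h : IsConstOn F U θ) {Ω : Type u} [Field Ω] [IsSepClosed Ω]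
    (ξ : Spec (CommRingCat.of Ω) ⟶ X) {v : U.left} (hv : U.hom v = ξ default) :
    IsZero ((EtCoh.stalk ξ).obj F) ↔ Subsingleton M := by
  obtain ⟨l, -⟩ := Scheme.pointSmallEtaleFiberObjToPreimage_surjective ξ rfl U ⟨v, hv⟩
  rw [← subsingleton_iff_isZero]
  exact (Equiv.ofBijective _ (h Ω ξ l)).subsingleton_congr.symm

theorem flc_supp {F : EtCoh.Ab X} (hF : EtCoh.IsFiniteLocallyConstant F) :
    IsClopen (EtPBC.supp F) ∧ ∀ (Ω : Type u) [Field Ω] [IsSepClosed Ω] (ξ : Spec (CommRingCat.of Ω) ⟶ X),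
      (ξ default ∈ EtPBC.supp F ↔ ¬ IsZero ((EtCoh.stalk ξ).obj F)) := by
  have h := (finiteLocallyConstant_iff F).1 hF
  have key : ∀ (U : X.Etale) (M : AddCommGrpCat.{u + 1}) (θ : M ⟶ F.obj.obj (op U)), IsConstOn F U θ →
      ∀ x ∈ Set.range U.hom, (x ∈ EtPBC.supp F ↔ ¬ Subsingleton M) := by
    intro U M θ hθ x ⟨v, hv⟩
    constructor
    · rintro ⟨Ω, _, _, ξ, hξ, hne⟩
      exact fun hs => hne ((hθ.isZero_stalk_iff ξ (hv.trans (mem_range_of_range ξ hξ).symm)).2 hs)
    · intro hne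
      refine ⟨_, inferInstance, inferInstance, geomPt x, ?_, fun hz => hne ?_⟩
      · exact (range_geomPt _).trans (congrArg ({·}) (geomPt_default x))
      · exact (hθ.isZero_stalk_iff (geomPt x) (hv.trans (geomPt_default x).symm)).1 hz
  have ho : ∀ U : X.Etale, IsOpen (Set.range U.hom) := fun U => by
    haveI : AlgebraicGeometry.Etale U.hom := U.prop
    exact U.hom.isOpenMap.isOpen_range
  have hloc : ∀ (x : X), ∃ N : Set X, IsOpen N ∧ x ∈ N ∧ ∀ y ∈ N, (y ∈ EtPBC.supp F ↔ x ∈ EtPBC.supp F) := fun x => by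
    obtain ⟨U, M, θ, hx, -, hθ⟩ := h x
    exact ⟨_, ho U, hx, fun y hy => (key U M θ hθ y hy).trans (key U M θ hθ x hx).symm⟩
  refine ⟨⟨⟨isOpen_iff_forall_mem_open.2 fun x hx => ?_⟩, isOpen_iff_forall_mem_open.2 fun x hx => ?_⟩, ?_⟩
  · obtain ⟨N, hN, hxN, hN'⟩ := hloc x
    exact ⟨N, fun y hy hy' => hx ((hN' y hy).1 hy'), hN, hxN⟩
  · obtain ⟨N, hN, hxN, hN'⟩ := hloc x
    exact ⟨N, fun y hy => (hN' y hy).2 hx, hN, hxN⟩
  · intro Ω _ _ ξ
    obtain ⟨U, M, θ, hx, -, hθ⟩ := h (ξ default)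
    rw [key U M θ hθ _ hx]
    exact not_congr (hθ.isZero_stalk_iff ξ hx.choose_spec).symm

/-- A geometric point lying on the image of an immersion factors through it. -/
theorem exists_fac_immersion {T : Scheme.{u}} (g : T ⟶ X) [IsImmersion g] {Ω : Type u} [Field Ω]
    (ξ : Spec (CommRingCat.of Ω) ⟶ X) (h : ξ default ∈ Set.range g) :
    ∃ ζ : Spec (CommRingCat.of Ω) ⟶ T, ζ ≫ g = ξ := by
  have hs : Set.range (pullback.snd g ξ) = Set.univ := by
    rw [Scheme.Pullback.range_snd]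
    exact Set.eq_univ_of_forall fun t => by
      rw [Set.mem_preimage, Subsingleton.elim (α := ↥(Spec (CommRingCat.of Ω))) t default]; exact h
  haveI : IsClosedImmersion (pullback.snd g ξ) := .of_isPreimmersion _ (hs ▸ isClosed_univ)
  haveI : Surjective (pullback.snd g ξ) := ⟨Set.range_eq_univ.1 hs⟩
  haveI := isIso_of_isClosedImmersion_of_surjective (pullback.snd g ξ)
  exact ⟨inv (pullback.snd g ξ) ≫ pullback.fst g ξ, by rw [Category.assoc, pullback.condition, IsIso.inv_hom_id_assoc]⟩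

theorem supp_pull {T : Scheme.{u}} (g : T ⟶ X) [IsImmersion g] (F : EtCoh.Ab X) :
    EtPBC.supp ((EtCoh.pull g).obj F) = g ⁻¹' EtPBC.supp F := by
  ext t
  constructor
  · rintro ⟨Ω, _, _, ζ, hζ, hne⟩
    refine ⟨Ω, inferInstance, inferInstance, ζ ≫ g, ?_, fun hz => hne (hz.of_iso ((stalkPullIso g ζ).app F))⟩
    rw [range_geomPt, Scheme.Hom.comp_apply, mem_range_of_range ζ hζ]
  · rintro ⟨Ω, _, _, ξ, hξ, hne⟩
    obtain ⟨ζ, rfl⟩ := exists_fac_immersion g ξ ⟨t, (mem_range_of_range ξ hξ).symm⟩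
    refine ⟨Ω, inferInstance, inferInstance, ζ, ?_, fun hz => hne (hz.of_iso ((stalkPullIso g ζ).app F).symm)⟩
    rw [range_geomPt]
    have := mem_range_of_range (ζ ≫ g) hξ
    rw [Scheme.Hom.comp_apply] at this
    rw [g.isEmbedding.injective this]

theorem Strat.isConstructible_supp [CompactSpace X] [QuasiSeparatedSpace X] {F : EtCoh.Ab X} (h : Strat F) :
    IsConstructible (EtPBC.supp F) ∧ ∀ (Ω : Type u) [Field Ω] [IsSepClosed Ω] (ξ : Spec (CommRingCat.of Ω) ⟶ X),
      (ξ default ∈ EtPBC.supp F ↔ ¬ IsZero ((EtCoh.stalk ξ).obj F)) := by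
  obtain ⟨ι, _, T, g, hg, hc, hcov, hF⟩ := h
  constructor
  · have e : EtPBC.supp F = ⋃ i, g i '' EtPBC.supp ((EtCoh.pull (g i)).obj F) := by
      ext x
      constructor
      · intro hx
        obtain ⟨i, t, rfl⟩ := hcov x
        haveI := hg i
        exact Set.mem_iUnion.2 ⟨i, t, (supp_pull (g i) F).symm ▸ hx, rfl⟩
      · intro hx
        obtain ⟨i, t, ht, rfl⟩ := Set.mem_iUnion.1 hx
        haveI := hg i
        rw [supp_pull] at ht
        exact ht
    rw [e]
    refine IsConstructible.iUnion fun i => ?_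
    haveI := hg i
    haveI : CompactSpace (T i) := by
      rw [← isCompact_univ_iff, (g i).isEmbedding.isInducing.isCompact_iff, Set.image_univ]
      exact isCompact_of_isConstructible (hc i)
    haveI := quasiSeparatedSpace_of_isEmbedding (g i).isEmbedding (hc i)
    exact isConstructible_image_of_isEmbedding (g i).isEmbedding (hc i)
      ((flc_supp (hF i)).1.isClosed.isCompact.isConstructible (flc_supp (hF i)).1.isOpen)
  · intro Ω _ _ ξ
    obtain ⟨i, hi⟩ := hcov (ξ default)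
    haveI := hg i
    obtain ⟨ζ, rfl⟩ := exists_fac_immersion (g i) ξ hi
    rw [Scheme.Hom.comp_apply, ← Set.mem_preimage, ← supp_pull, (flc_supp (hF i)).2 Ω ζ]
    exact not_congr ⟨fun hz => hz.of_iso ((stalkPullIso (g i) ζ).app F).symm, fun hz => hz.of_iso ((stalkPullIso (g i) ζ).app F)⟩

end Stalk

section Serre

variable {X : Scheme.{u}}

theorem flc_pull_congr {Y : Scheme.{u}} {f g : X ⟶ Y} (e : f = g) {F : EtCoh.Ab Y}
    (h : EtCoh.IsFiniteLocallyConstant ((EtCoh.pull f).obj F)) :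
    EtCoh.IsFiniteLocallyConstant ((EtCoh.pull g).obj F) := by subst e; exact h

theorem Strat.common {F G : EtCoh.Ab X} (hF : Strat F) (hG : Strat G) :
    ∃ (ι : Type u) (_ : Finite ι) (T : ι → Scheme.{u}) (g : ∀ i, T i ⟶ X),
      (∀ i, IsImmersion (g i)) ∧ (∀ i, IsConstructible (Set.range (g i))) ∧ (∀ x, ∃ i, x ∈ Set.range (g i)) ∧
      ∀ i, EtCoh.IsFiniteLocallyConstant ((EtCoh.pull (g i)).obj F) ∧
        EtCoh.IsFiniteLocallyConstant ((EtCoh.pull (g i)).obj G) := by
  obtain ⟨ι, _, T, g, hg, hc, hcov, hF⟩ := hF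
  obtain ⟨κ, _, S, s, hs, hd, hcov', hG⟩ := hG
  refine ⟨ι × κ, inferInstance, fun p => Limits.pullback (g p.1) (s p.2),
    fun p => pullback.fst (g p.1) (s p.2) ≫ g p.1, fun p => ?_, fun p => ?_, fun x => ?_,
    fun p => ⟨flc_pull_comp _ _ (hF p.1), flc_pull_congr pullback.condition.symm (flc_pull_comp _ _ (hG p.2))⟩⟩
  · haveI := hg p.1; haveI := hs p.2; infer_instance
  · rw [Scheme.Pullback.range_fst_comp]; exact (hc p.1).inter (hd p.2)
  · obtain ⟨i, hi⟩ := hcov x
    obtain ⟨k, hk⟩ := hcov' x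
    exact ⟨(i, k), by rw [Scheme.Pullback.range_fst_comp]; exact ⟨hi, hk⟩⟩

theorem Strat.kernel_cokernel {F G : EtCoh.Ab X} (φ : F ⟶ G) (hF : Strat F) (hG : Strat G) :
    Strat (kernel φ) ∧ Strat (cokernel φ) := by
  obtain ⟨ι, _, T, g, hg, hc, hcov, h⟩ := hF.common hG
  have P := fun i => fun K : EtCoh.Ab (T i) => finiteLocallyConstant_iff K
  exact ⟨⟨ι, inferInstance, T, g, hg, hc, hcov, fun i => isFiniteLocallyConstant_of_iso
      (PreservesKernel.iso (EtCoh.pull (g i)) φ).symm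
      ((P i _).2 (locConst_kernel _ ((P i _).1 (h i).1) ((P i _).1 (h i).2)))⟩,
    ⟨ι, inferInstance, T, g, hg, hc, hcov, fun i => isFiniteLocallyConstant_of_iso
      (PreservesCokernel.iso (EtCoh.pull (g i)) φ).symm
      ((P i _).2 (locConst_cokernel _ ((P i _).1 (h i).1) ((P i _).1 (h i).2)))⟩⟩

theorem Strat.extension (S : ShortComplex (EtCoh.Ab X)) (hS : S.ShortExact) (h1 : Strat S.X₁) (h3 : Strat S.X₃) :
    Strat S.X₂ := by
  obtain ⟨ι, _, T, g, hg, hc, hcov, h⟩ := h1.common h3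
  exact ⟨ι, inferInstance, T, g, hg, hc, hcov, fun i => (finiteLocallyConstant_iff _).2
    (locConst_extension _ (shortExact_pull (g i) hS) ((finiteLocallyConstant_iff _).1 (h i).1)
      ((finiteLocallyConstant_iff _).1 (h i).2))⟩

theorem isConstructible_kernel_cokernel {F G : EtCoh.Ab X} (φ : F ⟶ G) (hF : EtPBC.IsConstructible F)
    (hG : EtPBC.IsConstructible G) : EtPBC.IsConstructible (kernel φ) ∧ EtPBC.IsConstructible (cokernel φ) := by
  rw [isConstructible_iff] at hF hG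
  refine ⟨(isConstructible_iff _).2 fun U hU => ?_, (isConstructible_iff _).2 fun U hU => ?_⟩
  · exact (Strat.kernel_cokernel ((EtCoh.pull U.ι).map φ) (hF U hU) (hG U hU)).1.of_iso
      (PreservesKernel.iso (EtCoh.pull U.ι) φ).symm
  · exact (Strat.kernel_cokernel ((EtCoh.pull U.ι).map φ) (hF U hU) (hG U hU)).2.of_iso
      (PreservesCokernel.iso (EtCoh.pull U.ι) φ).symm

theorem isConstructible_extension (S : ShortComplex (EtCoh.Ab X)) (hS : S.ShortExact)
    (h1 : EtPBC.IsConstructible S.X₁) (h3 : EtPBC.IsConstructible S.X₃) : EtPBC.IsConstructible S.X₂ := by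
  rw [isConstructible_iff] at h1 h3 ⊢
  exact fun U hU => Strat.extension _ (shortExact_pull U.ι hS) (h1 U hU) (h3 U hU)

theorem isLocallyConstructible_supp {F : EtCoh.Ab X} (hF : EtPBC.IsConstructible F) :
    IsLocallyConstructible (EtPBC.supp F) := fun x => by
  obtain ⟨_, ⟨U, hU, rfl⟩, hxU, -⟩ := X.isBasis_affineOpens.exists_subset_of_mem_open (Set.mem_univ x) isOpen_univ
  refine ⟨U, U.2.mem_nhds hxU, U.2, ?_⟩
  haveI : IsAffine (Scheme.Opens.toScheme U) := hU
  show IsConstructible ((Scheme.Opens.ι U) ⁻¹' EtPBC.supp F)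
  rw [← supp_pull (Scheme.Opens.ι U) F]
  exact ((isConstructible_iff F).1 hF U hU).isConstructible_supp.1

end Serre

end Groth.Agent.FLCLib
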