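import Groth.Agent.S0133
import Groth.Agent.S0132
import Groth.Agent.S0141
import Groth.Agent.FLCLib.Sub
/-!
Torsion sheaves are generated by extensions by zero of finite constant sheaves.
-/

set_option autoImplicit false
set_option backward.isDefEq.respectTransparency false

universe u

open CategoryTheory CategoryTheory.Limits AlgebraicGeometry Opposite Topology

namespace Groth.Agent.FLCLib

open EtPtsLib

variable {X : Scheme.{u}}

theorem killedBy_iff (n : ℕ) (F : EtCoh.Ab X) : EtCoh.KilledBy n F ↔ n • 𝟙 F = 0 := by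
  have e : ∀ (U : X.Etale) (s : EtCoh.sect F U), (n • 𝟙 F : F ⟶ F).hom.app (op U) s = n • s := fun U s => rfl
  constructor
  · intro h
    ext U s
    exact (e U.unop s).trans (h U.unop s)
  · intro h U s
    rw [← e U s, h]
    rfl

theorem killedBy_of_epi {n : ℕ} {F Q : EtCoh.Ab X} (π : F ⟶ Q) [Epi π] (h : EtCoh.KilledBy n F) :
    EtCoh.KilledBy n Q := by
  rw [killedBy_iff] at h ⊢
  rw [← cancel_epi π, comp_zero, Preadditive.comp_nsmul, Category.comp_id, ← Category.id_comp π,
    ← Preadditive.nsmul_comp, h, zero_comp]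

theorem killedBy_mul_left {n : ℕ} {F : EtCoh.Ab X} (m : ℕ) (h : EtCoh.KilledBy n F) :
    EtCoh.KilledBy (m * n) F := fun U s => by rw [mul_smul, h U s, smul_zero]

theorem killedBy_mul_right {n : ℕ} {F : EtCoh.Ab X} (m : ℕ) (h : EtCoh.KilledBy n F) :
    EtCoh.KilledBy (n * m) F := mul_comm m n ▸ killedBy_mul_left m h

theorem killedBy_extZeroConst (U : X.Etale) (n : ℕ) : EtCoh.KilledBy n (EtPBC.extZeroConst U (ZMod n)) := by
  rw [killedBy_iff]
  let M := AddCommGrpCat.of (ULift.{u + 1} (ZMod n))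
  have hM : n • 𝟙 M = 0 := by
    ext x
    exact ZModModule.char_nsmul_eq_zero n (G := ZMod n) x.down
  have h1 := congrArg ((constantSheaf (X.smallEtaleTopology.over U) AddCommGrpCat.{u + 1}).map) hM
  rw [Functor.map_nsmul, Functor.map_zero, CategoryTheory.Functor.map_id] at h1
  haveI : (X.smallEtaleTopology.overPullback AddCommGrpCat.{u + 1} U).Additive := ⟨fun {F G f g} => rfl⟩
  haveI : (EtPBC.extZero U).Additive := (EtPBC.extZeroAdj U).left_adjoint_additive
  have h2 := congrArg ((EtPBC.extZero U).map) h1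
  rw [Functor.map_nsmul, Functor.map_zero, CategoryTheory.Functor.map_id] at h2
  exact h2

/-- A section killed by `n` comes from `j_! (ℤ/n)`. -/
theorem exists_hom_sect (F : EtCoh.Ab X) {U : X.Etale} (n : ℕ) (s : EtCoh.sect F U) (hs : n • s = 0) :
    ∃ (φ : EtPBC.extZeroConst U (ZMod n) ⟶ F) (e : EtCoh.sect (EtPBC.extZeroConst U (ZMod n)) U),
      φ.hom.app (op U) e = s := by
  let f : ZMod n →+ EtCoh.sect F U := ZMod.lift n ⟨zmultiplesHom _ s, by simpa using hs⟩
  let M := AddCommGrpCat.of (ULift.{u + 1} (ZMod n))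
  let A := (constantSheafAdj (X.smallEtaleTopology.over U) AddCommGrpCat.{u + 1} (Over.mkIdTerminal (X := U))).comp
    (EtPBC.extZeroAdj U)
  let a : M ⟶ F.obj.obj (op U) := AddCommGrpCat.ofHom (f.comp AddEquiv.ulift.toAddMonoidHom)
  refine ⟨(A.homEquiv M F).symm a, A.unit.app M ⟨1⟩, ?_⟩
  have e := (A.homEquiv M F).apply_symm_apply a
  rw [Adjunction.homEquiv_unit] at e
  refine (congrArg (fun b : M ⟶ F.obj.obj (op U) => b ⟨1⟩) e).trans ?_
  show f (1 : ZMod n) = s
  rw [← Int.cast_one, ZMod.lift_coe]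
  simp

/-- Every stalk element of a torsion sheaf lies in the image of some `j_! (ℤ/n)`. -/
theorem exists_gen {F : EtCoh.Ab X} (hF : EtCoh.IsTorsion F) {Ω : Type u} [Field Ω] [IsSepClosed Ω]
    (ξ : Spec (CommRingCat.of Ω) ⟶ X) (b : (EtCoh.stalk ξ).obj F) :
    ∃ (U : X.Etale) (_ : IsAffine U.left) (n : ℕ) (_ : 0 < n) (φ : EtPBC.extZeroConst U (ZMod n) ⟶ F)
      (c : (EtCoh.stalk ξ).obj (EtPBC.extZeroConst U (ZMod n))), (EtCoh.stalk ξ).map φ c = b := by
  obtain ⟨U, l, s, rfl⟩ := (Scheme.pointSmallEtale ξ).toPresheafFiber_jointly_surjective b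
  obtain ⟨V, g, hx, hn⟩ := hF U s (liftHom ξ l default)
  obtain ⟨v, hv⟩ := hx
  obtain ⟨W, hW, hvW, -⟩ := exists_isAffineOpen_mem_and_subset (show v ∈ (⊤ : V.left.Opens) from trivial)
  obtain ⟨w, hw⟩ := exists_fiber_map_eq ξ (EtPointClass.incl V W ≫ g) l ⟨v, hvW⟩ ((Scheme.Hom.comp_apply _ _ _).trans hv)
  let n := addOrderOf (F.obj.map g.op s)
  have hs : n • F.obj.map (EtPointClass.incl V W ≫ g).op s = 0 := by
    rw [← sect_map_map F g (EtPointClass.incl V W) s, ← map_nsmul, addOrderOf_nsmul_eq_zero, map_zero]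
  obtain ⟨φ, e, he⟩ := exists_hom_sect F n _ hs
  refine ⟨EtPointClass.sub V W, hW, n, hn.addOrderOf_pos, φ, germ ξ _ w e, ?_⟩
  rw [germ_app, he, germ_map, hw]
  rfl

theorem isConstructible_extZeroConst_zmod [CompactSpace X] [QuasiSeparatedSpace X] (U : X.Etale) [IsAffine U.left]
    (n : ℕ) (hn : 0 < n) : EtPBC.IsConstructible (EtPBC.extZeroConst U (ZMod n)) := by
  haveI : NeZero n := ⟨hn.ne'⟩
  exact S0133.result X U (ZMod n)

theorem killedBy_biprod {n : ℕ} {F G : EtCoh.Ab X} (hF : EtCoh.KilledBy n F) (hG : EtCoh.KilledBy n G) :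
    EtCoh.KilledBy n (F ⊞ G) := by
  rw [killedBy_iff] at hF hG ⊢
  refine biprod.hom_ext' _ _ ?_ ?_
  · rw [Preadditive.comp_nsmul, Category.comp_id, comp_zero, ← Category.id_comp biprod.inl,
      ← Preadditive.nsmul_comp, hF, zero_comp]
  · rw [Preadditive.comp_nsmul, Category.comp_id, comp_zero, ← Category.id_comp biprod.inr,
      ← Preadditive.nsmul_comp, hG, zero_comp]

theorem isConstructible_biprod {n : ℕ} (hn : 0 < n) {F G : EtCoh.Ab X} (hF : EtCoh.KilledBy n F)
    (hG : EtCoh.KilledBy n G) (h1 : EtPBC.IsConstructible F) (h2 : EtPBC.IsConstructible G) :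
    EtPBC.IsConstructible (F ⊞ G) :=
  S0132.result (ShortComplex.mk (biprod.inl : F ⟶ F ⊞ G) biprod.snd (by simp))
    (ShortComplex.Splitting.shortExact (ShortComplex.Splitting.ofHasBinaryBiproduct F G))
    n hn (killedBy_biprod hF hG) h1 h2

/-- On a noetherian scheme a torsion sheaf which is a noetherian object is constructible. -/
theorem isConstructible_of_noetherian [IsNoetherian X] {F : EtCoh.Ab X} (hF : EtCoh.IsTorsion F)
    [IsNoetherianObject F] : EtPBC.IsConstructible F := by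
  let S : Set (Subobject F) := {G | EtPBC.IsConstructible (G : EtCoh.Ab X) ∧ ∃ n, 0 < n ∧ EtCoh.KilledBy n (G : EtCoh.Ab X)}
  have step : ∀ {E : EtCoh.Ab X} (n : ℕ), 0 < n → EtCoh.KilledBy n E → EtPBC.IsConstructible E →
      ∀ ψ : E ⟶ F, imageSubobject ψ ∈ S := fun n hn hE hEc ψ =>
    ⟨S0141.result X (factorThruImageSubobject ψ) n hn hE hEc, n, hn, killedBy_of_epi (factorThruImageSubobject ψ) hE⟩
  have hne : S.Nonempty := by
    haveI : IsAffine (EtPointClass.sub (EtCoh.top X) ⊥).left := isAffineOpen_bot (EtCoh.top X).left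
    exact ⟨_, step 1 one_pos (killedBy_extZeroConst _ 1)
      (isConstructible_extZeroConst_zmod (EtPointClass.sub (EtCoh.top X) ⊥) 1 one_pos) 0⟩
  obtain ⟨G, ⟨hGc, n, hn, hGn⟩, hmax⟩ := exists_maximal_of_wellFoundedGT (fun G => G ∈ S) hne
  haveI : Epi G.arrow := (epi_iff_ab G.arrow).2 fun Ω _ _ ξ b => by
    obtain ⟨U, hU, m, hm, φ, c, hc⟩ := exists_gen hF ξ b
    let E := (G : EtCoh.Ab X) ⊞ EtPBC.extZeroConst U (ZMod m)
    have h1 : EtCoh.KilledBy (n * m) (G : EtCoh.Ab X) := killedBy_mul_right m hGn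
    have h2 : EtCoh.KilledBy (n * m) (EtPBC.extZeroConst U (ZMod m)) := killedBy_mul_left n (killedBy_extZeroConst U m)
    have hS := step (n * m) (Nat.mul_pos hn hm) (killedBy_biprod h1 h2)
      (isConstructible_biprod (Nat.mul_pos hn hm) h1 h2 hGc (isConstructible_extZeroConst_zmod U m hm))
      (biprod.desc G.arrow φ)
    have hle : G ≤ imageSubobject (biprod.desc G.arrow φ) :=
      Subobject.le_of_comm (biprod.inl ≫ factorThruImageSubobject _) (by simp)
    have hge := hmax hS hle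
    refine ⟨(EtCoh.stalk ξ).map (Subobject.ofLE _ _ hge)
      ((EtCoh.stalk ξ).map (biprod.inr ≫ factorThruImageSubobject (biprod.desc G.arrow φ)) c), ?_⟩
    rw [← ConcreteCategory.comp_apply, ← Functor.map_comp, ← ConcreteCategory.comp_apply, ← Functor.map_comp]
    simpa using hc
  haveI : IsIso G.arrow := isIso_of_mono_of_epi _
  exact isConstructible_of_iso (asIso G.arrow) hGc

end Groth.Agent.FLCLib
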