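import Groth.Agent.FLCLib.Basic
/-!
Maps and extensions of constant sheaves spread out from a geometric point to a neighbourhood.
-/

set_option autoImplicit false
set_option backward.isDefEq.respectTransparency false
set_option backward.isDefEq.respectTransparency.types false

universe u

open CategoryTheory CategoryTheory.Limits AlgebraicGeometry Opposite GrothendieckTopology

namespace Groth.Agent.FLCLib

open EtPtsLib

variable {X : Scheme.{u}} {Ω : Type u} [Field Ω] [IsSepClosed Ω] (ξ : Spec (CommRingCat.of Ω) ⟶ X)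

/-- An étale neighbourhood of a geometric point. -/
abbrev Nbhd : Type (u + 1) := (Scheme.pointSmallEtale ξ).fiber.Elements

variable {ξ}

theorem germ_app {F G : EtCoh.Ab X} (φ : F ⟶ G) {U : X.Etale} (l : (Scheme.pointSmallEtale ξ).fiber.obj U)
    (s : EtCoh.sect F U) : (EtCoh.stalk ξ).map φ (germ ξ F l s) = germ ξ G l (φ.hom.app (op U) s) :=
  (Scheme.pointSmallEtale ξ).toPresheafFiber_naturality_apply φ.hom U l s

theorem sect_map_map (F : EtCoh.Ab X) {U V W : X.Etale} (g : V ⟶ U) (k : W ⟶ V) (s : EtCoh.sect F U) :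
    F.obj.map k.op (F.obj.map g.op s) = F.obj.map (k ≫ g).op s := by
  rw [op_comp, F.obj.map_comp]
  rfl

theorem exists_forall_map_eq (F : EtCoh.Ab X) (p : Nbhd ξ) {ι : Type*} [Finite ι] (s t : ι → EtCoh.sect F p.1)
    (h : ∀ i, germ ξ F p.2 (s i) = germ ξ F p.2 (t i)) :
    ∃ (q : Nbhd ξ) (g : q ⟶ p), ∀ i, F.obj.map g.1.op (s i) = F.obj.map g.1.op (t i) := by
  classical
  haveI := Fintype.ofFinite ι
  suffices ∀ S : Finset ι, ∃ (q : Nbhd ξ) (g : q ⟶ p), ∀ i ∈ S, F.obj.map g.1.op (s i) = F.obj.map g.1.op (t i) by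
    obtain ⟨q, g, hg⟩ := this Finset.univ
    exact ⟨q, g, fun i => hg i (Finset.mem_univ i)⟩
  intro S
  induction S using Finset.induction with
  | empty => exact ⟨p, 𝟙 p, fun i hi => absurd hi (Finset.notMem_empty i)⟩
  | insert i S _ ih =>
    obtain ⟨q, g, hg⟩ := ih
    have e : germ ξ F q.2 (F.obj.map g.1.op (s i)) = germ ξ F q.2 (F.obj.map g.1.op (t i)) := by
      rw [germ_map, germ_map, g.2]; exact h i
    obtain ⟨W, k, y, hy, hk⟩ := ((Scheme.pointSmallEtale ξ).toPresheafFiber_eq_iff' q.1 q.2 _ _).1 e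
    let q' : Nbhd ξ := ⟨W, y⟩
    let k' : q' ⟶ q := ⟨k, hy⟩
    refine ⟨q', k' ≫ g, fun j hj => ?_⟩
    show F.obj.map (k ≫ g.1).op (s j) = F.obj.map (k ≫ g.1).op (t j)
    rw [← sect_map_map, ← sect_map_map]
    rcases Finset.mem_insert.1 hj with rfl | hj
    · exact hk
    · exact congrArg _ (hg j hj)

theorem exists_forall_germ_eq (F : EtCoh.Ab X) (p : Nbhd ξ) {ι : Type*} [Finite ι]
    (b : ι → (EtCoh.stalk ξ).obj F) :
    ∃ (q : Nbhd ξ) (_ : q ⟶ p) (t : ι → EtCoh.sect F q.1), ∀ i, germ ξ F q.2 (t i) = b i := by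
  classical
  haveI := Fintype.ofFinite ι
  choose W y s hs using fun i => (Scheme.pointSmallEtale ξ).toPresheafFiber_jointly_surjective (b i)
  haveI : IsCofiltered (Nbhd ξ) := inferInstance
  let e : ι → Nbhd ξ := fun i => ⟨W i, y i⟩
  obtain ⟨q, hq⟩ := IsCofiltered.inf_objs_exists (insert p (Finset.univ.image fun i => e i))
  let g := fun i => (hq (Finset.mem_insert_of_mem (Finset.mem_image.2 ⟨i, Finset.mem_univ i, rfl⟩) :
    e i ∈ insert p (Finset.univ.image fun i => e i))).some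
  refine ⟨q, (hq (Finset.mem_insert_self _ _)).some, fun i => F.obj.map (g i).1.op (s i), fun i => ?_⟩
  rw [germ_map, (g i).2]
  exact hs i

theorem IsConstOn.isIso_germ {F : EtCoh.Ab X} {U : X.Etale} {M : AddCommGrpCat.{u + 1}} {θ : M ⟶ F.obj.obj (op U)}
    (h : IsConstOn F U θ) (l : (Scheme.pointSmallEtale ξ).fiber.obj U) :
    IsIso (θ ≫ (Scheme.pointSmallEtale ξ).toPresheafFiber U l F.obj) :=
  (ConcreteCategory.isIso_iff_bijective _).2 (h Ω ξ l)

/-- A map between constant sheaves is given near a point by a map of the groups. -/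
theorem exists_groupHom {F G : EtCoh.Ab X} (φ : F ⟶ G) {U V : X.Etale} {M N : AddCommGrpCat.{u + 1}}
    {θ : M ⟶ F.obj.obj (op U)} {η : N ⟶ G.obj.obj (op V)} (hG : IsConstOn G V η)
    [Finite M] (l : (Scheme.pointSmallEtale ξ).fiber.obj U) (l' : (Scheme.pointSmallEtale ξ).fiber.obj V) :
    ∃ (p : Nbhd ξ) (g : p ⟶ ⟨U, l⟩) (g' : p ⟶ ⟨V, l'⟩) (h : M ⟶ N),
      θ ≫ F.obj.map g.1.op ≫ φ.hom.app (op p.1) = h ≫ η ≫ G.obj.map g'.1.op := by
  obtain ⟨p₀, g₀, g₀', -⟩ := IsCofilteredOrEmpty.cone_objs (C := Nbhd ξ) ⟨U, l⟩ ⟨V, l'⟩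
  let A := θ ≫ F.obj.map g₀.1.op ≫ φ.hom.app (op p₀.1)
  let B := η ≫ G.obj.map g₀'.1.op
  let c := (Scheme.pointSmallEtale ξ).toPresheafFiber p₀.1 p₀.2 G.obj
  haveI : IsIso (B ≫ c) := (hG.map g₀'.1).isIso_germ p₀.2
  let h : M ⟶ N := (A ≫ c) ≫ inv (B ≫ c)
  have hh : (h ≫ B) ≫ c = A ≫ c := by simp [h]
  obtain ⟨q, k, hk⟩ := exists_forall_map_eq G p₀ (fun m : M => A m) (fun m => (h ≫ B) m)
    fun m => (ConcreteCategory.congr_hom hh m).symm
  refine ⟨q, k ≫ g₀, k ≫ g₀', h, ?_⟩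
  ext m
  show φ.hom.app (op q.1) (F.obj.map (k.1 ≫ g₀.1).op (θ m)) = G.obj.map (k.1 ≫ g₀'.1).op (η (h m))
  rw [← sect_map_map, ← sect_map_map]
  exact (NatTrans.naturality_apply φ.hom k.1.op _).trans (hk m)

variable (ξ)

theorem Nbhd.mem_range (p : Nbhd ξ) : ξ default ∈ Set.range p.1.hom :=
  ⟨liftHom ξ p.2 default, (Scheme.Hom.comp_apply _ _ _).symm.trans (congrArg (fun h : Spec (CommRingCat.of Ω) ⟶ X => h default) (liftHom_comp ξ p.2))⟩

omit ξ in
/-- A neighbourhood of the point gives a member of the covering and a geometric point with lifts. -/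
theorem exists_geomPt_lift {x : X} {U : X.Etale} (hx : x ∈ Set.range U.hom) :
    Nonempty ((Scheme.pointSmallEtale (geomPt x)).fiber.obj U) := by
  obtain ⟨v, rfl⟩ := hx
  exact ⟨(exists_lift_geomPt v).choose⟩

end Groth.Agent.FLCLib
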