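import Groth.Agent.FLCLib.Hom
import Mathlib.Algebra.Homology.ShortComplex.Ab
/-!
Kernels, cokernels and extensions of finite locally constant sheaves.
-/

set_option autoImplicit false
set_option backward.isDefEq.respectTransparency false
set_option backward.isDefEq.respectTransparency.types false

universe u

open CategoryTheory CategoryTheory.Limits AlgebraicGeometry Opposite GrothendieckTopology

namespace Groth.Agent.FLCLib

open EtPtsLib

variable {X : Scheme.{u}}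

instance preservesZero_stalk {Ω : Type u} [Field Ω] [IsSepClosed Ω] (ξ : Spec (CommRingCat.of Ω) ⟶ X) :
    (EtCoh.stalk ξ).PreservesZeroMorphisms := inferInstance

theorem germ_apply_comp {F G : EtCoh.Ab X} (φ : F ⟶ G) {U : X.Etale} {M : AddCommGrpCat.{u + 1}}
    (θ : M ⟶ F.obj.obj (op U)) {Ω : Type u} [Field Ω] [IsSepClosed Ω] {ξ : Spec (CommRingCat.of Ω) ⟶ X}
    (l : (Scheme.pointSmallEtale ξ).fiber.obj U) (m : M) :
    germ ξ G l ((θ ≫ φ.hom.app (op U)) m) = (EtCoh.stalk ξ).map φ (germ ξ F l (θ m)) :=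
  (germ_app φ l (θ m)).symm

theorem germ_zero (F : EtCoh.Ab X) {U : X.Etale} {Ω : Type u} [Field Ω] [IsSepClosed Ω] {ξ : Spec (CommRingCat.of Ω) ⟶ X}
    (l : (Scheme.pointSmallEtale ξ).fiber.obj U) : germ ξ F l (0 : EtCoh.sect F U) = 0 :=
  map_zero ((Scheme.pointSmallEtale ξ).toPresheafFiber U l F.obj).hom

theorem germ_sub (F : EtCoh.Ab X) {U : X.Etale} {Ω : Type u} [Field Ω] [IsSepClosed Ω] {ξ : Spec (CommRingCat.of Ω) ⟶ X}
    (l : (Scheme.pointSmallEtale ξ).fiber.obj U) (a b : EtCoh.sect F U) :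
    germ ξ F l (a - b) = germ ξ F l a - germ ξ F l b :=
  map_sub ((Scheme.pointSmallEtale ξ).toPresheafFiber U l F.obj).hom a b

theorem locConst_kernel {F G : EtCoh.Ab X} (φ : F ⟶ G) (hF : LocConst (fun M => Finite M) F)
    (hG : LocConst (fun M => Finite M) G) : LocConst (fun M => Finite M) (kernel φ) := fun x => by
  obtain ⟨U, M, θ, hx, hM, hθ⟩ := hF x
  obtain ⟨V, N, η, hx', -, hη⟩ := hG x
  obtain ⟨l⟩ := exists_geomPt_lift hx
  obtain ⟨l'⟩ := exists_geomPt_lift hx'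
  haveI : Finite M := hM
  obtain ⟨p, g, g', h, e⟩ := exists_groupHom φ hη l l' (θ := θ)
  let θ' := θ ≫ F.obj.map g.1.op
  let η' := η ≫ G.obj.map g'.1.op
  have e' : θ' ≫ φ.hom.app (op p.1) = h ≫ η' := by simpa [θ', η', Category.assoc] using e
  let K : AddCommGrpCat.{u + 1} := AddCommGrpCat.of h.hom.ker
  let ι : K ⟶ M := AddCommGrpCat.ofHom h.hom.ker.subtype
  have hι : ι ≫ h = 0 := by ext k; exact k.2
  let P := sheafToPresheaf X.smallEtaleTopology AddCommGrpCat.{u + 1} ⋙ (evaluation _ _).obj (op p.1)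
  have hk := isLimitForkMapOfIsLimit' P (kernel.condition φ) (kernelIsKernel φ)
  let w := KernelFork.IsLimit.lift' hk (ι ≫ θ') (by
    rw [Category.assoc]
    exact (congrArg (ι ≫ ·) e').trans (by rw [← Category.assoc, hι, zero_comp]))
  have hw : w.1 ≫ (kernel.ι φ).hom.app (op p.1) = ι ≫ θ' := w.2
  refine ⟨p.1, K, w.1, by have := Nbhd.mem_range _ p; rwa [geomPt_default] at this, (inferInstance : Finite h.hom.ker),
    fun Ω _ _ ξ z => ?_⟩
  have hex := ((ShortComplex.exact_of_f_is_kernel (ShortComplex.mk _ _ (kernel.condition φ))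
    (kernelIsKernel φ))).map (EtCoh.stalk ξ)
  have hinj : Function.Injective ((EtCoh.stalk ξ).map (kernel.ι φ)) := (mono_iff_ab _).1 inferInstance Ω ξ
  have hg : ∀ k : K, (EtCoh.stalk ξ).map (kernel.ι φ) (germ ξ _ z (w.1 k)) = germ ξ F z (θ' k.1) := fun k =>
    (germ_app (kernel.ι φ) z (w.1 k)).trans (congrArg (germ ξ F z) (ConcreteCategory.congr_hom hw k))
  refine ⟨fun k k' hkk => Subtype.ext ((hθ.map g.1 Ω ξ z).1 ?_), fun b => ?_⟩
  · exact (hg k).symm.trans ((congrArg _ hkk).trans (hg k'))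
  · obtain ⟨m, hm⟩ := (hθ.map g.1 Ω ξ z).2 ((EtCoh.stalk ξ).map (kernel.ι φ) b)
    have h0 : (EtCoh.stalk ξ).map φ ((EtCoh.stalk ξ).map (kernel.ι φ) b) = 0 := by
      rw [← ConcreteCategory.comp_apply, ← Functor.map_comp, kernel.condition, Functor.map_zero]; rfl
    have hm0 : h m = 0 := (hη.map g'.1 Ω ξ z).1 (by
      show germ ξ G z (η' (h m)) = germ ξ G z (η' 0)
      refine Eq.trans ?_ ((germ_zero G z).symm.trans (congrArg (germ ξ G z) (map_zero η'.hom).symm))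
      rw [← h0, ← hm]
      exact (congrArg (germ ξ G z) (ConcreteCategory.congr_hom e' m)).symm.trans
        (germ_apply_comp φ θ' z m))
    exact ⟨⟨m, hm0⟩, hinj ((hg _).trans hm)⟩

theorem locConst_cokernel {F G : EtCoh.Ab X} (φ : F ⟶ G) (hF : LocConst (fun M => Finite M) F)
    (hG : LocConst (fun M => Finite M) G) : LocConst (fun M => Finite M) (cokernel φ) := fun x => by
  obtain ⟨U, M, θ, hx, hM, hθ⟩ := hF x
  obtain ⟨V, N, η, hx', hN, hη⟩ := hG x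
  obtain ⟨l⟩ := exists_geomPt_lift hx
  obtain ⟨l'⟩ := exists_geomPt_lift hx'
  haveI : Finite M := hM
  haveI : Finite N := hN
  obtain ⟨p, g, g', h, e⟩ := exists_groupHom φ hη l l' (θ := θ)
  let θ' := θ ≫ F.obj.map g.1.op
  let η' := η ≫ G.obj.map g'.1.op
  have e' : θ' ≫ φ.hom.app (op p.1) = h ≫ η' := by simpa [θ', η', Category.assoc] using e
  let π := η' ≫ (cokernel.π φ).hom.app (op p.1)
  have hπ : ∀ m : M, π (h m) = 0 := fun m => by
    refine (congrArg ((cokernel.π φ).hom.app (op p.1)) (ConcreteCategory.congr_hom e' m).symm).trans ?_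
    exact ConcreteCategory.congr_hom (congrArg (fun a => a.hom.app (op p.1)) (cokernel.condition φ)) (θ' m)
  let Q : AddCommGrpCat.{u + 1} := AddCommGrpCat.of (N ⧸ h.hom.range)
  let w : Q ⟶ (cokernel φ).obj.obj (op p.1) := AddCommGrpCat.ofHom (QuotientAddGroup.lift h.hom.range π.hom (by
    rintro n ⟨m, rfl⟩; exact hπ m))
  refine ⟨p.1, Q, w, by have := Nbhd.mem_range _ p; rwa [geomPt_default] at this, (inferInstance : Finite (N ⧸ h.hom.range)),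
    fun Ω _ _ ξ z => ?_⟩
  have hex := (ShortComplex.ab_exact_iff _).1 (((ShortComplex.exact_of_g_is_cokernel
    (ShortComplex.mk _ _ (cokernel.condition φ)) (cokernelIsCokernel φ))).map (EtCoh.stalk ξ))
  have hs : Function.Surjective ((EtCoh.stalk ξ).map (cokernel.π φ)) := (epi_iff_ab _).1 inferInstance Ω ξ
  have hg : ∀ n : N, germ ξ _ z (w (QuotientAddGroup.mk n)) =
      (EtCoh.stalk ξ).map (cokernel.π φ) (germ ξ G z (η' n)) := fun n => germ_apply_comp (cokernel.π φ) η' z n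
  have hh : ∀ m : M, germ ξ G z (η' (h m)) = (EtCoh.stalk ξ).map φ (germ ξ F z (θ' m)) := fun m =>
    (congrArg (germ ξ G z) (ConcreteCategory.congr_hom e' m)).symm.trans (germ_apply_comp φ θ' z m)
  constructor
  · intro a
    obtain ⟨n, rfl⟩ := QuotientAddGroup.mk_surjective a
    intro a' heq
    obtain ⟨n', rfl⟩ := QuotientAddGroup.mk_surjective a'
    refine QuotientAddGroup.eq_iff_sub_mem.2 ?_
    obtain ⟨c, hc⟩ := hex (germ ξ G z (η' (n - n'))) (by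
      show (EtCoh.stalk ξ).map (cokernel.π φ) (germ ξ G z (η' (n - n'))) = 0
      refine (congrArg (fun t => (EtCoh.stalk ξ).map (cokernel.π φ) (germ ξ G z t)) (map_sub η'.hom n n')).trans ?_
      refine (congrArg _ (germ_sub G z _ _)).trans ((map_sub ((EtCoh.stalk ξ).map (cokernel.π φ)).hom _ _).trans ?_)
      exact sub_eq_zero.2 ((hg n).symm.trans (heq.trans (hg n'))))
    obtain ⟨m, hm⟩ := (hθ.map g.1 Ω ξ z).2 c
    refine ⟨m, (hη.map g'.1 Ω ξ z).1 ((hh m).trans ?_)⟩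
    exact (congrArg _ hm).trans hc
  · intro b
    obtain ⟨c, rfl⟩ := hs b
    obtain ⟨n, rfl⟩ := (hη.map g'.1 Ω ξ z).2 c
    exact ⟨QuotientAddGroup.mk n, hg n⟩

theorem locConst_extension (S : ShortComplex (EtCoh.Ab X)) (hS : S.ShortExact)
    (hA : LocConst (fun M => Finite M) S.X₁) (hC : LocConst (fun M => Finite M) S.X₃) :
    LocConst (fun M => Finite M) S.X₂ := fun x => by
  obtain ⟨U, M, θ, hx, hM, hθ⟩ := hA x
  obtain ⟨V, N, η, hx', hN, hη⟩ := hC x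
  obtain ⟨l⟩ := exists_geomPt_lift hx
  obtain ⟨l'⟩ := exists_geomPt_lift hx'
  haveI : Finite M := hM
  haveI : Finite N := hN
  have hi : ∀ (Ω : Type u) [Field Ω] [IsSepClosed Ω] (ξ : Spec (CommRingCat.of Ω) ⟶ X),
      Function.Injective ((EtCoh.stalk ξ).map S.f) := (mono_iff_ab S.f).1 hS.mono_f
  have hp : ∀ (Ω : Type u) [Field Ω] [IsSepClosed Ω] (ξ : Spec (CommRingCat.of Ω) ⟶ X),
      Function.Surjective ((EtCoh.stalk ξ).map S.g) := (epi_iff_ab S.g).1 hS.epi_g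
  have hex : ∀ (Ω : Type u) [Field Ω] [IsSepClosed Ω] (ξ : Spec (CommRingCat.of Ω) ⟶ X)
      (b : (EtCoh.stalk ξ).obj S.X₂), (EtCoh.stalk ξ).map S.g b = 0 → ∃ a, (EtCoh.stalk ξ).map S.f a = b :=
    fun Ω _ _ ξ => (ShortComplex.ab_exact_iff _).1 (hS.exact.map (EtCoh.stalk ξ))
  have hz : ∀ (Ω : Type u) [Field Ω] [IsSepClosed Ω] (ξ : Spec (CommRingCat.of Ω) ⟶ X)
      (a : (EtCoh.stalk ξ).obj S.X₁), (EtCoh.stalk ξ).map S.g ((EtCoh.stalk ξ).map S.f a) = 0 :=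
    fun Ω _ _ ξ a => by rw [← ConcreteCategory.comp_apply, ← Functor.map_comp, S.zero, Functor.map_zero]; rfl
  let ξ₀ := geomPt x
  obtain ⟨p₀, g₀, g₀', -⟩ := IsCofilteredOrEmpty.cone_objs (C := Nbhd ξ₀) ⟨U, l⟩ ⟨V, l'⟩
  let E := (EtCoh.stalk ξ₀).obj S.X₂
  -- lifts
  let cN := η ≫ S.X₃.obj.map g₀'.1.op ≫ (Scheme.pointSmallEtale ξ₀).toPresheafFiber p₀.1 p₀.2 S.X₃.obj
  have hcN : Function.Bijective cN := hη.map g₀'.1 _ ξ₀ p₀.2
  let cM := θ ≫ S.X₁.obj.map g₀.1.op ≫ (Scheme.pointSmallEtale ξ₀).toPresheafFiber p₀.1 p₀.2 S.X₁.obj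
  have hcM : Function.Bijective cM := hθ.map g₀.1 _ ξ₀ p₀.2
  haveI : Finite E := by
    refine Finite.of_surjective
      (fun q : N × M => Function.surjInv (hp _ ξ₀) (cN q.1) + (EtCoh.stalk ξ₀).map S.f (cM q.2)) fun b => ?_
    obtain ⟨n, hn⟩ := hcN.2 ((EtCoh.stalk ξ₀).map S.g b)
    obtain ⟨a, ha⟩ := hex _ ξ₀ (b - Function.surjInv (hp _ ξ₀) (cN n)) (by
      rw [map_sub, Function.surjInv_eq (hp _ ξ₀)]; exact sub_eq_zero.2 hn.symm)
    obtain ⟨m, hm⟩ := hcM.2 a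
    exact ⟨(n, m), by show _ + _ = b; rw [hm, ha]; abel⟩
  haveI : IsIso cN := (ConcreteCategory.isIso_iff_bijective _).2 hcN
  let h : E ⟶ N := (EtCoh.stalk ξ₀).map S.g ≫ inv cN
  let gA : M ⟶ E := cM ≫ (EtCoh.stalk ξ₀).map S.f
  have hh : ∀ e : E, cN (h e) = (EtCoh.stalk ξ₀).map S.g e := fun e => by
    simp only [h, ConcreteCategory.comp_apply]
    exact (ConcreteCategory.comp_apply _ _ _).symm.trans (by rw [IsIso.inv_hom_id]; rfl)
  -- make the lifts additive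
  obtain ⟨p₁, k₁, t, ht⟩ := exists_forall_germ_eq S.X₂ p₀ (id : E → (EtCoh.stalk ξ₀).obj S.X₂)
  obtain ⟨p₂, k₂, h2⟩ := exists_forall_map_eq S.X₂ p₁ (fun q : E × E => t (q.1 + q.2))
    (fun q : E × E => t q.1 + t q.2) fun q => (ht _).trans (Eq.trans (congrArg₂ (· + ·) (ht q.1) (ht q.2)).symm
      (map_add ((Scheme.pointSmallEtale ξ₀).toPresheafFiber p₁.1 p₁.2 S.X₂.obj).hom (t q.1) (t q.2)).symm)
  let σ : E ⟶ S.X₂.obj.obj (op p₂.1) := AddCommGrpCat.ofHom (AddMonoidHom.mk'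
    (fun e => S.X₂.obj.map k₂.1.op (t e)) fun a b => (h2 (a, b)).trans (map_add (S.X₂.obj.map k₂.1.op).hom _ _))
  have hσ : ∀ e : E, germ ξ₀ S.X₂ p₂.2 (σ e) = e := fun e => by
    show germ ξ₀ S.X₂ p₂.2 (S.X₂.obj.map k₂.1.op (t e)) = e
    rw [germ_map, k₂.2]; exact ht e
  let k := k₂ ≫ k₁
  let θ₂ := θ ≫ S.X₁.obj.map (k ≫ g₀).1.op
  let η₂ := η ≫ S.X₃.obj.map (k ≫ g₀').1.op
  have eM : ∀ m, germ ξ₀ S.X₁ p₂.2 (θ₂ m) = cM m := fun m => by
    show germ ξ₀ S.X₁ p₂.2 (S.X₁.obj.map (k.1 ≫ g₀.1).op (θ m)) = germ ξ₀ S.X₁ p₀.2 (S.X₁.obj.map g₀.1.op (θ m))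
    rw [← sect_map_map, germ_map, k.2]
  have eN : ∀ n, germ ξ₀ S.X₃ p₂.2 (η₂ n) = cN n := fun n => by
    show germ ξ₀ S.X₃ p₂.2 (S.X₃.obj.map (k.1 ≫ g₀'.1).op (η n)) = germ ξ₀ S.X₃ p₀.2 (S.X₃.obj.map g₀'.1.op (η n))
    rw [← sect_map_map, germ_map, k.2]
  obtain ⟨p₃, k₃, h3⟩ := exists_forall_map_eq S.X₃ p₂ (fun e : E => S.g.hom.app (op p₂.1) (σ e)) (fun e => η₂ (h e))
    fun e => (germ_app S.g p₂.2 (σ e)).symm.trans (by rw [hσ, eN, hh])
  obtain ⟨p₄, k₄, h4⟩ := exists_forall_map_eq S.X₂ p₃ (fun m : M => S.X₂.obj.map k₃.1.op (S.f.hom.app (op p₂.1) (θ₂ m)))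
    (fun m => S.X₂.obj.map k₃.1.op (σ (gA m))) fun m => by
      rw [germ_map, germ_map, k₃.2, hσ]
      exact (germ_app S.f p₂.2 (θ₂ m)).symm.trans (congrArg _ (eM m))
  refine ⟨p₄.1, E, σ ≫ S.X₂.obj.map k₃.1.op ≫ S.X₂.obj.map k₄.1.op,
    by have := Nbhd.mem_range _ p₄; rwa [geomPt_default] at this, (inferInstance : Finite E), fun Ω _ _ ξ z => ?_⟩
  let z₂ := (Scheme.pointSmallEtale ξ).fiber.map k₃.1 ((Scheme.pointSmallEtale ξ).fiber.map k₄.1 z)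
  have hrew : ∀ e, germ ξ S.X₂ z ((σ ≫ S.X₂.obj.map k₃.1.op ≫ S.X₂.obj.map k₄.1.op) e) = germ ξ S.X₂ z₂ (σ e) :=
    fun e => (germ_map ξ _ k₄.1 z _).trans (germ_map ξ _ k₃.1 _ _)
  have hg : ∀ e, (EtCoh.stalk ξ).map S.g (germ ξ S.X₂ z₂ (σ e)) = germ ξ S.X₃ z₂ (η₂ (h e)) := fun e => by
    refine (germ_app S.g z₂ (σ e)).trans ?_
    exact (germ_map ξ _ k₃.1 _ _).symm.trans ((congrArg _ (h3 e)).trans (germ_map ξ _ k₃.1 _ _))
  have hf : ∀ m, (EtCoh.stalk ξ).map S.f (germ ξ S.X₁ z₂ (θ₂ m)) = germ ξ S.X₂ z₂ (σ (gA m)) := fun m => by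
    refine (germ_app S.f z₂ _).trans ?_
    refine ((germ_map ξ _ k₃.1 _ _).symm.trans (germ_map ξ _ k₄.1 z _).symm).trans ?_
    exact (congrArg (germ ξ S.X₂ z) (h4 m)).trans ((germ_map ξ _ k₄.1 z _).trans (germ_map ξ _ k₃.1 _ _))
  have bN := hη.map (k ≫ g₀').1 Ω ξ z₂
  have bM := hθ.map (k ≫ g₀).1 Ω ξ z₂
  simp only [hrew]
  let a : E ⟶ (EtCoh.stalk ξ).obj S.X₂ := σ ≫ (Scheme.pointSmallEtale ξ).toPresheafFiber p₂.1 z₂ S.X₂.obj
  show Function.Bijective a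
  refine ⟨(injective_iff_map_eq_zero a.hom).2 fun e he => ?_, fun b => ?_⟩
  · have h0 : h e = 0 := bN.1 (by
      show germ ξ S.X₃ z₂ (η₂ (h e)) = germ ξ S.X₃ z₂ (η₂ 0)
      rw [← hg, show germ ξ S.X₂ z₂ (σ e) = 0 from he, map_zero]
      exact ((congrArg (germ ξ S.X₃ z₂) (map_zero η₂.hom)).trans (germ_zero _ z₂)).symm)
    obtain ⟨c, hc⟩ := hex _ ξ₀ e (by rw [← hh, h0, map_zero])
    obtain ⟨m, rfl⟩ := hcM.2 c
    have hm : gA m = e := hc
    have : germ ξ S.X₁ z₂ (θ₂ m) = germ ξ S.X₁ z₂ (θ₂ 0) := hi Ω ξ (by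
      rw [hf, hf, hm, map_zero]
      exact (show germ ξ S.X₂ z₂ (σ e) = 0 from he).trans
        (((congrArg (germ ξ S.X₂ z₂) (map_zero σ.hom))).trans (germ_zero _ z₂)).symm)
    rw [← hm, bM.1 this, map_zero]
  · obtain ⟨n, hn⟩ := bN.2 ((EtCoh.stalk ξ).map S.g b)
    obtain ⟨e, he⟩ := hp _ ξ₀ (cN n)
    have hne : h e = n := hcN.1 ((hh e).trans he)
    obtain ⟨c, hc⟩ := hex Ω ξ (b - a e) (by
      rw [map_sub]
      exact sub_eq_zero.2 (hn.symm.trans (Eq.trans (by rw [hne]) (hg e).symm)))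
    obtain ⟨m, rfl⟩ := bM.2 c
    refine ⟨e + gA m, ?_⟩
    rw [map_add, show a (gA m) = b - a e from (hf m).symm.trans hc, add_sub_cancel]

end Groth.Agent.FLCLib
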