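import Groth.Agent.FLCLib.Basic
import Groth.Agent.EtPtsLib.IntegralUI
/-!
Constancy can be tested at algebraically closed geometric points.
-/

set_option autoImplicit false
set_option backward.isDefEq.respectTransparency false
set_option backward.isDefEq.respectTransparency.types false

universe u

open CategoryTheory CategoryTheory.Limits AlgebraicGeometry Opposite GrothendieckTopology

namespace Groth.Agent.FLCLib

open EtPtsLib

variable {X : Scheme.{u}}

/-- The sections `θ m` have every germ exactly once, at algebraically closed points. -/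
def IsConstOnAlg (F : EtCoh.Ab X) (U : X.Etale) {M : AddCommGrpCat.{u + 1}} (θ : M ⟶ F.obj.obj (op U)) : Prop :=
  ∀ (Ω : Type u) [Field Ω] [IsAlgClosed Ω] (ξ : Spec (CommRingCat.of Ω) ⟶ X)
    (l : (Scheme.pointSmallEtale ξ).fiber.obj U), Function.Bijective fun m : M => germ ξ F l (θ m)

theorem exists_lift_geomPtAlg {U : X.Etale} (x : U.left) :
    ∃ l : (Scheme.pointSmallEtale (geomPtAlg (U.hom x))).fiber.obj U, liftHom _ l default = x := by
  obtain ⟨l, hl⟩ := Scheme.pointSmallEtaleFiberObjToPreimage_surjective (geomPtAlg (U.hom x))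
    (geomPtAlg_default _) U ⟨x, by simp⟩
  exact ⟨l, congrArg Subtype.val hl⟩

variable (F : EtCoh.Ab X) (U : X.Etale) (M : AddCommGrpCat.{u + 1})

theorem isLocallyInjective_psi_alg {θ : M ⟶ F.obj.obj (op U)} (h : IsConstOnAlg F U θ) :
    Presheaf.IsLocallyInjective (X.smallEtaleTopology.over U) (psi F U M θ) := by
  refine ⟨fun {Y} a b hab => mem_over_of_pointwise _ fun v => ⟨Y.unop, 𝟙 _, v, ?_, rfl⟩⟩
  obtain ⟨l, -⟩ := exists_lift_geomPtAlg v
  show a = b
  refine (h _ _ ((Scheme.pointSmallEtale _).fiber.map Y.unop.hom l)).1 ?_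
  exact (germ_psi F U M θ Y.unop _ l a).symm.trans
    ((congrArg (germ _ F l) hab).trans (germ_psi F U M θ Y.unop _ l b))

theorem isLocallySurjective_psi_alg {θ : M ⟶ F.obj.obj (op U)} (h : IsConstOnAlg F U θ) :
    Presheaf.IsLocallySurjective (X.smallEtaleTopology.over U) (psi F U M θ) := by
  refine ⟨fun {Y} s => mem_over_of_pointwise _ fun v => ?_⟩
  obtain ⟨l, hl⟩ := exists_lift_geomPtAlg v
  obtain ⟨m, hm⟩ := (h _ _ ((Scheme.pointSmallEtale _).fiber.map Y.hom l)).2 (germ _ F l s)
  have e : germ (geomPtAlg (Y.left.hom v)) F l ((psi F U M θ).app (op Y) m) = germ (geomPtAlg (Y.left.hom v)) F l s :=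
    (germ_psi F U M θ Y _ l m).trans hm
  obtain ⟨W, g, y, hy, hg⟩ := ((Scheme.pointSmallEtale _).toPresheafFiber_eq_iff' Y.left l _ _).1 e
  refine ⟨Over.mk (g ≫ Y.hom), Over.homMk g, liftHom _ y default, ⟨m, ?_⟩, ?_⟩
  · refine (NatTrans.naturality_apply (psi F U M θ) (Over.homMk g : Over.mk (g ≫ Y.hom) ⟶ Y).op m).trans ?_
    exact hg
  · refine Eq.trans ?_ hl
    refine Eq.trans ?_ (congrArg (fun q => liftHom _ q default) hy)
    rw [liftHom_map]
    rfl

theorem exists_iso_of_isConstOn_alg {θ : M ⟶ F.obj.obj (op U)} (h : IsConstOnAlg F U θ) :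
    ∃ e : F.over U ≅ (constantSheaf (X.smallEtaleTopology.over U) AddCommGrpCat.{u + 1}).obj M,
      (sheafificationAdjunction (X.smallEtaleTopology.over U) AddCommGrpCat.{u + 1}).homEquiv _ _ e.inv =
        psi F U M θ := by
  let K := X.smallEtaleTopology.over U
  let P : (Over U)ᵒᵖ ⥤ AddCommGrpCat.{u + 1} := (Functor.const (Over U)ᵒᵖ).obj M
  haveI := isLocallyInjective_psi_alg F U M h
  haveI := isLocallySurjective_psi_alg F U M h
  let φ : (presheafToSheaf K AddCommGrpCat.{u + 1}).obj P ⟶ F.over U :=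
    ((sheafificationAdjunction K AddCommGrpCat.{u + 1}).homEquiv P (F.over U)).symm (psi F U M θ)
  have fac : CategoryTheory.toSheafify K P ≫ φ.hom = psi F U M θ := by
    have := ((sheafificationAdjunction K AddCommGrpCat.{u + 1}).homEquiv P (F.over U)).apply_symm_apply (psi F U M θ)
    rwa [Adjunction.homEquiv_unit] at this
  haveI : Sheaf.IsLocallyInjective φ :=
    Presheaf.isLocallyInjective_of_isLocallyInjective_of_isLocallySurjective_fac K (psi F U M θ) fac
  haveI : Sheaf.IsLocallySurjective φ := Presheaf.isLocallySurjective_of_isLocallySurjective_fac K fac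
  haveI : IsIso φ := (Sheaf.isLocallyBijective_iff_isIso φ).1 ⟨inferInstance, inferInstance⟩
  exact ⟨(asIso φ).symm, ((sheafificationAdjunction K AddCommGrpCat.{u + 1}).homEquiv P (F.over U)).apply_symm_apply _⟩

theorem nonempty_iso_of_isConstOn_alg {θ : M ⟶ F.obj.obj (op U)} (h : IsConstOnAlg F U θ) :
    Nonempty (F.over U ≅ (constantSheaf (X.smallEtaleTopology.over U) AddCommGrpCat.{u + 1}).obj M) :=
  ⟨(exists_iso_of_isConstOn_alg F U M h).choose⟩


/-- Bijectivity at algebraically closed points gives constancy. -/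
theorem IsConstOnAlg.exists_isConstOn {θ : M ⟶ F.obj.obj (op U)} (h : IsConstOnAlg F U θ) :
    ∃ θ' : M ⟶ F.obj.obj (op U), IsConstOn F U θ' :=
  exists_isConstOn_of_iso F U M (nonempty_iso_of_isConstOn_alg F U M h).some

end Groth.Agent.FLCLib
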