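import Groth.Agent.FLCLib.Generic
import Groth.Agent.FLCLib.AlgCrit
import Groth.Agent.EtPtsLib.InitialNbhd
/-!
Constructibility is tested pointwise by sections with constructible good loci.
-/

set_option autoImplicit false
set_option backward.isDefEq.respectTransparency false
set_option backward.isDefEq.respectTransparency.types false

universe u

open CategoryTheory CategoryTheory.Limits AlgebraicGeometry Opposite Topology

namespace Groth.Agent.FLCLib

open EtPtsLib

variable {X : Scheme.{u}}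

/-- The sections give every stalk exactly once at the geometric points over `v`. -/
def GoodPt (F : EtCoh.Ab X) (U : X.Etale) {M : AddCommGrpCat.{u + 1}} (θ : M ⟶ F.obj.obj (op U)) (v : U.left) : Prop :=
  ∀ (Ω : Type u) [Field Ω] [IsAlgClosed Ω] (ξ : Spec (CommRingCat.of Ω) ⟶ X)
    (l : (Scheme.pointSmallEtale ξ).fiber.obj U), liftHom ξ l default = v → Function.Bijective fun m : M => germ ξ F l (θ m)

theorem GoodPt.map {F : EtCoh.Ab X} {U V : X.Etale} {M : AddCommGrpCat.{u + 1}} {θ : M ⟶ F.obj.obj (op U)} (g : V ⟶ U)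
    {v : V.left} (h : GoodPt F U θ (g.left v)) : GoodPt F V (θ ≫ F.obj.map g.op) v := fun Ω _ _ ξ l hl => by
  have e : (fun m : M => germ ξ F l ((θ ≫ F.obj.map g.op) m)) =
      fun m : M => germ ξ F ((Scheme.pointSmallEtale ξ).fiber.map g l) (θ m) := funext fun m => germ_map ξ F g l (θ m)
  rw [e]
  exact h Ω ξ _ ((fiber_map_point g l).trans (congrArg g.left hl))

theorem locConst_pull_of_good {T : Scheme.{u}} (f : T ⟶ X) {F : EtCoh.Ab X} {U : X.Etale} {M : AddCommGrpCat.{u + 1}}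
    {θ : M ⟶ F.obj.obj (op U)} [Finite M]
    (h : ∀ v : U.left, U.hom v ∈ Set.range f → GoodPt F U θ v) (hcov : ∀ t, f t ∈ Set.range U.hom) :
    LocConst (fun M => Finite M) ((EtCoh.pull f).obj F) := by
  have hc : IsConstOnAlg ((EtCoh.pull f).obj F) ((EtCoh.bc f).obj U)
      (θ ≫ ((EtCoh.pullPushAdj f).unit.app F).hom.app (op U)) := fun Ω _ _ ζ l => by
    let l' : (Scheme.pointSmallEtale (ζ ≫ f)).fiber.obj U := Over.homMk (liftHom ζ l ≫ bcFst f U) (by
      show (liftHom ζ l ≫ pullback.fst U.hom f) ≫ U.hom = ζ ≫ f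
      rw [Category.assoc, pullback.condition, ← Category.assoc]
      exact congrArg (· ≫ f) (liftHom_comp ζ l))
    have hl : liftBc f ζ U l' = l := fiber_bc_ext f ζ (liftHom_liftBc_fst f ζ U l')
    have e : (fun m : M => germ ζ ((EtCoh.pull f).obj F) l ((θ ≫ ((EtCoh.pullPushAdj f).unit.app F).hom.app (op U)) m)) =
        unitStalk f ζ F ∘ fun m : M => germ (ζ ≫ f) F l' (θ m) := funext fun m => by
      have := ConcreteCategory.congr_hom (toPresheafFiber_unitStalk f ζ F U l') (θ m)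
      rw [hl] at this
      exact this.symm
    refine e ▸ ((bijective_unitStalk f ζ F).comp (h _ ⟨ζ default, ?_⟩ Ω (ζ ≫ f) l' rfl))
    exact (Scheme.Hom.comp_apply ζ f default).symm.trans
      (Nbhd.hom_point (⟨U, l'⟩ : Nbhd (ζ ≫ f))).symm
  obtain ⟨θ', hθ'⟩ := IsConstOnAlg.exists_isConstOn _ _ _ hc
  exact fun t => ⟨_, M, θ', bcFst_range f (hcov t), inferInstance, hθ'⟩

/-- A point with sections, a good locus open in the constructible topology and an affine neighbourhood. -/
def HasGood (F : EtCoh.Ab X) (x : X) : Prop :=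
  ∃ (U : X.Etale) (M : AddCommGrpCat.{u + 1}) (θ : M ⟶ F.obj.obj (op U)) (G : Set U.left) (v : U.left),
    IsAffine U.left ∧ Finite M ∧ IsOpen[constructibleTopology U.left] G ∧ U.hom v = x ∧ v ∈ G ∧ ∀ w ∈ G, GoodPt F U θ w

theorem isConstructible_of_hasGood (F : EtCoh.Ab X) (h : ∀ x, HasGood F x) : EtPBC.IsConstructible F := by
  rw [isConstructible_iff]
  intro V hV
  haveI : IsAffine (Scheme.Opens.toScheme V) := hV
  suffices ∀ x : Scheme.Opens.toScheme V, ∃ (T : Scheme.{u}) (g : T ⟶ Scheme.Opens.toScheme V), IsImmersion g ∧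
      IsConstructible (Set.range g) ∧ x ∈ Set.range g ∧
      EtCoh.IsFiniteLocallyConstant ((EtCoh.pull g).obj ((EtCoh.pull V.ι).obj F)) by
    choose T g hg hc hx hF using this
    obtain ⟨s, hs⟩ := exists_finite_subcover _ hc fun x => ⟨x, hx x⟩
    exact ⟨↥s, inferInstance, fun i => T i.1, fun i => g i.1, fun i => hg _, fun i => hc _,
      fun x => let ⟨i, hi, hx⟩ := hs x; ⟨⟨i, hi⟩, hx⟩, fun i => hF _⟩
  intro x
  obtain ⟨U, M, θ, G, v, hU, hM, hG, hv, hvG, hgood⟩ := h (V.ι x)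
  haveI := hU
  haveI : Finite M := hM
  haveI : AlgebraicGeometry.Etale U.hom := U.prop
  obtain ⟨O₁, -, hvO₁, huniq⟩ := EtPointClass.exists_open_fibre v
  obtain ⟨O, hO, hvO, hOle⟩ := exists_isAffineOpen_mem_and_subset
    (show v ∈ O₁ ⊓ (U.hom ⁻¹ᵁ V) from ⟨hvO₁, by show U.hom v ∈ V; rw [hv]; exact x.2⟩)
  let U' := EtPointClass.sub U O
  haveI : IsAffine (Scheme.Opens.toScheme O) := hO
  have hle : Set.range (O.ι ≫ U.hom) ⊆ Set.range V.ι := by
    rintro _ ⟨s, rfl⟩
    rw [Scheme.Opens.range_ι, Scheme.Hom.comp_apply]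
    exact (hOle s.2).2
  let S := Scheme.Opens.toScheme O
  let fS : S ⟶ Scheme.Opens.toScheme V := IsOpenImmersion.lift V.ι (O.ι ≫ U.hom) hle
  have hfS : fS ≫ V.ι = O.ι ≫ U.hom := IsOpenImmersion.lift_fac _ _ _
  haveI : AlgebraicGeometry.Etale fS := by
    haveI : AlgebraicGeometry.Etale (fS ≫ V.ι) := hfS.symm ▸ (inferInstance : AlgebraicGeometry.Etale (O.ι ≫ U.hom))
    exact AlgebraicGeometry.Etale.of_comp fS V.ι
  have hfx : fS ⟨v, hvO⟩ = x := V.ι.isOpenEmbedding.injective (by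
    rw [← Scheme.Hom.comp_apply, hfS, Scheme.Hom.comp_apply]; exact hv)
  -- neighbourhoods of the point in the constructible topology
  let κ := {K : Set (Scheme.Opens.toScheme V) // IsOpen K ∧ IsCompact K}
  let C : κ → Set (Scheme.Opens.toScheme V) := fun K => {y | y ∈ K.1 ↔ x ∈ K.1}
  have hC : ∀ K, IsLocallyClosed (C K) ∧ IsConstructible (C K) ∧ x ∈ C K := fun K => by
    refine ⟨?_, ?_, Iff.rfl⟩
    all_goals by_cases hx : x ∈ K.1
    · rw [show C K = K.1 from Set.ext fun y => by simp [C, hx]]; exact K.2.1.isLocallyClosed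
    · rw [show C K = K.1ᶜ from Set.ext fun y => by simp [C, hx]]; exact K.2.1.isClosed_compl.isLocallyClosed
    · rw [show C K = K.1 from Set.ext fun y => by simp [C, hx]]; exact K.2.2.isConstructible K.2.1
    · rw [show C K = K.1ᶜ from Set.ext fun y => by simp [C, hx]]; exact (K.2.2.isConstructible K.2.1).compl
  let Z : Option κ → Set S := fun o => o.elim (O.ι ⁻¹' G)ᶜ fun K => fS ⁻¹' C K
  have hZ : ∀ o, IsClosed[constructibleTopology S] (Z o) := fun o => by
    cases o with
    | none =>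
      haveI : QuasiCompact O.ι := quasiCompact_of_compactSpace _
      refine (@isClosed_compl_iff S (constructibleTopology S) _).2 ?_
      exact @IsOpen.preimage S U.left (constructibleTopology S) (constructibleTopology U.left) _
        (SpectralLib.continuous_C O.ι.isSpectralMap) _ hG
    | some K => exact (SpectralLib.isClopen_C_of_isConstructible (fS.isConstructible_preimage (hC K).2.1)).1
  have hempty : ¬ (⋂ o, Z o).Nonempty := by
    rintro ⟨s, hs⟩
    rw [Set.mem_iInter] at hs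
    have e : fS s = x := Inseparable.eq (X := Scheme.Opens.toScheme V) <| inseparable_iff_specializes_and.2
      ⟨SpectralLib.specializes_of_forall_compactOpen fun K hK hK' hx => (hs (some ⟨K, hK, hK'⟩) : fS s ∈ K ↔ x ∈ K).2 hx,
       SpectralLib.specializes_of_forall_compactOpen fun K hK hK' hy => (hs (some ⟨K, hK, hK'⟩) : fS s ∈ K ↔ x ∈ K).1 hy⟩
    refine hs none ?_
    have : O.ι s = v := huniq _ (hOle s.2).1 (by
      exact ((Scheme.Hom.comp_apply O.ι U.hom s).symm.trans ((congrArg (fun m : S ⟶ X => m s) hfS).symm.trans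
        ((Scheme.Hom.comp_apply fS V.ι s).trans (congrArg V.ι e)))).trans hv.symm)
    show O.ι s ∈ G
    rw [this]; exact hvG
  obtain ⟨σ, hσ⟩ : ∃ σ : Finset (Option κ), ¬ (⋂ o ∈ σ, Z o).Nonempty := by
    by_contra hc
    push Not at hc
    exact hempty (SpectralLib.nonempty_iInter Z hZ fun s => hc s)
  classical
  let σ' : Finset κ := σ.eraseNone
  let D : Set (Scheme.Opens.toScheme V) := (⋂ K ∈ σ', C K) ∩ Set.range fS
  have hgoodD : ∀ s : S, fS s ∈ D → O.ι s ∈ G := fun s hs => by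
    by_contra hn
    refine hσ ⟨s, Set.mem_iInter₂.2 fun o ho => ?_⟩
    cases o with
    | none => exact hn
    | some K => exact Set.mem_iInter₂.1 hs.1 K (Finset.mem_eraseNone.2 ho)
  have hrange : IsConstructible (Set.range fS) :=
    (isCompact_range fS.continuous).isConstructible fS.isOpenMap.isOpen_range
  have hDc : IsConstructible D :=
    (IsConstructible.biInter σ'.finite_toSet fun K _ => (hC K).2.1).inter hrange
  have hDl : IsLocallyClosed D := by
    refine IsLocallyClosed.inter ?_ fS.isOpenMap.isOpen_range.isLocallyClosed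
    induction σ' using Finset.induction with
    | empty => simpa using isOpen_univ.isLocallyClosed
    | insert K s _ ih => rw [Finset.set_biInter_insert]; exact (hC K).1.inter ih
  obtain ⟨T, g, -, hg, hr⟩ := exists_immersion_inter (𝟙 (Scheme.Opens.toScheme V)) hDl
  have hr' : Set.range (g ≫ 𝟙 _) = D := hr.trans (Set.inter_eq_right.2 fun y _ => ⟨y, rfl⟩)
  refine ⟨T, g ≫ 𝟙 _, hg, hr'.symm ▸ hDc, hr'.symm ▸ ⟨Set.mem_iInter₂.2 fun K _ => (hC K).2.2, ⟨_, hfx⟩⟩, ?_⟩
  refine (flc_pull_pull_iff _ _).1 ((finiteLocallyConstant_iff _).2 ?_)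
  refine locConst_pull_of_good ((g ≫ 𝟙 _) ≫ V.ι) (U := U') (θ := θ ≫ F.obj.map (EtPointClass.incl U O).op)
    (fun s hs => GoodPt.map (EtPointClass.incl U O) (hgood _ (hgoodD s ?_))) fun t => ?_
  · obtain ⟨t, ht⟩ := hs
    rw [Scheme.Hom.comp_apply] at ht
    have : fS s = (g ≫ 𝟙 _) t := V.ι.isOpenEmbedding.injective (by
      rw [← Scheme.Hom.comp_apply, hfS]; exact ht.symm)
    rw [this, ← hr']
    exact Set.mem_range_self t
  · obtain ⟨s, hs⟩ := ((hr' ▸ Set.mem_range_self t : (g ≫ 𝟙 _) t ∈ D)).2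
    refine ⟨s, ?_⟩
    rw [Scheme.Hom.comp_apply, ← hs, ← Scheme.Hom.comp_apply, hfS]
    rfl

/-- Stalks of a constructible sheaf are generically the values of sections. -/
theorem exists_goodPt {F : EtCoh.Ab X} (hF : EtPBC.IsConstructible F) {Ω : Type u} [Field Ω] [IsSepClosed Ω]
    {ξ : Spec (CommRingCat.of Ω) ⟶ X} (p : Nbhd ξ) :
    ∃ (q : Nbhd ξ) (_ : q ⟶ p) (M : AddCommGrpCat.{u + 1}) (θ : M ⟶ F.obj.obj (op q.1)),
      IsAffine q.1.left ∧ Finite M ∧ GoodPt F q.1 θ q.point := by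
  obtain ⟨n, O, hO, hxO, hn⟩ := genCard_of_isConstructible hF (ξ default)
  haveI := (hn Ω ξ hxO specializes_rfl).1
  obtain ⟨q, g, σ, hq, hσ⟩ := exists_sigma F p
  obtain ⟨W, hW, hqW, -⟩ := exists_isAffineOpen_mem_and_subset (show q.point ∈ (⊤ : q.1.left.Opens) from trivial)
  obtain ⟨y, hy⟩ := exists_fiber_map_eq ξ (EtPointClass.incl q.1 W) q.2 ⟨q.point, hqW⟩ rfl
  let q' : Nbhd ξ := ⟨EtPointClass.sub q.1 W, y⟩
  let k : q' ⟶ q := ⟨EtPointClass.incl q.1 W, hy⟩
  refine ⟨q', k ≫ g, _, σ ≫ F.obj.map k.1.op, hW, inferInstance, GoodPt.map k.1 fun Ω' _ _ ζ l hl => ?_⟩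
  have hζ : ζ default = ξ default := by
    rw [← Nbhd.hom_point (⟨q.1, l⟩ : Nbhd ζ), ← q.hom_point]
    exact congrArg q.1.hom (hl.trans (Nbhd.map_point k))
  obtain ⟨hf, hc⟩ := hn Ω' ζ (hζ ▸ hxO) (hζ ▸ specializes_rfl)
  exact (injective_germ_sigma hq hσ l (hζ ▸ specializes_rfl)).bijective_of_nat_card_le
    (hc.trans (hn Ω ξ hxO specializes_rfl).2.symm).le

/-- For a constructible sheaf the good locus of sections over an affine is constructible. -/
theorem isConstructible_good {F : EtCoh.Ab X} (hF : EtPBC.IsConstructible F) (U : X.Etale) [CompactSpace U.left]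
    [QuasiSeparatedSpace U.left]
    {M : AddCommGrpCat.{u + 1}} [Finite M] (θ : M ⟶ F.obj.obj (op U)) :
    IsConstructible {v : U.left | GoodPt F U θ v} := by
  haveI : CompactSpace ((𝟭 Scheme).obj U.left) := (inferInstance : CompactSpace U.left)
  haveI : QuasiSeparatedSpace ((𝟭 Scheme).obj U.left) := (inferInstance : QuasiSeparatedSpace U.left)
  obtain ⟨ι, _, T, g, hg, hc, hcov, hflc⟩ := IsConstructible.strat (isConstructible_pull U.hom hF)
  have e : {v : U.left | GoodPt F U θ v} = ⋃ i, g i '' ((g i) ⁻¹' {v : U.left | GoodPt F U θ v}) := by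
    ext v
    refine ⟨fun hv => ?_, fun hv => ?_⟩
    · obtain ⟨i, t, rfl⟩ := hcov v
      exact Set.mem_iUnion.2 ⟨i, t, hv, rfl⟩
    · obtain ⟨i, t, ht, rfl⟩ := Set.mem_iUnion.1 hv
      exact ht
  rw [e]
  refine IsConstructible.iUnion fun i => ?_
  haveI := hg i
  haveI : CompactSpace (T i) := by
    rw [← isCompact_univ_iff, (g i).isEmbedding.isInducing.isCompact_iff, Set.image_univ]
    exact isCompact_of_isConstructible (hc i)
  haveI := quasiSeparatedSpace_of_isEmbedding (g i).isEmbedding (hc i)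
  let f : T i ⟶ X := g i ≫ U.hom
  have hflc' := (finiteLocallyConstant_iff _).1 ((flc_pull_pull_iff (g i) U.hom).2 (hflc i))
  let k : EtCoh.top (T i) ⟶ (EtCoh.bc f).obj U :=
    MorphismProperty.Over.homMk (pullback.lift (g i) (𝟙 _) (Category.id_comp _).symm) (pullback.lift_snd _ _ _)
  let θT : M ⟶ ((EtCoh.pull f).obj F).obj.obj (op (EtCoh.top (T i))) :=
    θ ≫ ((EtCoh.pullPushAdj f).unit.app F).hom.app (op U) ≫ ((EtCoh.pull f).obj F).obj.map k.op
  have hloc : ∀ t : T i, ∃ N : Set (T i), IsOpen N ∧ t ∈ N ∧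
      ∀ s ∈ N, (GoodPt F U θ (g i s) ↔ GoodPt F U θ (g i t)) := by
    intro t
    obtain ⟨V, N, η, htV, -, hη⟩ := hflc' t
    obtain ⟨l'⟩ := exists_geomPt_lift htV
    obtain ⟨p, a, b, h, e⟩ := exists_groupHom (𝟙 ((EtCoh.pull f).obj F)) hη (topLift (geomPt t)) l' (θ := θT)
    haveI : AlgebraicGeometry.Etale p.1.hom := p.1.prop
    have key : ∀ (v : p.1.left) (Ω : Type u) [Field Ω] [IsAlgClosed Ω] (ξ : Spec (CommRingCat.of Ω) ⟶ X)
        (l : (Scheme.pointSmallEtale ξ).fiber.obj U), liftHom ξ l default = g i (p.1.hom v) →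
        (Function.Bijective (fun m : M => germ ξ F l (θ m)) ↔ Function.Bijective h) := by
      intro v Ω _ _ ξ l hl
      obtain ⟨ζ, hζ⟩ := exists_fac_immersion (g i) (liftHom ξ l) ⟨p.1.hom v, hl.symm⟩
      obtain rfl : ζ ≫ f = ξ := by
        show ζ ≫ g i ≫ U.hom = ξ
        rw [← Category.assoc, hζ]
        exact liftHom_comp ξ l
      have hl' : liftBc f ζ U l = (Scheme.pointSmallEtale ζ).fiber.map k (topLift ζ) := by
        refine fiber_bc_ext f ζ ?_
        refine (liftHom_liftBc_fst f ζ U l).trans ?_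
        rw [liftHom_map, Category.assoc]
        exact hζ.symm.trans (congrArg (ζ ≫ ·) (pullback.lift_fst _ _ _).symm)
      have e1 : (fun m : M => germ ζ ((EtCoh.pull f).obj F) (topLift ζ) (θT m)) =
          unitStalk f ζ F ∘ fun m : M => germ (ζ ≫ f) F l (θ m) := funext fun m => by
        have h1 := ConcreteCategory.congr_hom (toPresheafFiber_unitStalk f ζ F U l) (θ m)
        refine ((germ_map ζ _ k (topLift ζ) _).trans ?_).trans h1.symm
        rw [← hl']
        rfl
      rw [← Function.Bijective.of_comp_iff' (bijective_unitStalk f ζ F), ← e1]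
      obtain ⟨z, -⟩ := Scheme.pointSmallEtaleFiberObjToPreimage_surjective ζ rfl p.1 ⟨v, by
        refine (g i).isEmbedding.injective ?_
        rw [← Scheme.Hom.comp_apply ζ, hζ]
        exact hl.symm⟩
      have e2 : (fun m : M => germ ζ ((EtCoh.pull f).obj F) (topLift ζ) (θT m)) =
          (fun n : N => germ ζ ((EtCoh.pull f).obj F) z ((η ≫ ((EtCoh.pull f).obj F).obj.map b.1.op) n)) ∘ h := by
        funext m
        have h2 := ConcreteCategory.congr_hom e m
        refine Eq.trans ?_ (congrArg (germ ζ ((EtCoh.pull f).obj F) z) h2)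
        refine Eq.trans ?_ (germ_map ζ _ a.1 z (θT m)).symm
        haveI := subsingleton_fiber_top ζ
        exact congrArg (fun q => germ ζ ((EtCoh.pull f).obj F) q (θT m)) (Subsingleton.elim _ _)
      rw [e2]
      exact Function.Bijective.of_comp_iff' (hη.map b.1 Ω ζ z) _
    have iff : ∀ v : p.1.left, GoodPt F U θ (g i (p.1.hom v)) ↔ Function.Bijective h := fun v => by
      refine ⟨fun hg' => ?_, fun hb Ω _ _ ξ l hl => (key v Ω ξ l hl).2 hb⟩
      obtain ⟨l, hl⟩ := exists_lift_geomPtAlg (U := U) (g i (p.1.hom v))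
      exact (key v _ _ l hl).1 (hg' _ _ l hl)
    refine ⟨Set.range p.1.hom, p.1.hom.isOpenMap.isOpen_range, by
      have := Nbhd.mem_range _ p; rwa [geomPt_default] at this, fun s ⟨v, hv⟩ => ?_⟩
    obtain ⟨w, hw⟩ : t ∈ Set.range p.1.hom := by have := Nbhd.mem_range _ p; rwa [geomPt_default] at this
    exact (hv ▸ iff v : GoodPt F U θ (g i s) ↔ _).trans ((congrArg (fun t' => GoodPt F U θ (g i t')) hw).symm.to_iff.trans (iff w)).symm
  have hcl : IsClopen ((g i) ⁻¹' {v : U.left | GoodPt F U θ v}) := by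
    refine ⟨⟨isOpen_iff_forall_mem_open.2 fun t ht => ?_⟩, isOpen_iff_forall_mem_open.2 fun t ht => ?_⟩
    · obtain ⟨N, hN, htN, h⟩ := hloc t
      exact ⟨N, fun y hy hy' => ht ((h y hy).1 hy'), hN, htN⟩
    · obtain ⟨N, hN, htN, h⟩ := hloc t
      exact ⟨N, fun y hy => (h y hy).2 ht, hN, htN⟩
  exact isConstructible_image_of_isEmbedding (g i).isEmbedding (hc i) (hcl.isClosed.isCompact.isConstructible hcl.isOpen)

theorem hasGood_of_isConstructible {F : EtCoh.Ab X} (hF : EtPBC.IsConstructible F) (x : X) : HasGood F x := by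
  obtain ⟨q, -, M, θ, hq, hM, hgood⟩ := exists_goodPt hF (⟨EtCoh.top X, topLift (geomPt x)⟩ : Nbhd (geomPt x))
  haveI := hq
  haveI := hM
  exact ⟨q.1, M, θ, _, q.point, hq, hM,
    (SpectralLib.isClopen_C_of_isConstructible (isConstructible_good hF q.1 θ)).2,
    q.hom_point.trans (geomPt_default x), hgood,
    fun w hw => hw⟩

/-- The stalks over one point have the same finite cardinality. -/
theorem stalk_card_eq (F : EtCoh.Ab X) {Ω Ω' : Type u} [Field Ω] [IsSepClosed Ω] [Field Ω'] [IsSepClosed Ω']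
    (ξ : Spec (CommRingCat.of Ω) ⟶ X) (ζ : Spec (CommRingCat.of Ω') ⟶ X) (e : ξ default = ζ default)
    [Finite ((EtCoh.stalk ξ).obj F)] :
    Finite ((EtCoh.stalk ζ).obj F) ∧ Nat.card ((EtCoh.stalk ζ).obj F) = Nat.card ((EtCoh.stalk ξ).obj F) := by
  have hle : ∀ S : Finset ((EtCoh.stalk ζ).obj F), S.card ≤ Nat.card ((EtCoh.stalk ξ).obj F) := fun S => by
    obtain ⟨q₀, k₀, t, ht⟩ := exists_forall_germ_eq F (⟨EtCoh.top X, topLift ζ⟩ : Nbhd ζ) (Subtype.val : ↥S → _)
    obtain ⟨q, k, hq⟩ := exists_good q₀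
    obtain ⟨l, -⟩ := Scheme.pointSmallEtaleFiberObjToPreimage_surjective ξ rfl q.1 ⟨q.point, q.hom_point.trans e.symm⟩
    have hinj : Function.Injective fun s : ↥S => germ ξ F l (F.obj.map k.1.op (t s)) := fun a b hab => by
      refine Subtype.ext ?_
      have h := hq.germ_eq F l (e ▸ specializes_rfl) hab
      rw [germ_map, germ_map, k.2, ht, ht] at h
      exact h
    simpa using Nat.card_le_card_of_injective _ hinj
  haveI : Finite ((EtCoh.stalk ζ).obj F) := by
    by_contra hinf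
    rw [not_finite_iff_infinite] at hinf
    obtain ⟨S, hS⟩ := Infinite.exists_subset_card_eq ((EtCoh.stalk ζ).obj F) (Nat.card ((EtCoh.stalk ξ).obj F) + 1)
    have := hle S
    omega
  refine ⟨inferInstance, le_antisymm ?_ ?_⟩
  · haveI := Fintype.ofFinite ((EtCoh.stalk ζ).obj F)
    rw [Nat.card_eq_fintype_card]
    exact hle Finset.univ
  · obtain ⟨q, -, σ, hq, hσ⟩ := exists_sigma F (⟨EtCoh.top X, topLift ξ⟩ : Nbhd ξ)
    obtain ⟨l, -⟩ := Scheme.pointSmallEtaleFiberObjToPreimage_surjective ζ rfl q.1 ⟨q.point, q.hom_point.trans e⟩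
    exact Nat.card_le_card_of_injective _ (injective_germ_sigma hq hσ l (e ▸ specializes_rfl))

/-- One geometric point decides whether a point is good. -/
theorem goodPt_of_one {F : EtCoh.Ab X} {U : X.Etale} {M : AddCommGrpCat.{u + 1}} [Finite M] {θ : M ⟶ F.obj.obj (op U)}
    {Ω : Type u} [Field Ω] [IsSepClosed Ω] {ξ : Spec (CommRingCat.of Ω) ⟶ X}
    (l : (Scheme.pointSmallEtale ξ).fiber.obj U) {v : U.left} (hv : liftHom ξ l default = v)
    (h : Function.Bijective fun m : M => germ ξ F l (θ m)) : GoodPt F U θ v := fun Ω' _ _ ζ z hz => by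
  have e : ξ default = ζ default := by
    rw [← Nbhd.hom_point (⟨U, l⟩ : Nbhd ξ), ← Nbhd.hom_point (⟨U, z⟩ : Nbhd ζ)]
    exact congrArg U.hom (hv.trans hz.symm)
  haveI : Finite ((EtCoh.stalk ξ).obj F) := Finite.of_equiv M (Equiv.ofBijective _ h)
  obtain ⟨hf, hc⟩ := stalk_card_eq F ξ ζ e
  have hinj : Function.Injective fun m : M => germ ζ F z (θ m) := fun a b hab => h.1 <| by
    refine (germ_eq_iff_mem_agree ξ F.obj l _ _).2 ?_
    rw [hv, ← hz]
    exact (germ_eq_iff_mem_agree ζ F.obj z _ _).1 hab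
  exact hinj.bijective_of_nat_card_le (hc.trans (Nat.card_congr (Equiv.ofBijective _ h)).symm).le

end Groth.Agent.FLCLib
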