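import Groth.Agent.FLCLib.Gen
import Groth.Agent.FLCLib.Good
import Groth.Agent.S0131
/-!
Finite presentations of constructible sheaves.
-/

set_option autoImplicit false
set_option backward.isDefEq.respectTransparency false

universe u

open CategoryTheory CategoryTheory.Limits AlgebraicGeometry Opposite Topology

namespace Groth.Agent.FLCLib

open EtPtsLib

variable {X : Scheme.{u}}

/-- A good point is good at all geometric points over it. -/
theorem GoodPt.bijective {F : EtCoh.Ab X} {U : X.Etale} {M : AddCommGrpCat.{u + 1}} [Finite M] {θ : M ⟶ F.obj.obj (op U)}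
    {Ω : Type u} [Field Ω] [IsSepClosed Ω] {ξ : Spec (CommRingCat.of Ω) ⟶ X}
    (l : (Scheme.pointSmallEtale ξ).fiber.obj U) (h : GoodPt F U θ (liftHom ξ l default)) :
    Function.Bijective fun m : M => germ ξ F l (θ m) := by
  let η := geomPtAlg (U.hom (liftHom ξ l default))
  obtain ⟨z, hz⟩ := exists_lift_geomPtAlg (liftHom ξ l default)
  have hb := h _ η z hz
  have e : η default = ξ default := (geomPtAlg_default _).trans (Nbhd.hom_point (⟨U, l⟩ : Nbhd ξ))
  haveI : Finite ((EtCoh.stalk η).obj F) := Finite.of_equiv M (Equiv.ofBijective _ hb)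
  obtain ⟨hf, hc⟩ := stalk_card_eq F η ξ e
  have hinj : Function.Injective fun m : M => germ ξ F l (θ m) := fun a b hab => hb.1 <| by
    refine (germ_eq_iff_mem_agree η F.obj z _ _).2 ?_
    rw [hz]
    exact (germ_eq_iff_mem_agree ξ F.obj l _ _).1 hab
  exact hinj.bijective_of_nat_card_le (hc.trans (Nat.card_congr (Equiv.ofBijective _ hb)).symm).le

/-- Finitely many sections over affines give all stalks of a constructible sheaf. -/
theorem exists_generators [CompactSpace X] [QuasiSeparatedSpace X] {F : EtCoh.Ab X} (hF : EtPBC.IsConstructible F) :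
    ∃ (ι : Type u) (_ : Fintype ι) (U : ι → X.Etale) (M : ι → AddCommGrpCat.{u + 1})
      (θ : ∀ i, M i ⟶ F.obj.obj (op (U i))), (∀ i, IsAffine (U i).left) ∧ (∀ i, Finite (M i)) ∧
      ∀ (Ω : Type u) [Field Ω] [IsSepClosed Ω] (ζ : Spec (CommRingCat.of Ω) ⟶ X),
        ∃ (i : ι) (l : (Scheme.pointSmallEtale ζ).fiber.obj (U i)),
          Function.Bijective fun m : M i => germ ζ F l (θ i m) := by
  choose q g M θ hq hM hgood using fun x : X => exists_goodPt hF (⟨EtCoh.top X, topLift (geomPt x)⟩ : Nbhd (geomPt x))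
  let C : X → Set X := fun x => (q x).1.hom '' {v : (q x).1.left | GoodPt F (q x).1 (θ x) v}
  have hC : ∀ x, IsConstructible (C x) := fun x => by
    haveI := hq x
    haveI := hM x
    haveI : AlgebraicGeometry.Etale (q x).1.hom := (q x).1.prop
    haveI : IsAffine ((𝟭 Scheme).obj (q x).1.left) := hq x
    haveI : QuasiSeparatedSpace ((Functor.fromPUnit X).obj (q x).1.right) := (inferInstance : QuasiSeparatedSpace X)
    haveI : CompactSpace ((Functor.fromPUnit X).obj (q x).1.right) := (inferInstance : CompactSpace X)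
    haveI : QuasiCompact (q x).1.hom := quasiCompact_of_compactSpace _
    exact (q x).1.hom.isConstructible_image (isConstructible_good hF (q x).1 (θ x))
  obtain ⟨s, hs⟩ := exists_finite_subcover C hC fun x =>
    ⟨x, _, hgood x, (q x).hom_point.trans (geomPt_default x)⟩
  refine ⟨s, inferInstance, fun i => (q i.1).1, fun i => M i.1, fun i => θ i.1, fun i => hq i.1, fun i => hM i.1, ?_⟩
  intro Ω _ _ ζ
  obtain ⟨x, hx, v, hv, hvζ⟩ := hs (ζ default)
  obtain ⟨z, hz⟩ := Scheme.pointSmallEtaleFiberObjToPreimage_surjective ζ rfl (q x).1 ⟨v, hvζ⟩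
  haveI := hM x
  refine ⟨⟨x, hx⟩, z, GoodPt.bijective z ?_⟩
  have e : liftHom ζ z default = v := congrArg Subtype.val hz
  rw [e]
  exact hv

theorem exists_killedBy [CompactSpace X] [QuasiSeparatedSpace X] {F : EtCoh.Ab X} (hF : EtPBC.IsConstructible F) :
    ∃ n, 0 < n ∧ EtCoh.KilledBy n F := by
  obtain ⟨ι, _, U, M, θ, -, hM, h⟩ := exists_generators hF
  refine ⟨∏ i, Nat.card (M i), Finset.prod_pos fun i _ => Nat.card_pos, fun V s => sect_ext F V _ _ fun Ω _ _ ξ y => ?_⟩
  obtain ⟨i, l, hl⟩ := h Ω ξ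
  obtain ⟨m, hm⟩ := hl.2 (germ ξ F y s)
  obtain ⟨k, hk⟩ := Finset.dvd_prod_of_mem (fun i => Nat.card (M i)) (Finset.mem_univ i)
  refine Eq.trans ?_ (map_zero (AddCommGrpCat.Hom.hom ((Scheme.pointSmallEtale ξ).toPresheafFiber V y F.obj))).symm
  refine (map_nsmul (AddCommGrpCat.Hom.hom ((Scheme.pointSmallEtale ξ).toPresheafFiber V y F.obj)) _ s).trans ?_
  refine (congrArg (fun c => (∏ i, Nat.card (M i)) • c) hm.symm).trans ?_
  refine ((map_nsmul (AddCommGrpCat.Hom.hom ((Scheme.pointSmallEtale ξ).toPresheafFiber (U i) l F.obj)) _ (θ i m)).symm).trans ?_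
  have : (∏ i, Nat.card (M i)) • θ i m = 0 := by
    rw [← map_nsmul, hk, mul_comm, mul_smul, card_nsmul_eq_zero', smul_zero, map_zero]
  exact (congrArg _ this).trans (map_zero _)

/-- `⨁` over `Fin (b+1)` splits off the first summand. -/
noncomputable def biproductSuccIso {C : Type*} [Category C] [Preadditive C] [HasFiniteBiproducts C]
    [HasBinaryBiproducts C] {b : ℕ}
    (f : Fin (b + 1) → C) : (⨁ f) ≅ f 0 ⊞ ⨁ fun i : Fin b => f i.succ where
  hom := biprod.lift (biproduct.π f 0) (biproduct.lift fun i => biproduct.π f i.succ)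
  inv := biprod.desc (biproduct.ι f 0) (biproduct.desc fun i => biproduct.ι f i.succ)
  hom_inv_id := by
    rw [biprod.lift_desc, biproduct.lift_desc, ← biproduct.total, Fin.sum_univ_succ]
  inv_hom_id := by
    refine biprod.hom_ext' _ _ ?_ ?_
    · refine biprod.hom_ext _ _ ?_ (biproduct.hom_ext _ _ fun j => ?_)
      · simp
      · simp [biproduct.ι_π, (Fin.succ_ne_zero _).symm]
    · refine biproduct.hom_ext' _ _ fun i => biprod.hom_ext _ _ ?_ (biproduct.hom_ext _ _ fun j => ?_)
      · simp [biproduct.ι_π, Fin.succ_ne_zero]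
      · simp [biproduct.ι_π]

theorem killedBy_biproduct {n : ℕ} {b : ℕ} {E : Fin b → EtCoh.Ab X} (h : ∀ i, EtCoh.KilledBy n (E i)) :
    EtCoh.KilledBy n (⨁ E) := by
  rw [killedBy_iff]
  refine biproduct.hom_ext' _ _ fun i => ?_
  rw [Preadditive.comp_nsmul, Category.comp_id, comp_zero, ← Category.id_comp (biproduct.ι E i),
    ← Preadditive.nsmul_comp, (killedBy_iff n _).1 (h i), zero_comp]

theorem isConstructible_of_isZero [CompactSpace X] [QuasiSeparatedSpace X] {Z : EtCoh.Ab X} (hZ : IsZero Z) :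
    EtPBC.IsConstructible Z := by
  haveI : IsAffine (EtPointClass.sub (EtCoh.top X) ⊥).left := isAffineOpen_bot (EtCoh.top X).left
  refine isConstructible_of_iso (IsZero.iso ((IsZero.iff_id_eq_zero _).2 ?_) hZ)
    (isConstructible_extZeroConst_zmod (EtPointClass.sub (EtCoh.top X) ⊥) 1 one_pos)
  have h := (killedBy_iff 1 _).1 (killedBy_extZeroConst (EtPointClass.sub (EtCoh.top X) ⊥) 1)
  rwa [one_smul] at h

theorem isConstructible_biproduct [CompactSpace X] [QuasiSeparatedSpace X] {n : ℕ} (hn : 0 < n) {b : ℕ}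
    {E : Fin b → EtCoh.Ab X} (h : ∀ i, EtCoh.KilledBy n (E i)) (hc : ∀ i, EtPBC.IsConstructible (E i)) :
    EtPBC.IsConstructible (⨁ E) := by
  induction b with
  | zero => exact isConstructible_of_isZero ((IsZero.iff_id_eq_zero _).2 (biproduct.hom_ext _ _ fun i => i.elim0))
  | succ b ih =>
    exact isConstructible_of_iso (biproductSuccIso E).symm (isConstructible_biprod hn (h 0)
      (killedBy_biproduct fun i => h i.succ) (hc 0) (ih (fun i => h i.succ) fun i => hc i.succ))

theorem exists_epi [CompactSpace X] [QuasiSeparatedSpace X] {F : EtCoh.Ab X} (hF : EtPBC.IsConstructible F)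
    (n : ℕ) (hFn : EtCoh.KilledBy n F) :
    ∃ (b : ℕ) (U : Fin b → X.Etale) (_ : ∀ i, IsAffine (U i).left)
      (φ : (⨁ fun i => EtPBC.extZeroConst (U i) (ZMod n)) ⟶ F), Epi φ := by
  obtain ⟨ι, _, U, M, θ, hU, hM, h⟩ := exists_generators hF
  haveI := hM
  obtain ⟨b, ⟨e⟩⟩ := Finite.exists_equiv_fin (Σ i, M i)
  choose φ e' he using fun k : Fin b => exists_hom_sect F n (θ (e.symm k).1 (e.symm k).2) (hFn _ _)
  refine ⟨b, fun k => U (e.symm k).1, fun k => hU _, biproduct.desc φ, (epi_iff_ab _).2 fun Ω _ _ ζ c => ?_⟩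
  obtain ⟨i, l, hl⟩ := h Ω ζ
  obtain ⟨m, rfl⟩ := hl.2 c
  obtain ⟨k, hk⟩ := e.symm.surjective ⟨i, m⟩
  have key : ∀ (p : Σ i, M i) (k : Fin b), e.symm k = p → ∀ l : (Scheme.pointSmallEtale ζ).fiber.obj (U p.1),
      ∃ a, (EtCoh.stalk ζ).map (φ k) a = germ ζ F l (θ p.1 p.2) := by
    rintro _ k rfl l
    exact ⟨germ ζ _ l (e' k), by rw [germ_app, he]⟩
  obtain ⟨a, ha⟩ := key _ k hk l
  refine ⟨(EtCoh.stalk ζ).map (biproduct.ι _ k) a, ?_⟩
  rw [← ConcreteCategory.comp_apply, ← Functor.map_comp, biproduct.ι_desc]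
  exact ha

end Groth.Agent.FLCLib
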