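import Groth.Agent.FLCLib.Present
import Groth.Agent.S0138
import Mathlib.CategoryTheory.Limits.Types.Filtered
import Mathlib.CategoryTheory.Sites.Point.Skyscraper
/-!
Filtered colimits of abelian étale sheaves, sections over quasi-compact objects, and the filtered
system of constructible sheaves over a torsion sheaf.
-/

set_option autoImplicit false
set_option backward.isDefEq.respectTransparency false

universe v v' u

open CategoryTheory CategoryTheory.Limits AlgebraicGeometry Opposite Topology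

namespace Groth.Agent.FLCLib

open EtPtsLib

variable {X : Scheme.{u}}

theorem stalk_comp {F G H : EtCoh.Ab X} (f : F ⟶ G) (g : G ⟶ H) {Ω : Type u} [Field Ω] [IsSepClosed Ω]
    (ξ : Spec (CommRingCat.of Ω) ⟶ X) (b : (EtCoh.stalk ξ).obj F) :
    (EtCoh.stalk ξ).map (f ≫ g) b = (EtCoh.stalk ξ).map g ((EtCoh.stalk ξ).map f b) := by
  rw [Functor.map_comp, ConcreteCategory.comp_apply]

/-! ### The generator -/

/-- The tautological section of `j_! (ℤ/n)` over `U`. -/
noncomputable def one (U : X.Etale) (n : ℕ) : EtCoh.sect (EtPBC.extZeroConst U (ZMod n)) U :=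
  ((constantSheafAdj (X.smallEtaleTopology.over U) AddCommGrpCat.{u + 1} (Over.mkIdTerminal (X := U))).comp
    (EtPBC.extZeroAdj U)).unit.app (AddCommGrpCat.of (ULift.{u + 1} (ZMod n))) ⟨1⟩

theorem exists_hom_one (F : EtCoh.Ab X) {U : X.Etale} (n : ℕ) (s : EtCoh.sect F U) (hs : n • s = 0) :
    ∃ φ : EtPBC.extZeroConst U (ZMod n) ⟶ F, φ.hom.app (op U) (one U n) = s := by
  let f : ZMod n →+ EtCoh.sect F U := ZMod.lift n ⟨zmultiplesHom _ s, by simpa using hs⟩
  let M := AddCommGrpCat.of (ULift.{u + 1} (ZMod n))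
  let A := (constantSheafAdj (X.smallEtaleTopology.over U) AddCommGrpCat.{u + 1} (Over.mkIdTerminal (X := U))).comp
    (EtPBC.extZeroAdj U)
  let a : M ⟶ F.obj.obj (op U) := AddCommGrpCat.ofHom (f.comp AddEquiv.ulift.toAddMonoidHom)
  refine ⟨(A.homEquiv M F).symm a, ?_⟩
  have e := (A.homEquiv M F).apply_symm_apply a
  rw [Adjunction.homEquiv_unit] at e
  refine (congrArg (fun b : M ⟶ F.obj.obj (op U) => b ⟨1⟩) e).trans ?_
  show f (1 : ZMod n) = s
  rw [← Int.cast_one, ZMod.lift_coe]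
  simp

theorem hom_ext_one {F : EtCoh.Ab X} {U : X.Etale} {n : ℕ} {φ ψ : EtPBC.extZeroConst U (ZMod n) ⟶ F}
    (h : φ.hom.app (op U) (one U n) = ψ.hom.app (op U) (one U n)) : φ = ψ := by
  let M := AddCommGrpCat.of (ULift.{u + 1} (ZMod n))
  let A := (constantSheafAdj (X.smallEtaleTopology.over U) AddCommGrpCat.{u + 1} (Over.mkIdTerminal (X := U))).comp
    (EtPBC.extZeroAdj U)
  apply (A.homEquiv M F).injective
  apply AddCommGrpCat.hom_ext
  apply AddMonoidHom.ext
  rintro ⟨x⟩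
  obtain ⟨k, rfl⟩ := ZMod.intCast_surjective x
  have e : (⟨(k : ZMod n)⟩ : M) = k • (⟨1⟩ : M) := ULift.ext _ _ (zsmul_one k).symm
  rw [e, map_zsmul, map_zsmul]
  congr 1

/-! ### Stalks and sections of filtered colimits -/

section colim

variable {J : Type v} [Category.{v'} J] [IsFiltered J]
  [PreservesColimitsOfShape J (forget AddCommGrpCat.{u + 1})]
  {D : J ⥤ EtCoh.Ab X} {c : Cocone D} (hc : IsColimit c)
  {Ω : Type u} [Field Ω] [IsSepClosed Ω] (ξ : Spec (CommRingCat.of Ω) ⟶ X)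

include hc

theorem exists_stalk_rep (e : (EtCoh.stalk ξ).obj c.pt) :
    ∃ (j : J) (a : (EtCoh.stalk ξ).obj (D.obj j)), (EtCoh.stalk ξ).map (c.ι.app j) a = e := by
  haveI : PreservesColimit D (EtCoh.stalk ξ) := inferInstance
  exact Concrete.isColimit_exists_rep (D ⋙ EtCoh.stalk ξ) (isColimitOfPreserves (EtCoh.stalk ξ) hc) e

theorem exists_stalk_zero (j : J) (a : (EtCoh.stalk ξ).obj (D.obj j))
    (ha : (EtCoh.stalk ξ).map (c.ι.app j) a = 0) :
    ∃ (k : J) (f : j ⟶ k), (EtCoh.stalk ξ).map (D.map f) a = 0 := by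
  obtain ⟨k, f, g, hfg⟩ := (Concrete.isColimit_rep_eq_iff_exists (D ⋙ EtCoh.stalk ξ)
    (isColimitOfPreserves (EtCoh.stalk ξ) hc) a (0 : (EtCoh.stalk ξ).obj (D.obj j))).1 (ha.trans (map_zero _).symm)
  exact ⟨k, f, hfg.trans (map_zero _)⟩

end colim

/-! ### The system of constructible sheaves over a torsion sheaf -/

/-- Data presenting a constructible sheaf. -/
structure Pres (X : Scheme.{u}) : Type (u + 1) where
  n : ℕ
  a : ℕ
  b : ℕ
  V : Fin a → X.Etale
  U : Fin b → X.Etale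
  φ : (⨁ fun j => EtPBC.extZeroConst (V j) (ZMod n)) ⟶ ⨁ fun i => EtPBC.extZeroConst (U i) (ZMod n)

/-- The presented sheaf. -/
noncomputable def Pres.sheaf (d : Pres X) : EtCoh.Ab X := cokernel d.φ

theorem exists_pres [CompactSpace X] [QuasiSeparatedSpace X] {E : EtCoh.Ab X} (hE : EtPBC.IsConstructible E) :
    ∃ d : Pres X, Nonempty (E ≅ d.sheaf) := by
  obtain ⟨n, hn, hEn⟩ := exists_killedBy hE
  obtain ⟨a, b, V, U, -, -, φ, e⟩ := S0138.result X n hn E hE hEn
  exact ⟨⟨n, a, b, V, U, φ⟩, e⟩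

theorem isConstructible_biprod_any [CompactSpace X] [QuasiSeparatedSpace X] {F G : EtCoh.Ab X}
    (hF : EtPBC.IsConstructible F) (hG : EtPBC.IsConstructible G) : EtPBC.IsConstructible (F ⊞ G) := by
  obtain ⟨n, hn, hFn⟩ := exists_killedBy hF
  obtain ⟨m, hm, hGm⟩ := exists_killedBy hG
  exact isConstructible_biprod (Nat.mul_pos hn hm) (killedBy_mul_right m hFn) (killedBy_mul_left n hGm) hF hG

/-- The objects of the system: presented sheaves with property `P`, mapped to `F`. -/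
structure SysObj (P : ObjectProperty (EtCoh.Ab X)) (F : EtCoh.Ab X) : Type (u + 1) where
  d : Pres X
  hP : P d.sheaf
  g : d.sheaf ⟶ F

variable {P : ObjectProperty (EtCoh.Ab X)} {F : EtCoh.Ab X}

noncomputable instance : SmallCategory (SysObj P F) where
  Hom a b := {f : a.d.sheaf ⟶ b.d.sheaf // f ≫ b.g = a.g}
  id a := ⟨𝟙 _, Category.id_comp _⟩
  comp f g := ⟨f.1 ≫ g.1, by rw [Category.assoc, g.2, f.2]⟩

/-- The diagram of the system. -/
noncomputable def sysDiag (P : ObjectProperty (EtCoh.Ab X)) (F : EtCoh.Ab X) : SysObj P F ⥤ EtCoh.Ab X where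
  obj a := a.d.sheaf
  map f := f.1

/-- The cocone of the system. -/
noncomputable def sysCocone (P : ObjectProperty (EtCoh.Ab X)) (F : EtCoh.Ab X) : Cocone (sysDiag P F) where
  pt := F
  ι := { app a := a.g, naturality a b f := f.2.trans (Category.comp_id _).symm }

/-- `P` consists of constructible sheaves and catches every constructible sheaf over `F`. -/
structure SysHyp (P : ObjectProperty (EtCoh.Ab X)) (F : EtCoh.Ab X) : Prop where
  cons : ∀ E, P E → EtPBC.IsConstructible E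
  of_iso : ∀ {E E' : EtCoh.Ab X}, (E ≅ E') → P E → P E'
  step : ∀ E, EtPBC.IsConstructible E → ∀ g : E ⟶ F, ∃ (E' : EtCoh.Ab X) (_ : P E') (h : E ⟶ E') (g' : E' ⟶ F),
    h ≫ g' = g

section
variable [CompactSpace X] [QuasiSeparatedSpace X] (H : SysHyp P F)

include H

theorem SysHyp.exists_obj {E : EtCoh.Ab X} (hE : EtPBC.IsConstructible E) (g : E ⟶ F) :
    ∃ (a : SysObj P F) (h : E ⟶ a.d.sheaf), h ≫ a.g = g := by
  obtain ⟨E', hP, h, g', hg⟩ := H.step E hE g
  obtain ⟨d, ⟨e⟩⟩ := exists_pres (H.cons E' hP)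
  exact ⟨⟨d, H.of_iso e hP, e.inv ≫ g'⟩, h ≫ e.hom, by simpa using hg⟩

theorem SysHyp.isFiltered : IsFiltered (SysObj P F) := by
  haveI : IsAffine (EtPointClass.sub (EtCoh.top X) ⊥).left := isAffineOpen_bot (EtCoh.top X).left
  haveI : Nonempty (SysObj P F) := ⟨(H.exists_obj
    (isConstructible_extZeroConst_zmod (EtPointClass.sub (EtCoh.top X) ⊥) 1 one_pos) 0).choose⟩
  haveI : IsFilteredOrEmpty (SysObj P F) := by
    refine ⟨fun a b => ?_, fun a b f g => ?_⟩
    · obtain ⟨c, h, hh⟩ := H.exists_obj (isConstructible_biprod_any (H.cons _ a.hP) (H.cons _ b.hP)) (biprod.desc a.g b.g)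
      exact ⟨c, ⟨biprod.inl ≫ h, by rw [Category.assoc, hh, biprod.inl_desc]⟩,
        ⟨biprod.inr ≫ h, by rw [Category.assoc, hh, biprod.inr_desc]⟩, trivial⟩
    · have hz : (f.1 - g.1) ≫ b.g = 0 := by rw [Preadditive.sub_comp, f.2, g.2, sub_self]
      obtain ⟨c, h, hh⟩ := H.exists_obj (isConstructible_kernel_cokernel (f.1 - g.1) (H.cons _ a.hP) (H.cons _ b.hP)).2
        (cokernel.desc _ b.g hz)
      refine ⟨c, ⟨cokernel.π (f.1 - g.1) ≫ h, by rw [Category.assoc, hh, cokernel.π_desc]⟩, Subtype.ext ?_⟩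
      show f.1 ≫ cokernel.π (f.1 - g.1) ≫ h = g.1 ≫ cokernel.π (f.1 - g.1) ≫ h
      rw [← sub_eq_zero, ← Preadditive.sub_comp, ← Category.assoc, cokernel.condition, zero_comp]
  exact ⟨⟩

omit H in
/-- A stalk element dying in `F` dies in a constructible sheaf over `F`. -/
theorem exists_kill {E : EtCoh.Ab X} (hE : EtPBC.IsConstructible E) (g : E ⟶ F) {Ω : Type u} [Field Ω] [IsSepClosed Ω]
    (ξ : Spec (CommRingCat.of Ω) ⟶ X) (b : (EtCoh.stalk ξ).obj E) (hb : (EtCoh.stalk ξ).map g b = 0) :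
    ∃ (E' : EtCoh.Ab X) (_ : EtPBC.IsConstructible E') (h : E ⟶ E') (g' : E' ⟶ F),
      h ≫ g' = g ∧ (EtCoh.stalk ξ).map h b = 0 ∧ Epi h := by
  obtain ⟨n, hn, hEn⟩ := exists_killedBy hE
  obtain ⟨U, l, s, rfl⟩ := (Scheme.pointSmallEtale ξ).toPresheafFiber_jointly_surjective b
  have hb' : germ ξ F l (g.hom.app (op U) s) = germ ξ F l (0 : EtCoh.sect F U) :=
    ((germ_app g l s).symm.trans hb).trans (map_zero _).symm
  obtain ⟨V, k, y, hy, hk⟩ := ((Scheme.pointSmallEtale ξ).toPresheafFiber_eq_iff' U l _ _).1 hb'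
  obtain ⟨W, hW, hyW, -⟩ := exists_isAffineOpen_mem_and_subset
    (show liftHom ξ y default ∈ (⊤ : V.left.Opens) from trivial)
  obtain ⟨w, hw⟩ := exists_fiber_map_eq ξ (EtPointClass.incl V W) y ⟨_, hyW⟩ rfl
  let s' := E.obj.map (EtPointClass.incl V W ≫ k).op s
  obtain ⟨ψ, hψ⟩ := exists_hom_one E n s' (hEn _ _)
  have hz : ψ ≫ g = 0 := hom_ext_one <| by
    show g.hom.app _ (ψ.hom.app _ (one _ n)) = (0 : EtPBC.extZeroConst _ (ZMod n) ⟶ F).hom.app _ (one _ n)
    rw [hψ]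
    refine (NatTrans.naturality_apply g.hom (EtPointClass.incl V W ≫ k).op s).trans ?_
    rw [← sect_map_map F k (EtPointClass.incl V W)]
    refine (congrArg (F.obj.map (EtPointClass.incl V W).op) hk).trans ?_
    rw [sect_map_map]
    exact map_zero _
  haveI : IsAffine (EtPointClass.sub V W).left := hW
  refine ⟨cokernel ψ, (isConstructible_kernel_cokernel ψ (isConstructible_extZeroConst_zmod _ n hn) hE).2,
    cokernel.π ψ, cokernel.desc ψ g hz, cokernel.π_desc _ _ _, ?_, inferInstance⟩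
  have e : germ ξ E l s = germ ξ E w s' := by
    rw [germ_map, (Scheme.pointSmallEtale ξ).fiber.map_comp, ConcreteCategory.comp_apply, hw, hy]
  refine (congrArg ((EtCoh.stalk ξ).map (cokernel.π ψ)) e).trans ?_
  rw [germ_app, ← hψ]
  refine (congrArg (germ ξ _ w) (congrArg (fun t : EtPBC.extZeroConst _ (ZMod n) ⟶ cokernel ψ => t.hom.app _ (one _ n))
    (cokernel.condition ψ))).trans ?_
  exact map_zero _

/-- A torsion sheaf is the colimit of the system. -/
theorem SysHyp.nonempty_isColimit (hF : EtCoh.IsTorsion F) : Nonempty (IsColimit (sysCocone P F)) := by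
  haveI := H.isFiltered
  let δ : colimit (sysDiag P F) ⟶ F := colimit.desc _ (sysCocone P F)
  have hδ : ∀ (a : SysObj P F) {Ω : Type u} [Field Ω] [IsSepClosed Ω] (ξ : Spec (CommRingCat.of Ω) ⟶ X)
      (x : (EtCoh.stalk ξ).obj a.d.sheaf),
      (EtCoh.stalk ξ).map δ ((EtCoh.stalk ξ).map (colimit.ι (sysDiag P F) a) x) = (EtCoh.stalk ξ).map a.g x :=
    fun a Ω _ _ ξ x => (stalk_comp (colimit.ι (sysDiag P F) a) δ ξ x).symm.trans
      (congrArg (fun t => (EtCoh.stalk ξ).map t x) (colimit.ι_desc (sysCocone P F) a))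
  haveI : Epi δ := (epi_iff_ab δ).2 fun Ω _ _ ξ b => by
    obtain ⟨U, hU, n, hn, φ, x, hx⟩ := exists_gen hF ξ b
    obtain ⟨a, h, hh⟩ := H.exists_obj (isConstructible_extZeroConst_zmod U n hn) φ
    refine ⟨(EtCoh.stalk ξ).map (colimit.ι (sysDiag P F) a) ((EtCoh.stalk ξ).map h x), ?_⟩
    rw [hδ, ← stalk_comp, hh, hx]
  haveI : Mono δ := (mono_iff_ab δ).2 fun Ω _ _ ξ x y hxy => by
    rw [← sub_eq_zero] at hxy ⊢
    rw [← map_sub] at hxy
    obtain ⟨a, b, hb⟩ := exists_stalk_rep (colimit.isColimit (sysDiag P F)) ξ (x - y)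
    change (EtCoh.stalk ξ).map (colimit.ι (sysDiag P F) a) b = x - y at hb
    rw [← hb, hδ] at hxy
    obtain ⟨E', hE', h, g', hg, hkill, -⟩ := exists_kill (H.cons _ a.hP) a.g ξ b hxy
    obtain ⟨a', h', hh'⟩ := H.exists_obj hE' g'
    let m : a ⟶ a' := ⟨h ≫ h', by rw [Category.assoc, hh', hg]⟩
    rw [← hb, ← colimit.w (sysDiag P F) m, stalk_comp]
    refine (congrArg _ ((stalk_comp h h' ξ b).trans ((congrArg _ hkill).trans (map_zero _)))).trans (map_zero _)
  haveI : IsIso δ := isIso_of_mono_of_epi δ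
  exact ⟨(colimit.isColimit _).ofIsoColimit (Cocone.ext (asIso δ) fun a => colimit.ι_desc _ _)⟩

end

end Groth.Agent.FLCLib
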