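import Groth.Agent.FLCLib.Compact
import Groth.Agent.CohColim.EtQC
import Groth.Agent.S0134
/-!
Torsion in cohomology and effaceability by constructible sheaves.
-/

set_option autoImplicit false
set_option backward.isDefEq.respectTransparency false

universe u

open CategoryTheory CategoryTheory.Limits AlgebraicGeometry Opposite Abelian

namespace Groth.Agent.FLCLib

variable {X : Scheme.{u}}

theorem isAddTorsion_H [CompactSpace X] [QuasiSeparatedSpace X] {F : EtCoh.Ab X} (hF : EtCoh.IsTorsion F) (n : ℕ) :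
    IsAddTorsion (EtCoh.H X F n) := by
  obtain ⟨J, _, _, D, c, hc, hD, ⟨e⟩⟩ := S0134.result X F hF
  haveI := CohColim.preserves_HF X n J
  intro x
  obtain ⟨j, y, hy⟩ := Concrete.isColimit_exists_rep (D ⋙ EtCoh.HF X n) (isColimitOfPreserves (EtCoh.HF X n) hc)
    ((EtCoh.HF X n).map e.inv x)
  obtain ⟨N, hN, hDN⟩ := exists_killedBy (hD j)
  refine isOfFinAddOrder_iff_nsmul_eq_zero.2 ⟨N, hN, ?_⟩
  have h0 : N • y = 0 := by
    haveI : (EtCoh.HF X n).Additive := by unfold EtCoh.HF; infer_instance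
    have h : (EtCoh.HF X n).map (N • 𝟙 (D.obj j)) y = 0 := by
      rw [(killedBy_iff N _).1 hDN, Functor.map_zero]; rfl
    rw [Functor.map_nsmul, CategoryTheory.Functor.map_id] at h
    exact h
  have hx : x = (EtCoh.HF X n).map e.hom ((EtCoh.HF X n).map e.inv x) := by
    rw [← ConcreteCategory.comp_apply, ← Functor.map_comp, e.inv_hom_id, CategoryTheory.Functor.map_id]; rfl
  rw [hx, ← hy]
  refine (map_nsmul ((EtCoh.HF X n).map e.hom).hom N _).symm.trans ?_
  refine (congrArg ((EtCoh.HF X n).map e.hom).hom (map_nsmul ((EtCoh.HF X n).map (c.ι.app j)).hom N y).symm).trans ?_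
  refine (congrArg ((EtCoh.HF X n).map e.hom).hom
    ((congrArg ((EtCoh.HF X n).map (c.ι.app j)).hom h0).trans (map_zero _))).trans (map_zero _)

theorem nsmul_free_injective (α : Type (u + 1)) {n : ℕ} (hn : 0 < n) :
    Function.Injective fun x : FreeAbelianGroup α => n • x := fun a b h => by
  apply (FreeAbelianGroup.equivFinsupp α).injective
  have h' := congrArg (FreeAbelianGroup.equivFinsupp α) h
  simp only [map_nsmul] at h'
  ext i
  have := congrArg (fun f => f i) h'
  simp only [Finsupp.smul_apply, nsmul_eq_mul] at this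
  exact mul_left_cancel₀ (Nat.cast_ne_zero.2 hn.ne') this

theorem mono_nsmul_sheafify {n : ℕ} (P : X.Etaleᵒᵖ ⥤ AddCommGrpCat.{u + 1})
    (hP : ∀ V, Function.Injective fun x : P.obj V => n • x) :
    Mono (n • 𝟙 ((presheafToSheaf X.smallEtaleTopology AddCommGrpCat.{u + 1}).obj P)) := by
  haveI : ∀ V, Mono ((n • 𝟙 P : P ⟶ P).app V) := fun V => (AddCommGrpCat.mono_iff_injective _).2 (hP V)
  haveI : Mono (n • 𝟙 P) := NatTrans.mono_of_mono_app _
  rw [← CategoryTheory.Functor.map_id, ← Functor.map_nsmul]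
  infer_instance

/-- The free sheaf on an object. -/
noncomputable def freePre (U : X.Etale) : X.Etaleᵒᵖ ⥤ AddCommGrpCat.{u + 1} :=
  uliftYoneda.{u + 1}.obj U ⋙ AddCommGrpCat.free

/-- An injective sheaf has divisible sections. -/
theorem exists_nsmul_eq_sect {I : EtCoh.Ab X} [Injective I] {n : ℕ} (hn : 0 < n) (U : X.Etale) (s : EtCoh.sect I U) :
    ∃ t : EtCoh.sect I U, n • t = s := by
  haveI := mono_nsmul_sheafify (n := n) (freePre U) fun V => nsmul_free_injective _ hn
  let ν : freePre U ⟶ I.obj :=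
    { app := fun V => AddCommGrpCat.ofHom (FreeAbelianGroup.lift fun g => I.obj.map g.down.op s)
      naturality := fun V W a => by
        apply AddCommGrpCat.hom_ext
        refine FreeAbelianGroup.lift_ext _ _ fun g => ?_
        simp [freePre]
        try erw [FreeAbelianGroup.map_of_apply, FreeAbelianGroup.lift_apply_of] }
  let adj := sheafificationAdjunction X.smallEtaleTopology AddCommGrpCat.{u + 1}
  let ψ := (adj.homEquiv (freePre U) I).symm ν
  let χ := Injective.factorThru ψ (n • 𝟙 ((presheafToSheaf X.smallEtaleTopology AddCommGrpCat.{u + 1}).obj (freePre U)))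
  have hχ : n • χ = ψ := by
    rw [← Injective.comp_factorThru ψ (n • 𝟙 ((presheafToSheaf X.smallEtaleTopology AddCommGrpCat.{u + 1}).obj (freePre U))),
      Preadditive.nsmul_comp, Category.id_comp]
  let e0 : ((presheafToSheaf X.smallEtaleTopology AddCommGrpCat.{u + 1}).obj (freePre U)).obj.obj (op U) :=
    (adj.unit.app (freePre U)).app (op U) (FreeAbelianGroup.of (ULift.up (𝟙 U)))
  refine ⟨χ.hom.app (op U) e0, ?_⟩
  refine Eq.trans ?_ (show ψ.hom.app (op U) e0 = s from ?_)
  · rw [← hχ]; rfl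
  · have h := (adj.homEquiv (freePre U) I).apply_symm_apply ν
    rw [Adjunction.homEquiv_unit] at h
    refine (congrArg (fun m : freePre U ⟶ I.obj => m.app (op U) (FreeAbelianGroup.of (ULift.up (𝟙 U)))) h).trans ?_
    show FreeAbelianGroup.lift _ _ = _
    rw [FreeAbelianGroup.lift_apply_of]
    simp

/-- Constructible sheaves efface cohomology. -/
theorem exists_efface [CompactSpace X] [QuasiSeparatedSpace X] {F : EtCoh.Ab X} (hF : EtPBC.IsConstructible F)
    (q : ℕ) (hq : 0 < q) (α : EtCoh.H X F q) :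
    ∃ (G : EtCoh.Ab X) (u : F ⟶ G), EtPBC.IsConstructible G ∧ Mono u ∧ (EtCoh.HF X q).map u α = 0 := by
  obtain ⟨N, hN, hFN⟩ := exists_killedBy hF
  let I := Injective.under F
  let m : I ⟶ I := N • 𝟙 I
  have hFm : Injective.ι F ≫ m = 0 := by
    rw [Preadditive.comp_nsmul, Category.comp_id, ← Category.id_comp (Injective.ι F), ← Preadditive.nsmul_comp,
      (killedBy_iff N F).1 hFN, zero_comp]
  let T := kernel m
  let u₀ : F ⟶ T := kernel.lift m (Injective.ι F) hFm
  haveI : Mono u₀ := mono_of_mono_fac (kernel.lift_ι m (Injective.ι F) hFm)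
  haveI : Epi m := (EtPtsLib.epi_iff_ab m).2 fun Ω _ _ ξ b => by
    obtain ⟨U, l, s, rfl⟩ := (Scheme.pointSmallEtale ξ).toPresheafFiber_jointly_surjective b
    obtain ⟨t, ht⟩ := exists_nsmul_eq_sect hN U s
    refine ⟨EtPtsLib.germ ξ I l t, ?_⟩
    rw [germ_app]
    exact congrArg (EtPtsLib.germ ξ I l) ht
  have hS : (ShortComplex.mk (kernel.ι m) m (kernel.condition m)).ShortExact :=
    ⟨ShortComplex.exact_of_f_is_kernel _ (kernelIsKernel m)⟩
  have hTN : EtCoh.KilledBy N T := by
    rw [killedBy_iff, ← cancel_mono (kernel.ι m), zero_comp, Preadditive.nsmul_comp, Category.id_comp,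
      ← Category.comp_id (kernel.ι m), ← Preadditive.comp_nsmul]
    exact kernel.condition m
  have hTt : EtCoh.IsTorsion T := fun U s x =>
    ⟨U, 𝟙 U, ⟨x, rfl⟩, isOfFinAddOrder_iff_nsmul_eq_zero.2 ⟨N, hN, hTN U _⟩⟩
  have hvan : ∀ x : EtCoh.H X T q, x = 0 := by
    intro x
    obtain ⟨q₀, rfl⟩ := Nat.exists_eq_succ_of_ne_zero hq.ne'
    obtain ⟨y, rfl⟩ := Ext.covariant_sequence_exact₁ _ hS x (Ext.eq_zero_of_injective _) (n₀ := q₀) (by omega)
    rcases q₀ with _ | q₁
    · obtain ⟨g, rfl⟩ := (Ext.mk₀_bijective _ _).2 y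
      haveI := mono_nsmul_sheafify (X := X) (n := N)
        ((Functor.const X.Etaleᵒᵖ).obj (AddCommGrpCat.of (ULift.{u + 1} ℤ))) fun V a b h => by
          have := congrArg ULift.down h
          exact ULift.ext _ _ (mul_left_cancel₀ (Nat.cast_ne_zero.2 hN.ne' : (N : ℤ) ≠ 0)
            (by simpa [nsmul_eq_mul] using this))
      let C₀ := (constantSheaf X.smallEtaleTopology AddCommGrpCat.{u + 1}).obj (AddCommGrpCat.of (ULift.{u + 1} ℤ))
      haveI : Mono (N • 𝟙 C₀) := ‹_›
      let g' := Injective.factorThru g (N • 𝟙 C₀)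
      have hg : g' ≫ m = g := by
        rw [Preadditive.comp_nsmul, Category.comp_id, ← Category.id_comp g', ← Preadditive.nsmul_comp]
        exact Injective.comp_factorThru g _
      rw [← hg, ← Ext.mk₀_comp_mk₀, Ext.comp_assoc_of_second_deg_zero, hS.comp_extClass, Ext.comp_zero]
    · rw [Ext.eq_zero_of_injective y, Ext.zero_comp]
  obtain ⟨J, _, _, D, c, hc, hD, ⟨e⟩⟩ := S0134.result X T hTt
  haveI := CohColim.preserves_HF X q J
  haveI : PreservesColimitsOfShape J (coyoneda.obj (op F)) := preservesColimitsOfShape_coyoneda hF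
  obtain ⟨j, v, hv⟩ := Types.jointly_surjective _ (isColimitOfPreserves (coyoneda.obj (op F)) hc) (u₀ ≫ e.inv)
  change F ⟶ D.obj j at v
  change v ≫ c.ι.app j = u₀ ≫ e.inv at hv
  have hα : (EtCoh.HF X q).map (c.ι.app j) ((EtCoh.HF X q).map v α) = (EtCoh.HF X q).map (c.ι.app j) 0 := by
    rw [← ConcreteCategory.comp_apply, ← Functor.map_comp, hv, Functor.map_comp, ConcreteCategory.comp_apply]
    refine Eq.trans ?_ (map_zero _).symm
    rw [hvan ((EtCoh.HF X q).map u₀ α)]
    exact map_zero _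
  obtain ⟨k, f, g, hfg⟩ := (Concrete.isColimit_rep_eq_iff_exists (D ⋙ EtCoh.HF X q)
    (isColimitOfPreserves (EtCoh.HF X q) hc) _ _).1 hα
  refine ⟨D.obj k, v ≫ D.map f, hD k, ?_, ?_⟩
  · haveI : Mono ((v ≫ D.map f) ≫ c.ι.app k) := by
      rw [Category.assoc, c.w f, hv]; infer_instance
    exact mono_of_mono _ (c.ι.app k)
  · rw [Functor.map_comp, ConcreteCategory.comp_apply]
    exact hfg.trans (map_zero _)

end Groth.Agent.FLCLib
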