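import Groth.Agent.FLCLib.Good
import Groth.Agent.FLCLib.Sub
/-!
Constructibility descends along surjective morphisms.
-/

set_option autoImplicit false
set_option backward.isDefEq.respectTransparency false
set_option backward.isDefEq.respectTransparency.types false

universe u

open CategoryTheory CategoryTheory.Limits AlgebraicGeometry Opposite Topology

namespace Groth.Agent.FLCLib

open EtPtsLib

theorem isConstructible_of_iso {X : Scheme.{u}} {F G : EtCoh.Ab X} (a : F ≅ G) (h : EtPBC.IsConstructible F) :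
    EtPBC.IsConstructible G := by
  rw [isConstructible_iff] at h ⊢
  exact fun U hU => (h U hU).of_iso ((EtCoh.pull U.ι).mapIso a)

theorem hasGood_of_pull {X Y : Scheme.{u}} (f : X ⟶ Y) [CompactSpace X] [QuasiSeparatedSpace X] [QuasiSeparatedSpace Y]
    {F : EtCoh.Ab Y} (hF : EtPBC.IsConstructible ((EtCoh.pull f).obj F)) (x : X)
    (hr : ∀ U : Y.Etale, IsAffine U.left → IsOpen[constructibleTopology U.left] (Set.range (bcFst f U))) :
    HasGood F (f x) := by
  let ζ := geomPt x
  let ξ := ζ ≫ f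
  have hξ : ξ default = f x := (Scheme.Hom.comp_apply _ _ _).trans (congrArg f (geomPt_default x))
  haveI := finite_stalk_of_genConst (genCard_of_isConstructible hF).genConst ζ
  haveI : Finite ((EtCoh.stalk ξ).obj F) :=
    haveI : Finite ↑((EtCoh.pull f ⋙ EtCoh.stalk ζ).obj F) := (inferInstance : Finite ((EtCoh.stalk ζ).obj ((EtCoh.pull f).obj F)))
    Finite.of_equiv _ ((stalkPullIso f ζ).app F).addCommGroupIsoToAddEquiv.toEquiv
  obtain ⟨q₀, -, σ, -, hσ⟩ := exists_sigma F (⟨EtCoh.top Y, topLift ξ⟩ : Nbhd ξ)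
  obtain ⟨W, hW, hqW, -⟩ := exists_isAffineOpen_mem_and_subset (show q₀.point ∈ (⊤ : q₀.1.left.Opens) from trivial)
  obtain ⟨y, hy⟩ := exists_fiber_map_eq ξ (EtPointClass.incl q₀.1 W) q₀.2 ⟨q₀.point, hqW⟩ rfl
  let q : Nbhd ξ := ⟨EtPointClass.sub q₀.1 W, y⟩
  let θ := σ ≫ F.obj.map (EtPointClass.incl q₀.1 W).op
  have hθ : Function.Bijective fun e : (EtCoh.stalk ξ).obj F => germ ξ F q.2 (θ e) := by
    rw [show (fun e : (EtCoh.stalk ξ).obj F => germ ξ F q.2 (θ e)) = id from funext fun e =>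
      (germ_map ξ F (EtPointClass.incl q₀.1 W) y (σ e)).trans
        ((congrArg (fun l => germ ξ F l (σ e)) hy).trans (hσ e))]
    exact Function.bijective_id
  haveI : IsAffine q.1.left := hW
  let B := (EtCoh.bc f).obj q.1
  haveI : IsAffine ((𝟭 Scheme).obj q.1.left) := hW
  haveI : QuasiSeparatedSpace ((Functor.fromPUnit Y).obj q.1.right) := (inferInstance : QuasiSeparatedSpace Y)
  haveI : QuasiCompact q.1.hom := quasiCompact_of_compactSpace q.1.hom
  haveI : QuasiSeparated q.1.hom := QuasiSeparated.of_quasiSeparatedSpace q.1.hom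
  haveI : CompactSpace B.left := QuasiCompact.compactSpace_of_compactSpace (pullback.snd q.1.hom f)
  haveI : QuasiSeparatedSpace B.left := quasiSeparatedSpace_of_quasiSeparated (pullback.snd q.1.hom f)
  let θ' := θ ≫ ((EtCoh.pullPushAdj f).unit.app F).hom.app (op q.1)
  have hbad := (SpectralLib.isClopen_C_of_isConstructible (isConstructible_good hF B θ').compl).1
  let G : Set q.1.left := Set.range (bcFst f q.1) \ (bcFst f q.1 '' {b : B.left | GoodPt ((EtCoh.pull f).obj F) B θ' b}ᶜ)
  have hG : IsOpen[constructibleTopology q.1.left] G := by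
    haveI : QuasiCompact (bcFst f q.1) := quasiCompact_of_compactSpace _
    refine @IsOpen.inter q.1.left (constructibleTopology q.1.left) _ _ (hr q.1 hW)
      ((@isOpen_compl_iff q.1.left _ (constructibleTopology q.1.left)).2 ?_)
    exact @IsCompact.isClosed q.1.left (constructibleTopology q.1.left) SpectralLib.t2Space_C _
      (@IsCompact.image B.left q.1.left (constructibleTopology B.left) (constructibleTopology q.1.left) _ _
        (SpectralLib.isCompact_C_of_isClosed hbad) (SpectralLib.continuous_C (bcFst f q.1).isSpectralMap))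
  have key : ∀ (Ω : Type u) [Field Ω] [IsSepClosed Ω] (ζ : Spec (CommRingCat.of Ω) ⟶ X)
      (l : (Scheme.pointSmallEtale (ζ ≫ f)).fiber.obj q.1),
      (fun m : (EtCoh.stalk ξ).obj F => germ ζ ((EtCoh.pull f).obj F) (liftBc f ζ q.1 l) (θ' m)) =
        unitStalk f ζ F ∘ fun m => germ (ζ ≫ f) F l (θ m) := fun Ω _ _ ζ l => funext fun m =>
    (ConcreteCategory.congr_hom (toPresheafFiber_unitStalk f ζ F q.1 l) (θ m)).symm
  have hfst : ∀ (Ω : Type u) [Field Ω] [IsSepClosed Ω] (ζ : Spec (CommRingCat.of Ω) ⟶ X)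
      (l : (Scheme.pointSmallEtale (ζ ≫ f)).fiber.obj q.1),
      bcFst f q.1 (liftHom ζ (liftBc f ζ q.1 l) default) = liftHom (ζ ≫ f) l default := fun Ω _ _ ζ l =>
    (Scheme.Hom.comp_apply _ _ _).symm.trans
      (congrArg (fun m : Spec (CommRingCat.of Ω) ⟶ q.1.left => m default) (liftHom_liftBc_fst f ζ q.1 l))
  refine ⟨q.1, _, θ, G, q.point, hW, inferInstance, hG, q.hom_point.trans hξ, ⟨⟨_, hfst _ ζ q.2⟩, ?_⟩, ?_⟩
  · rintro ⟨b, hb, hbw⟩
    refine hb ?_
    obtain ⟨lb, hlb⟩ := exists_lift_geomPt b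
    let ζb := geomPt (B.hom b)
    let l : (Scheme.pointSmallEtale (ζb ≫ f)).fiber.obj q.1 := Over.homMk (liftHom ζb lb ≫ bcFst f q.1) (by
      show (liftHom ζb lb ≫ pullback.fst q.1.hom f) ≫ q.1.hom = ζb ≫ f
      rw [Category.assoc, pullback.condition, ← Category.assoc]
      exact congrArg (· ≫ f) (liftHom_comp ζb lb))
    have hl : liftBc f ζb q.1 l = lb := fiber_bc_ext f ζb (liftHom_liftBc_fst f ζb q.1 l)
    have hgood : GoodPt F q.1 θ q.point := goodPt_of_one q.2 rfl hθ
    have hpt : liftHom (ζb ≫ f) l default = q.point := by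
      rw [← hfst _ ζb l, hl, hlb, hbw]
    refine goodPt_of_one lb hlb ?_
    rw [← hl]
    refine (key _ ζb l).symm ▸ ?_
    refine (bijective_unitStalk f ζb F).comp ?_
    obtain ⟨la, hla⟩ := exists_lift_geomPtAlg (U := q.1) q.point
    haveI : Finite ((EtCoh.stalk (geomPtAlg (q.1.hom q.point))).obj F) :=
      Finite.of_equiv _ (Equiv.ofBijective _ (hgood _ _ la hla))
    have hbase : (ζb ≫ f) default = geomPtAlg (q.1.hom q.point) default := by
      rw [geomPtAlg_default, ← Nbhd.hom_point (⟨q.1, l⟩ : Nbhd (ζb ≫ f))]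
      exact congrArg q.1.hom hpt
    obtain ⟨hf, hc⟩ := stalk_card_eq F (geomPtAlg (q.1.hom q.point)) (ζb ≫ f) hbase.symm
    have hinj : Function.Injective fun m => germ (ζb ≫ f) F l (θ m) := fun a c hac => (hgood _ _ la hla).1 <| by
      refine (germ_eq_iff_mem_agree _ F.obj la _ _).2 ?_
      rw [hla, ← hpt]
      exact (germ_eq_iff_mem_agree _ F.obj l _ _).1 hac
    exact hinj.bijective_of_nat_card_le (hc.trans (Nat.card_congr (Equiv.ofBijective _ (hgood _ _ la hla))).symm).le
  · rintro w ⟨⟨b, rfl⟩, hw⟩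
    have hb : GoodPt ((EtCoh.pull f).obj F) B θ' b := by_contra fun hn => hw ⟨b, hn, rfl⟩
    obtain ⟨lb, hlb⟩ := exists_lift_geomPtAlg b
    let ζb := geomPtAlg (B.hom b)
    let l : (Scheme.pointSmallEtale (ζb ≫ f)).fiber.obj q.1 := Over.homMk (liftHom ζb lb ≫ bcFst f q.1) (by
      show (liftHom ζb lb ≫ pullback.fst q.1.hom f) ≫ q.1.hom = ζb ≫ f
      rw [Category.assoc, pullback.condition, ← Category.assoc]
      exact congrArg (· ≫ f) (liftHom_comp ζb lb))
    have hl : liftBc f ζb q.1 l = lb := fiber_bc_ext f ζb (liftHom_liftBc_fst f ζb q.1 l)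
    refine goodPt_of_one l (by rw [← hfst _ ζb l, hl, hlb]) ?_
    refine (Function.Bijective.of_comp_iff' (bijective_unitStalk f ζb F) _).1 ?_
    refine (key _ ζb l) ▸ ?_
    rw [hl]
    exact hb _ ζb lb hlb

end Groth.Agent.FLCLib
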