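import Groth.Agent.FLCLib.Ops
import Groth.Agent.FLCLib.Descent
import Groth.Agent.EtPtsLib.RecollEquiv
import Groth.Agent.EtPtsLib.OpenShriek
import Groth.Agent.EtJCont.Basic
/-!
Filtrations of constructible sheaves by extensions by zero along opens.
-/

set_option autoImplicit false
set_option backward.isDefEq.respectTransparency false
set_option backward.isDefEq.respectTransparency.types false

universe u

open CategoryTheory CategoryTheory.Limits AlgebraicGeometry Opposite Topology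

namespace Groth.Agent.FLCLib

open EtPtsLib

variable {X : Scheme.{u}}

theorem isIso_of_stalk {F G : EtCoh.Ab X} (a : F ⟶ G)
    (h : ∀ (Ω : Type u) [Field Ω] [IsSepClosed Ω] (ξ : Spec (CommRingCat.of Ω) ⟶ X),
      IsIso ((EtCoh.stalk ξ).map a)) : IsIso a := by
  haveI : Mono a := (mono_iff_ab _).2 fun Ω _ _ ξ => by
    haveI := h Ω ξ
    exact (ConcreteCategory.bijective_of_isIso ((EtCoh.stalk ξ).map a)).1
  haveI : Epi a := (epi_iff_ab _).2 fun Ω _ _ ξ => by
    haveI := h Ω ξ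
    exact (ConcreteCategory.bijective_of_isIso ((EtCoh.stalk ξ).map a)).2
  exact isIso_of_mono_of_epi a

section OpenImm

variable {U : Scheme.{u}} (j : U ⟶ X) [IsOpenImmersion j] [EtShriek.JCont j]

theorem isZero_restr {C : EtCoh.Ab X}
    (h : ∀ (Ω : Type u) [Field Ω] [IsSepClosed Ω] (ζ : Spec (CommRingCat.of Ω) ⟶ U),
      IsZero ((EtCoh.stalk (ζ ≫ j)).obj C)) : IsZero ((EtShriek.restrAlong j).obj C) :=
  (((isZero_iff_ab _).2 fun Ω _ _ ζ =>
    (h Ω ζ).of_iso ((stalkPullIso j ζ).app C)) :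
      IsZero ((EtCoh.pull j).obj C)).of_iso ((pullIsoRestr j).app C).symm

/-- The counit of extension by zero is an isomorphism on the open. -/
theorem isIso_stalk_counit_on (F : EtCoh.Ab X) {Ω : Type u} [Field Ω] [IsSepClosed Ω]
    (ζ : Spec (CommRingCat.of Ω) ⟶ U) :
    IsIso ((EtCoh.stalk (ζ ≫ j)).map ((EtShriek.extZeroAdj j).counit.app F)) := by
  haveI := isIso_unit_extZero j
  haveI : IsIso ((EtShriek.restrAlong j).map ((EtShriek.extZeroAdj j).counit.app F)) :=
    IsIso.of_isIso_fac_left ((EtShriek.extZeroAdj j).right_triangle_components F)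
  have h1 : IsIso ((EtCoh.pull j).map ((EtShriek.extZeroAdj j).counit.app F)) :=
    (NatIso.isIso_map_iff (pullIsoRestr j) _).2 inferInstance
  exact (NatIso.isIso_map_iff (stalkPullIso j ζ) _).1
    (Functor.map_isIso (EtCoh.stalk ζ) ((EtCoh.pull j).map ((EtShriek.extZeroAdj j).counit.app F)))

theorem mono_counit (F : EtCoh.Ab X) : Mono ((EtShriek.extZeroAdj j).counit.app F) :=
  (mono_iff_ab _).2 fun Ω _ _ ξ => by
    by_cases h : ξ default ∈ Set.range j
    · obtain ⟨ζ, rfl⟩ := exists_comp_eq j ξ h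
      haveI := isIso_stalk_counit_on j F ζ
      exact (ConcreteCategory.bijective_of_isIso
        ((EtCoh.stalk (ζ ≫ j)).map ((EtShriek.extZeroAdj j).counit.app F))).1
    · haveI : Subsingleton ((EtCoh.stalk ξ).obj ((EtShriek.extZero j).obj ((EtShriek.restrAlong j).obj F))) :=
        (subsingleton_iff_isZero _).2 (isZero_stalk_extZero j ξ h _)
      intro a b _
      exact Subsingleton.elim (α := ((EtCoh.stalk ξ).obj ((EtShriek.extZero j).obj ((EtShriek.restrAlong j).obj F)))) a b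

theorem isIso_counit_of_supp (F : EtCoh.Ab X)
    (h : ∀ (Ω : Type u) [Field Ω] [IsSepClosed Ω] (ξ : Spec (CommRingCat.of Ω) ⟶ X),
      ξ default ∉ Set.range j → IsZero ((EtCoh.stalk ξ).obj F)) :
    IsIso ((EtShriek.extZeroAdj j).counit.app F) := by
  refine isIso_of_stalk _ fun Ω _ _ ξ => ?_
  by_cases hx : ξ default ∈ Set.range j
  · obtain ⟨ζ, rfl⟩ := exists_comp_eq j ξ hx
    exact isIso_stalk_counit_on j F ζ
  · exact isIso_of_source_target_iso_zero _ (isZero_stalk_extZero j ξ hx _).isoZero (h Ω ξ hx).isoZero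

/-- Maps out of an extension by zero factor through a subsheaf which is everything on the open. -/
theorem exists_lift_extZero {G : EtCoh.Ab U} {A F : EtCoh.Ab X} (m : A ⟶ F) [Mono m]
    (g : (EtShriek.extZero j).obj G ⟶ F)
    (h : ∀ (Ω : Type u) [Field Ω] [IsSepClosed Ω] (ζ : Spec (CommRingCat.of Ω) ⟶ U),
      IsIso ((EtCoh.stalk (ζ ≫ j)).map m)) :
    ∃ ι : (EtShriek.extZero j).obj G ⟶ A, ι ≫ m = g := by
  have hz : IsZero ((EtShriek.restrAlong j).obj (cokernel m)) := isZero_restr j fun Ω _ _ ζ => by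
    haveI := h Ω ζ
    haveI : Epi ((EtCoh.stalk (ζ ≫ j)).map (cokernel.π m)) :=
      (AddCommGrpCat.epi_iff_surjective _).2 ((epi_iff_ab (cokernel.π m)).1 inferInstance Ω (ζ ≫ j))
    have h0 : (EtCoh.stalk (ζ ≫ j)).map (cokernel.π m) = 0 := by
      rw [← cancel_epi ((EtCoh.stalk (ζ ≫ j)).map m), ← Functor.map_comp, cokernel.condition, Functor.map_zero,
        comp_zero]
    exact IsZero.of_epi_eq_zero _ h0
  have hg : g ≫ cokernel.π m = 0 :=
    ((EtShriek.extZeroAdj j).homEquiv _ _).injective (hz.eq_of_tgt _ _)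
  exact ⟨Abelian.monoLift m g hg, Abelian.monoLift_comp m g hg⟩

end OpenImm

/-- `B` is an extension of a finite locally constant sheaf on a stratum by `A`. -/
def SESStep (A B : EtCoh.Ab X) : Prop :=
  ∃ (ι : A ⟶ B) (U W : Scheme.{u}) (j : U ⟶ X) (_ : IsOpenImmersion j) (c : W ⟶ U)
    (_ : IsClosedImmersion c) (G : EtCoh.Ab W)
    (π : B ⟶ (EtShriek.extZero j).obj ((EtCoh.push c).obj G)) (hz : ι ≫ π = 0),
    IsConstructible (Set.range (c ≫ j)) ∧ EtCoh.IsFiniteLocallyConstant G ∧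
      (ShortComplex.mk ι π hz).ShortExact

theorem SESStep.of_iso {A A' B : EtCoh.Ab X} (e : A' ≅ A) (h : SESStep A B) : SESStep A' B := by
  obtain ⟨ι, U, W, j, hj, c, hc, G, π, hz, hcon, hG, hS⟩ := h
  refine ⟨e.hom ≫ ι, U, W, j, hj, c, hc, G, π, by rw [Category.assoc, hz, comp_zero], hcon, hG, ?_⟩
  exact ShortComplex.shortExact_of_iso (S₁ := ShortComplex.mk ι π hz)
    (ShortComplex.isoMk e.symm (Iso.refl _) (Iso.refl _) (by simp) (by simp)) hS

/-- Sheaves obtained by finitely many steps. -/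
def HasFiltration (B : EtCoh.Ab X) : Prop :=
  ∃ (n : ℕ) (E : Fin (n + 1) → EtCoh.Ab X), IsZero (E 0) ∧ Nonempty (E (Fin.last n) ≅ B) ∧
    ∀ k : Fin n, SESStep (E k.castSucc) (E k.succ)

theorem HasFiltration.of_isZero {B : EtCoh.Ab X} (h : IsZero B) : HasFiltration B :=
  ⟨0, fun _ => B, h, ⟨Iso.refl _⟩, fun k => k.elim0⟩

theorem HasFiltration.of_iso {A B : EtCoh.Ab X} (e : A ≅ B) (h : HasFiltration A) : HasFiltration B := by
  obtain ⟨n, E, h0, ⟨i⟩, hs⟩ := h
  exact ⟨n, E, h0, ⟨i ≪≫ e⟩, hs⟩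

theorem HasFiltration.step {A B : EtCoh.Ab X} (h : HasFiltration A) (hAB : SESStep A B) : HasFiltration B := by
  obtain ⟨n, E, h0, ⟨e⟩, hs⟩ := h
  refine ⟨n + 1, Fin.snoc E B, ?_, ⟨eqToIso (Fin.snoc_last (α := fun _ => EtCoh.Ab X) B E)⟩, fun k => ?_⟩
  · rw [← Fin.castSucc_zero', Fin.snoc_castSucc]
    exact h0
  · induction k using Fin.lastCases with
    | last =>
      rw [Fin.snoc_castSucc, Fin.succ_last, Fin.snoc_last]
      exact hAB.of_iso e
    | cast i =>
      rw [Fin.snoc_castSucc, Fin.succ_castSucc, Fin.snoc_castSucc]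
      exact hs i

/-- Extension by zero of the restriction to an open. -/
noncomputable def extOpen (F : EtCoh.Ab X) (U : X.Opens) : EtCoh.Ab X :=
  haveI : EtShriek.JCont U.ι := EtJCont.jCont U.ι
  (EtShriek.extZero U.ι).obj ((EtShriek.restrAlong U.ι).obj F)

theorem range_toScheme_ι (U : X.Opens) : Set.range U.ι = (U : Set X) := U.range_ι

/-- Passing to a larger open whose difference is a stratum. -/
theorem sesStep_extOpen (F : EtCoh.Ab X) {U V : X.Opens} (hUV : U ≤ V) {T : Scheme.{u}} (g : T ⟶ X) [IsImmersion g]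
    (hT : (V : Set X) \ U ⊆ Set.range g) (hc : IsConstructible ((V : Set X) \ U))
    (hflc : EtCoh.IsFiniteLocallyConstant ((EtCoh.pull g).obj F)) : SESStep (extOpen F U) (extOpen F V) := by
  haveI : EtShriek.JCont U.ι := EtJCont.jCont U.ι
  haveI : EtShriek.JCont V.ι := EtJCont.jCont V.ι
  let εU := (EtShriek.extZeroAdj U.ι).counit.app F
  let εV := (EtShriek.extZeroAdj V.ι).counit.app F
  haveI : Mono εV := mono_counit V.ι F
  haveI : Mono εU := mono_counit U.ι F
  have hisoV : ∀ (Ω : Type u) [Field Ω] [IsSepClosed Ω] (ξ : Spec (CommRingCat.of Ω) ⟶ X),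
      ξ default ∈ V → IsIso ((EtCoh.stalk ξ).map εV) := fun Ω _ _ ξ h => by
    obtain ⟨ζ, rfl⟩ := exists_comp_eq V.ι ξ (by rw [range_toScheme_ι]; exact h)
    exact isIso_stalk_counit_on V.ι F ζ
  have hU : ∀ (Ω : Type u) [Field Ω] (ζ : Spec (CommRingCat.of Ω) ⟶ U.toScheme), (ζ ≫ U.ι) default ∈ U := fun Ω _ ζ => by
    rw [Scheme.Hom.comp_apply]; exact (ζ default).2
  obtain ⟨ι, hι⟩ := exists_lift_extZero U.ι εV εU fun Ω _ _ ζ => hisoV Ω _ (hUV (hU Ω ζ))
  haveI : Mono ι := mono_of_mono_fac hι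
  let Q := cokernel ι
  have hS : (ShortComplex.mk ι (cokernel.π ι) (cokernel.condition ι)).ShortExact :=
    ⟨ShortComplex.exact_of_g_is_cokernel _ (cokernelIsCokernel ι)⟩
  -- the quotient vanishes off the stratum
  have hQ : ∀ (Ω : Type u) [Field Ω] [IsSepClosed Ω] (ξ : Spec (CommRingCat.of Ω) ⟶ X),
      ξ default ∉ (V : Set X) \ U → IsZero ((EtCoh.stalk ξ).obj Q) := fun Ω _ _ ξ h => by
    haveI : Epi ((EtCoh.stalk ξ).map (cokernel.π ι)) :=
      (AddCommGrpCat.epi_iff_surjective _).2 ((epi_iff_ab (cokernel.π ι)).1 inferInstance Ω ξ)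
    refine IsZero.of_epi_eq_zero ((EtCoh.stalk ξ).map (cokernel.π ι)) ?_
    by_cases hU' : ξ default ∈ U
    · haveI := hisoV Ω ξ (hUV hU')
      haveI : IsIso ((EtCoh.stalk ξ).map εU) := by
        obtain ⟨ζ, rfl⟩ := exists_comp_eq U.ι ξ (by rw [range_toScheme_ι]; exact hU')
        exact isIso_stalk_counit_on U.ι F ζ
      haveI : IsIso ((EtCoh.stalk ξ).map ι) := by
        have e : (EtCoh.stalk ξ).map ι ≫ (EtCoh.stalk ξ).map εV = (EtCoh.stalk ξ).map εU := by
          rw [← Functor.map_comp, hι]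
        exact IsIso.of_isIso_fac_right e
      rw [← cancel_epi ((EtCoh.stalk ξ).map ι), ← Functor.map_comp, cokernel.condition, Functor.map_zero, comp_zero]
    · exact (isZero_stalk_extZero V.ι ξ (by rw [range_toScheme_ι]; exact fun hv => h ⟨hv, hU'⟩) _).eq_of_src _ _
  -- the stratum as a closed subscheme of the open
  have hlc : IsLocallyClosed ((V : Set X) \ U) := ⟨V, (U : Set X)ᶜ, V.2, U.2.isClosed_compl, rfl⟩
  obtain ⟨W, h, hh, hhg, hr⟩ := exists_immersion_inter g hlc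
  rw [Set.inter_eq_right.2 hT] at hr
  let c : W ⟶ V.toScheme := IsOpenImmersion.lift V.ι (h ≫ g) (by rw [hr, range_toScheme_ι]; exact Set.sdiff_subset)
  have hcj : c ≫ V.ι = h ≫ g := IsOpenImmersion.lift_fac _ _ _
  haveI : IsImmersion (c ≫ V.ι) := by rw [hcj]; exact hhg
  haveI : IsImmersion c := IsImmersion.of_comp c V.ι
  have hcr : Set.range c = (Subtype.val : V → X) ⁻¹' ((V : Set X) \ U) := by
    rw [← hr, ← hcj]
    ext v
    constructor
    · rintro ⟨w, rfl⟩
      exact ⟨w, Scheme.Hom.comp_apply _ _ _⟩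
    · rintro ⟨w, hw⟩
      exact ⟨w, Subtype.ext ((Scheme.Hom.comp_apply _ _ _).symm.trans hw)⟩
  haveI : IsClosedImmersion c := .of_isPreimmersion _ (by
    rw [hcr]
    have e : (Subtype.val : V → X) ⁻¹' ((V : Set X) \ U) = ((Subtype.val : V → X) ⁻¹' U)ᶜ := by
      ext v; exact ⟨fun hv => hv.2, fun hv => ⟨v.2, hv⟩⟩
    rw [e]
    exact (U.2.preimage continuous_subtype_val).isClosed_compl)
  let R := (EtShriek.restrAlong V.ι).obj Q
  let G := (EtCoh.pull c).obj R
  haveI : IsIso ((EtShriek.extZeroAdj V.ι).counit.app Q) := isIso_counit_of_supp V.ι Q fun Ω _ _ ξ h' =>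
    hQ Ω ξ fun hd => h' (by rw [range_toScheme_ι]; exact hd.1)
  have hRz : ∀ (Ω : Type u) [Field Ω] [IsSepClosed Ω] (ζ : Spec (CommRingCat.of Ω) ⟶ V.toScheme),
      ζ default ∉ Set.range c → IsZero ((EtCoh.stalk ζ).obj R) := fun Ω _ _ ζ h' => by
    refine IsZero.of_iso ?_ ((EtCoh.stalk ζ).mapIso ((pullIsoRestr V.ι).app Q).symm)
    refine IsZero.of_iso (hQ Ω (ζ ≫ V.ι) ?_) ((stalkPullIso V.ι ζ).app Q)
    rw [Scheme.Hom.comp_apply]
    rw [hcr] at h'
    exact h'
  haveI : IsIso ((EtCoh.pullPushAdj c).unit.app R) := by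
    refine isIso_of_stalk _ fun Ω _ _ ζ => ?_
    by_cases hz : ζ default ∈ Set.range c
    · obtain ⟨w, rfl⟩ := exists_comp_eq_closed c ζ hz
      exact isIso_stalk_unit_immersion c w R
    · exact isIso_of_source_target_iso_zero _ (hRz Ω ζ hz).isoZero
        (isZero_stalk_push_ab c _ c.isClosedEmbedding.isClosed_range hz _).isoZero
  let e : (EtShriek.extZero V.ι).obj ((EtCoh.push c).obj G) ≅ Q :=
    (EtShriek.extZero V.ι).mapIso (asIso ((EtCoh.pullPushAdj c).unit.app R)).symm ≪≫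
      asIso ((EtShriek.extZeroAdj V.ι).counit.app Q)
  refine ⟨ι, V.toScheme, W, V.ι, inferInstance, c, inferInstance, G, cokernel.π ι ≫ e.inv,
    by rw [cokernel.condition_assoc, zero_comp], ?_, ?_,
    ShortComplex.shortExact_of_iso (S₁ := ShortComplex.mk ι (cokernel.π ι) (cokernel.condition ι)) (ShortComplex.isoMk (Iso.refl _) (Iso.refl _) e.symm
      ((Category.id_comp _).trans (Category.comp_id _).symm) (Category.id_comp _)) hS⟩
  · show IsConstructible (Set.range (c ≫ V.ι))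
    rw [hcj, hr]
    exact hc
  · have hW : ∀ (Ω : Type u) [Field Ω] (w : Spec (CommRingCat.of Ω) ⟶ W), (w ≫ h ≫ g) default ∈ (V : Set X) \ U :=
      fun Ω _ w => by rw [← hr, Scheme.Hom.comp_apply]; exact Set.mem_range_self _
    haveI : IsIso ((EtCoh.pull (h ≫ g)).map (cokernel.π ι)) := isIso_pull_map (h ≫ g) _ fun Ω _ _ w => by
      haveI : Epi ((EtCoh.stalk (w ≫ h ≫ g)).map (cokernel.π ι)) :=
        (AddCommGrpCat.epi_iff_surjective _).2 ((epi_iff_ab (cokernel.π ι)).1 inferInstance Ω _)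
      haveI : Mono ((EtCoh.stalk (w ≫ h ≫ g)).map (cokernel.π ι)) :=
        (hS.exact.map (EtCoh.stalk (w ≫ h ≫ g))).mono_g
          ((isZero_stalk_extZero U.ι _ (by rw [range_toScheme_ι]; exact (hW Ω w).2) _).eq_of_src _ _)
      exact isIso_of_mono_of_epi _
    haveI : IsIso ((EtCoh.pull (h ≫ g)).map εV) := isIso_pull_map (h ≫ g) _ fun Ω _ _ w => hisoV Ω _ (hW Ω w).1
    refine isFiniteLocallyConstant_of_iso
      ((pullCompIso h g).app F ≪≫ (asIso ((EtCoh.pull (h ≫ g)).map εV)).symm ≪≫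
        asIso ((EtCoh.pull (h ≫ g)).map (cokernel.π ι)) ≪≫ eqToIso (by rw [hcj]) ≪≫ ((pullCompIso c V.ι).app Q).symm ≪≫
        (EtCoh.pull c).mapIso ((pullIsoRestr V.ι).app Q))
      (isFiniteLocallyConstant_pull h hflc)

/-- A constructible sheaf on a quasi-compact quasi-separated scheme has a filtration. -/
theorem hasFiltration_of_strat [CompactSpace X] [QuasiSeparatedSpace X] {F : EtCoh.Ab X} (hF : Strat F) :
    HasFiltration F := by
  classical
  obtain ⟨κ, _, T, g, hg, hc, hcov, hflc⟩ := hF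
  haveI := Fintype.ofFinite κ
  choose A hA hA' using fun i => exists_finset_opens (hc i)
  let 𝒰 : Finset (Set X) := Finset.univ.biUnion A
  have h𝒰 : ∀ O ∈ 𝒰, IsOpen O ∧ IsRetrocompact O := fun O hO => by
    obtain ⟨i, -, hi⟩ := Finset.mem_biUnion.1 hO
    exact hA i O hi
  let pat : X → Finset (Set X) := fun x => 𝒰.filter (x ∈ ·)
  -- the open of a family of patterns
  have hop : ∀ S : Finset (Finset (Set X)), IsOpen (⋃ B ∈ S, ⋂ O ∈ B ∩ 𝒰, O) := fun S =>
    isOpen_biUnion fun B _ => isOpen_biInter_finset fun O hO => (h𝒰 O (Finset.mem_inter.1 hO).2).1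
  let U : Finset (Finset (Set X)) → X.Opens := fun S => ⟨_, hop S⟩
  have hUc : ∀ S, IsConstructible (U S : Set X) := fun S =>
    IsConstructible.biUnion S.finite_toSet fun B _ => IsConstructible.biInter (B ∩ 𝒰).finite_toSet fun O hO =>
      (h𝒰 O (Finset.mem_inter.1 hO).2).2.isConstructible (h𝒰 O (Finset.mem_inter.1 hO).2).1
  have hmem : ∀ S x, x ∈ U S ↔ ∃ B ∈ S, B ∩ 𝒰 ⊆ pat x := fun S x => by
    show x ∈ (⋃ B ∈ S, ⋂ O ∈ B ∩ 𝒰, O) ↔ _
    simp only [Set.mem_iUnion, Set.mem_iInter, exists_prop]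
    exact exists_congr fun B => and_congr_right fun _ => ⟨fun h O hO =>
      Finset.mem_filter.2 ⟨(Finset.mem_inter.1 hO).2, h O hO⟩, fun h O hO => (Finset.mem_filter.1 (h hO)).2⟩
  have key : ∀ S : Finset (Finset (Set X)), S ⊆ 𝒰.powerset → (∀ B ∈ S, ∀ C ∈ 𝒰.powerset, B ⊆ C → C ∈ S) →
      HasFiltration (extOpen F (U S)) := by
    intro S
    induction S using Finset.strongInduction with
    | H S ih =>
    intro hS hup
    rcases S.eq_empty_or_nonempty with rfl | hne
    · refine HasFiltration.of_isZero ((isZero_iff_ab _).2 fun Ω _ _ ξ => ?_)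
      haveI : EtShriek.JCont (U ∅).ι := EtJCont.jCont (U ∅).ι
      refine isZero_stalk_extZero (U ∅).ι ξ ?_ _
      rw [range_toScheme_ι]
      intro hx
      obtain ⟨B, hB, -⟩ := (hmem ∅ _).1 hx
      exact Finset.notMem_empty B hB
    · obtain ⟨B, hB, hmin⟩ := S.exists_min_image Finset.card hne
      have hsub : S.erase B ⊂ S := Finset.erase_ssubset hB
      have hup' : ∀ C ∈ S.erase B, ∀ C' ∈ 𝒰.powerset, C ⊆ C' → C' ∈ S.erase B := fun C hC C' hC' hCC => by
        refine Finset.mem_erase.2 ⟨fun e => (Finset.mem_erase.1 hC).1 ?_, hup C (Finset.mem_erase.1 hC).2 C' hC' hCC⟩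
        exact (Finset.eq_of_subset_of_card_le hCC (e.symm ▸ hmin C (Finset.mem_erase.1 hC).2)).trans e
      have hdiff : ∀ x, x ∈ (U S : Set X) \ U (S.erase B) → pat x = B := fun x ⟨hx, hx'⟩ => by
        obtain ⟨C, hC, hCx⟩ := (hmem S x).1 hx
        have hC𝒰 : C ∩ 𝒰 = C := Finset.inter_eq_left.2 (Finset.mem_powerset.1 (hS hC))
        rw [hC𝒰] at hCx
        have hpS : pat x ∈ S := hup C hC _ (Finset.mem_powerset.2 (Finset.filter_subset _ _)) hCx
        by_contra hne'
        exact hx' ((hmem _ x).2 ⟨_, Finset.mem_erase.2 ⟨hne', hpS⟩, Finset.inter_subset_left⟩)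
      have hle : U (S.erase B) ≤ U S := fun x hx => by
        obtain ⟨C, hC, hCx⟩ := (hmem _ x).1 hx
        exact (hmem S x).2 ⟨C, Finset.mem_of_mem_erase hC, hCx⟩
      have hfilt := ih _ hsub ((Finset.erase_subset _ _).trans hS) hup'
      by_cases hd : ((U S : Set X) \ U (S.erase B)).Nonempty
      · obtain ⟨x, hx⟩ := hd
        obtain ⟨i, hi⟩ := hcov x
        haveI := hg i
        refine hfilt.step (sesStep_extOpen F hle (g i) (fun y hy => ?_) ((hUc S).inter (hUc _).compl) (hflc i))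
        refine hA' i x y (fun O hO => ?_) hi
        have hO' : O ∈ 𝒰 := Finset.mem_biUnion.2 ⟨i, Finset.mem_univ i, hO⟩
        have e := (hdiff x hx).trans (hdiff y hy).symm
        constructor
        · intro h'
          exact (Finset.mem_filter.1 (e ▸ Finset.mem_filter.2 ⟨hO', h'⟩ : O ∈ pat y)).2
        · intro h'
          exact (Finset.mem_filter.1 (e.symm ▸ Finset.mem_filter.2 ⟨hO', h'⟩ : O ∈ pat x)).2
      · have e : U (S.erase B) = U S := TopologicalSpace.Opens.ext (le_antisymm hle fun x hx => by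
          by_contra hx'
          exact hd ⟨x, hx, hx'⟩)
        exact e ▸ hfilt
  have hall := key 𝒰.powerset subset_rfl fun B _ C hC _ => hC
  haveI : EtShriek.JCont (U 𝒰.powerset).ι := EtJCont.jCont (U 𝒰.powerset).ι
  haveI : IsIso ((EtShriek.extZeroAdj (U 𝒰.powerset).ι).counit.app F) :=
    isIso_counit_of_supp _ F fun Ω _ _ ξ h => absurd (by
      rw [range_toScheme_ι]
      exact (hmem _ _).2 ⟨pat (ξ default), Finset.mem_powerset.2 (Finset.filter_subset _ _), Finset.inter_subset_left⟩) h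
  exact hall.of_iso (asIso ((EtShriek.extZeroAdj (U 𝒰.powerset).ι).counit.app F))

end Groth.Agent.FLCLib
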