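import Groth.Agent.FLCLib.Basic
import Groth.Prelude.Def_EtMod2
/-!
The same criterion for sheaves of modules.
-/

set_option autoImplicit false
set_option backward.isDefEq.respectTransparency false
set_option backward.isDefEq.respectTransparency.types false

universe u

open CategoryTheory CategoryTheory.Limits AlgebraicGeometry Opposite GrothendieckTopology

namespace Groth.Agent.FLCLib

open EtPtsLib


namespace Mdl

variable {Λ : Type (u + 1)} [CommRing Λ] {X : Scheme.{u}}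

instance forget_mod : PreservesFilteredColimitsOfSize.{u, u} (forget (ModuleCat.{u + 1} Λ)) :=
  preservesFilteredColimitsOfSize_shrink.{u, u + 1, u, u + 1} _

instance hasLimits_mod : HasLimitsOfSize.{u, u} (ModuleCat.{u + 1} Λ) :=
  haveI : HasLimitsOfSize.{u + 1, u + 1} (ModuleCat.{u + 1} Λ) := inferInstance
  hasLimitsOfSizeShrink.{u, u, u + 1, u + 1} _

instance hasProducts_mod : HasProducts.{u} (ModuleCat.{u + 1} Λ) := fun _ => inferInstance

noncomputable abbrev germM {Ω : Type u} [Field Ω] [IsSepClosed Ω] (ξ : Spec (CommRingCat.of Ω) ⟶ X)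
    (F : EtModW.Mod Λ X) {U : X.Etale} (l : (Scheme.pointSmallEtale ξ).fiber.obj U) (s : EtModW.sect Λ F U) :
    (EtModW.stalk Λ ξ).obj F :=
  (Scheme.pointSmallEtale ξ).toPresheafFiber U l F.obj s

theorem germM_map {Ω : Type u} [Field Ω] [IsSepClosed Ω] (ξ : Spec (CommRingCat.of Ω) ⟶ X) (F : EtModW.Mod Λ X)
    {U V : X.Etale} (g : V ⟶ U) (y : (Scheme.pointSmallEtale ξ).fiber.obj V) (s : EtModW.sect Λ F U) :
    germM ξ F y (F.obj.map g.op s) = germM ξ F ((Scheme.pointSmallEtale ξ).fiber.map g y) s :=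
  (Scheme.pointSmallEtale ξ).toPresheafFiber_w_apply g y F.obj s


/-- The sections `θ m` have, at every geometric point, every germM exactly once. -/
def IsConstOn (F : EtModW.Mod Λ X) (U : X.Etale) {M : ModuleCat.{u + 1} Λ} (θ : M ⟶ F.obj.obj (op U)) : Prop :=
  ∀ (Ω : Type u) [Field Ω] [IsSepClosed Ω] (ξ : Spec (CommRingCat.of Ω) ⟶ X)
    (l : (Scheme.pointSmallEtale ξ).fiber.obj U), Function.Bijective fun m : M => germM ξ F l (θ m)

theorem IsConstOn.map {F : EtModW.Mod Λ X} {U : X.Etale} {M : ModuleCat.{u + 1} Λ} {θ : M ⟶ F.obj.obj (op U)}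
    (h : IsConstOn F U θ) {V : X.Etale} (g : V ⟶ U) : IsConstOn F V (θ ≫ F.obj.map g.op) := fun Ω _ _ ξ l => by
  have e : (fun m : M => germM ξ F l ((θ ≫ F.obj.map g.op) m)) =
      fun m : M => germM ξ F ((Scheme.pointSmallEtale ξ).fiber.map g l) (θ m) := funext fun m => germM_map ξ F g l (θ m)
  rw [e]
  exact h Ω ξ _

theorem IsConstOn.comp_iso {F : EtModW.Mod Λ X} {U : X.Etale} {M N : ModuleCat.{u + 1} Λ}
    {θ : M ⟶ F.obj.obj (op U)} (h : IsConstOn F U θ) (e : N ≅ M) : IsConstOn F U (e.hom ≫ θ) :=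
  fun Ω _ _ ξ l => (h Ω ξ l).comp (ConcreteCategory.bijective_of_isIso e.hom)

theorem IsConstOn.of_iso {F G : EtModW.Mod Λ X} (a : F ≅ G) {U : X.Etale} {M : ModuleCat.{u + 1} Λ}
    {θ : M ⟶ F.obj.obj (op U)} (h : IsConstOn F U θ) : IsConstOn G U (θ ≫ a.hom.hom.app (op U)) :=
  fun Ω _ _ ξ l => by
  have e : (fun m : M => germM ξ G l ((θ ≫ a.hom.hom.app (op U)) m)) =
      (EtModW.stalk Λ ξ).map a.hom ∘ fun m : M => germM ξ F l (θ m) :=
    funext fun m => ((Scheme.pointSmallEtale ξ).toPresheafFiber_naturality_apply a.hom.hom U l (θ m)).symm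
  rw [e]
  exact (ConcreteCategory.bijective_of_isIso _).comp (h Ω ξ l)

variable (F : EtModW.Mod Λ X) (U : X.Etale) (M : ModuleCat.{u + 1} Λ)

/-- The presheaf map defined by sections. -/
noncomputable def psi (θ : M ⟶ F.obj.obj (op U)) :
    (Functor.const (Over U)ᵒᵖ).obj M ⟶ (F.over U).obj where
  app V := θ ≫ F.obj.map V.unop.hom.op
  naturality V W g := by
    change 𝟙 M ≫ θ ≫ F.obj.map W.unop.hom.op = (θ ≫ F.obj.map V.unop.hom.op) ≫ F.obj.map g.unop.left.op
    rw [Category.id_comp, Category.assoc, ← Functor.map_comp, ← op_comp, Over.w]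

theorem germM_psi (θ : M ⟶ F.obj.obj (op U)) (Y : Over U) {Ω : Type u} [Field Ω] [IsSepClosed Ω]
    (ξ : Spec (CommRingCat.of Ω) ⟶ X) (l : (Scheme.pointSmallEtale ξ).fiber.obj Y.left) (m : M) :
    germM ξ F l ((psi F U M θ).app (op Y) m) = germM ξ F ((Scheme.pointSmallEtale ξ).fiber.map Y.hom l) (θ m) :=
  germM_map ξ F Y.hom l (θ m)

theorem isLocallyInjective_psi {θ : M ⟶ F.obj.obj (op U)} (h : IsConstOn F U θ) :
    Presheaf.IsLocallyInjective (X.smallEtaleTopology.over U) (psi F U M θ) := by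
  refine ⟨fun {Y} a b hab => mem_over_of_pointwise _ fun v => ⟨Y.unop, 𝟙 _, v, ?_, rfl⟩⟩
  obtain ⟨l, -⟩ := exists_lift_geomPt v
  show a = b
  refine (h _ _ ((Scheme.pointSmallEtale _).fiber.map Y.unop.hom l)).1 ?_
  exact (germM_psi F U M θ Y.unop _ l a).symm.trans
    ((congrArg (germM _ F l) hab).trans (germM_psi F U M θ Y.unop _ l b))

theorem isLocallySurjective_psi {θ : M ⟶ F.obj.obj (op U)} (h : IsConstOn F U θ) :
    Presheaf.IsLocallySurjective (X.smallEtaleTopology.over U) (psi F U M θ) := by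
  refine ⟨fun {Y} s => mem_over_of_pointwise _ fun v => ?_⟩
  obtain ⟨l, hl⟩ := exists_lift_geomPt v
  obtain ⟨m, hm⟩ := (h _ _ ((Scheme.pointSmallEtale _).fiber.map Y.hom l)).2 (germM _ F l s)
  have e : germM (geomPt (Y.left.hom v)) F l ((psi F U M θ).app (op Y) m) = germM (geomPt (Y.left.hom v)) F l s :=
    (germM_psi F U M θ Y _ l m).trans hm
  obtain ⟨W, g, y, hy, hg⟩ := ((Scheme.pointSmallEtale _).toPresheafFiber_eq_iff' Y.left l _ _).1 e
  refine ⟨Over.mk (g ≫ Y.hom), Over.homMk g, liftHom _ y default, ⟨m, ?_⟩, ?_⟩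
  · refine (NatTrans.naturality_apply (psi F U M θ) (Over.homMk g : Over.mk (g ≫ Y.hom) ⟶ Y).op m).trans ?_
    exact hg
  · refine Eq.trans ?_ hl
    refine Eq.trans ?_ (congrArg (fun q => liftHom _ q default) hy)
    rw [liftHom_map]
    rfl

theorem nonempty_iso_of_isConstOn {θ : M ⟶ F.obj.obj (op U)} (h : IsConstOn F U θ) :
    Nonempty (F.over U ≅ (constantSheaf (X.smallEtaleTopology.over U) (ModuleCat.{u + 1} Λ)).obj M) := by
  let K := X.smallEtaleTopology.over U
  let P : (Over U)ᵒᵖ ⥤ ModuleCat.{u + 1} Λ := (Functor.const (Over U)ᵒᵖ).obj M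
  haveI := isLocallyInjective_psi F U M h
  haveI := isLocallySurjective_psi F U M h
  let φ : (presheafToSheaf K (ModuleCat.{u + 1} Λ)).obj P ⟶ F.over U :=
    ((sheafificationAdjunction K (ModuleCat.{u + 1} Λ)).homEquiv P (F.over U)).symm (psi F U M θ)
  have fac : CategoryTheory.toSheafify K P ≫ φ.hom = psi F U M θ := by
    have := ((sheafificationAdjunction K (ModuleCat.{u + 1} Λ)).homEquiv P (F.over U)).apply_symm_apply (psi F U M θ)
    rwa [Adjunction.homEquiv_unit] at this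
  haveI : Sheaf.IsLocallyInjective φ :=
    Presheaf.isLocallyInjective_of_isLocallyInjective_of_isLocallySurjective_fac K (psi F U M θ) fac
  haveI : Sheaf.IsLocallySurjective φ := Presheaf.isLocallySurjective_of_isLocallySurjective_fac K fac
  haveI : IsIso φ := (Sheaf.isLocallyBijective_iff_isIso φ).1 ⟨inferInstance, inferInstance⟩
  exact ⟨(asIso φ).symm⟩

theorem exists_isConstOn_of_iso
    (φ : F.over U ≅ (constantSheaf (X.smallEtaleTopology.over U) (ModuleCat.{u + 1} Λ)).obj M) :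
    ∃ θ : M ⟶ F.obj.obj (op U), IsConstOn F U θ := by
  let K := X.smallEtaleTopology.over U
  let P : (Over U)ᵒᵖ ⥤ ModuleCat.{u + 1} Λ := (Functor.const (Over U)ᵒᵖ).obj M
  let a : P ⟶ (F.over U).obj := CategoryTheory.toSheafify K P ≫ φ.inv.hom
  haveI : Presheaf.IsLocallyInjective K a := by
    haveI : Presheaf.IsLocallyInjective K φ.inv.hom :=
      ((Sheaf.isLocallyBijective_iff_isIso φ.inv).2 inferInstance).1
    infer_instance
  haveI : Presheaf.IsLocallySurjective K a := by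
    haveI : Presheaf.IsLocallySurjective K φ.inv.hom :=
      ((Sheaf.isLocallyBijective_iff_isIso φ.inv).2 inferInstance).2
    infer_instance
  refine ⟨a.app (op (Over.mk (𝟙 U))), fun Ω _ _ ξ l => ?_⟩
  have nat : ∀ (W : X.Etale) (g : W ⟶ U) (m : M), F.obj.map g.op (a.app (op (Over.mk (𝟙 U))) m) = a.app (op (Over.mk g)) m :=
    fun W g m => (NatTrans.naturality_apply a (Over.homMk g (Category.comp_id g) : Over.mk g ⟶ Over.mk (𝟙 U)).op m).symm
  constructor
  · intro m m' e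
    obtain ⟨W, g, y, -, hg⟩ := ((Scheme.pointSmallEtale ξ).toPresheafFiber_eq_iff' U l _ _).1 e
    replace hg : a.app (op (Over.mk g)) m = a.app (op (Over.mk g)) m' := (nat W g m).symm.trans (hg.trans (nat W g m'))
    obtain ⟨Z, k, z, hk, -⟩ := exists_mem_over (Presheaf.equalizerSieve_mem K a m m' hg) (liftHom ξ y default)
    exact hk
  · intro b
    obtain ⟨V, y, t, rfl⟩ := (Scheme.pointSmallEtale ξ).toPresheafFiber_jointly_surjective b
    obtain ⟨S, g₁, g₂, -⟩ := IsCofilteredOrEmpty.cone_objs (C := (Scheme.pointSmallEtale ξ).fiber.Elements) ⟨V, y⟩ ⟨U, l⟩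
    let Y₀ : Over U := Over.mk g₂.1
    let t₀ : ToType ((F.over U).obj.obj (op Y₀)) := F.obj.map g₁.1.op t
    have hmem := Presheaf.imageSieve_mem K a t₀
    obtain ⟨Z, k, z, ⟨m, hm⟩, hz⟩ := exists_mem_over hmem (liftHom ξ S.2 default)
    obtain ⟨w, hw⟩ := exists_fiber_map_eq ξ k.left S.2 z hz
    refine ⟨m, ?_⟩
    have e₁ : germM ξ F w (F.obj.map k.left.op (F.obj.map g₁.1.op t)) = germM ξ F y t := by
      rw [germM_map, hw]
      exact (germM_map ξ F g₁.1 S.2 t).trans (congrArg (fun q => germM ξ F q t) g₁.2)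
    have e₂ : germM ξ F w (F.obj.map k.left.op (F.obj.map g₂.1.op (a.app (op (Over.mk (𝟙 U))) m))) =
        germM ξ F l (a.app (op (Over.mk (𝟙 U))) m) := by
      rw [germM_map, hw]
      exact (germM_map ξ F g₂.1 S.2 _).trans (congrArg (fun q => germM ξ F q (a.app (op (Over.mk (𝟙 U))) m)) g₂.2)
    refine e₂.symm.trans (Eq.trans ?_ e₁)
    refine congrArg (germM ξ F w) ?_
    refine ((congrArg (F.obj.map k.left.op) (nat _ g₂.1 m)).trans ?_).trans hm
    exact (NatTrans.naturality_apply a k.op m).symm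

theorem IsConstOn.pull {X Y : Scheme.{u}} (f : X ⟶ Y) {F : EtModW.Mod Λ Y} {U : Y.Etale} {M : ModuleCat.{u + 1} Λ}
    {θ : M ⟶ F.obj.obj (op U)} (h : IsConstOn F U θ) :
    IsConstOn ((EtModW.pull Λ f).obj F) ((EtCoh.bc f).obj U)
      (θ ≫ (((EtCoh.bc f).sheafAdjunctionContinuous (ModuleCat.{u + 1} Λ) Y.smallEtaleTopology
        X.smallEtaleTopology).unit.app F).hom.app (op U)) := fun Ω _ _ ζ l => by
  let l' : (Scheme.pointSmallEtale (ζ ≫ f)).fiber.obj U := Over.homMk (liftHom ζ l ≫ bcFst f U) (by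
    show (liftHom ζ l ≫ pullback.fst U.hom f) ≫ U.hom = ζ ≫ f
    rw [Category.assoc, pullback.condition, ← Category.assoc]
    exact congrArg (· ≫ f) (liftHom_comp ζ l))
  have hl : liftBc f ζ U l' = l := fiber_bc_ext f ζ (liftHom_liftBc_fst f ζ U l')
  have e : (fun m : M => germM ζ ((EtModW.pull Λ f).obj F) l ((θ ≫ (((EtCoh.bc f).sheafAdjunctionContinuous
      (ModuleCat.{u + 1} Λ) Y.smallEtaleTopology X.smallEtaleTopology).unit.app F).hom.app (op U)) m)) =
      unitStalk f ζ F ∘ fun m : M => germM (ζ ≫ f) F l' (θ m) := funext fun m => by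
    have := ConcreteCategory.congr_hom (toPresheafFiber_unitStalk f ζ F U l') (θ m)
    rw [hl] at this
    exact this.symm
  exact e ▸ ((bijective_unitStalk f ζ F).comp (h Ω (ζ ≫ f) l'))

theorem isFTLocConst_pull {X Y : Scheme.{u}} (f : X ⟶ Y) {F : EtModW.Mod Λ Y} (h : EtModW.IsFTLocConst Λ F) :
    EtModW.IsFTLocConst Λ ((EtModW.pull Λ f).obj F) := by
  obtain ⟨ι, U, hU, hM⟩ := h
  refine ⟨ι, fun i => (EtCoh.bc f).obj (U i), fun x => ?_, fun i => ?_⟩
  · obtain ⟨i, hi⟩ := hU (f x)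
    exact ⟨i, bcFst_range f hi⟩
  · obtain ⟨M, i₁, i₂, i₃, ⟨φ⟩⟩ := hM i
    obtain ⟨θ, hθ⟩ := exists_isConstOn_of_iso F (U i) _ φ
    exact ⟨M, i₁, i₂, i₃, nonempty_iso_of_isConstOn _ _ _ (hθ.pull f)⟩

end Mdl

end Groth.Agent.FLCLib
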