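import Groth.Agent.FLCLib.Push
import Groth.Agent.FLCLib.Descent
import Groth.Agent.EtaleSplit.Weighting2
import Groth.Agent.S4599
/-!
Direct images of constructible sheaves along finite morphisms of finite presentation.
-/

set_option autoImplicit false
set_option backward.isDefEq.respectTransparency false
set_option backward.isDefEq.respectTransparency.types false

universe u

open CategoryTheory CategoryTheory.Limits AlgebraicGeometry Opposite Topology

namespace Groth.Agent.FLCLib

open EtPtsLib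

theorem hasGood_push {X Y : Scheme.{u}} (f : X ⟶ Y) [IsFinite f] [LocallyOfFinitePresentation f]
    {F : EtCoh.Ab X} (hF : EtPBC.IsConstructible F) (y : Y) : HasGood ((EtCoh.push f).obj F) y := by
  classical
  let η := geomPtAlg y
  haveI := finite_gpts f η
  let ι := EtaleSplit.GPts f η
  haveI : Fintype ι := Fintype.ofFinite ι
  let G := (EtCoh.push f).obj F
  haveI : ∀ ζ : ι, Finite ((EtCoh.stalk ζ.1).obj F) := fun ζ =>
    finite_stalk_of_genConst (genCard_of_isConstructible hF).genConst ζ.1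
  haveI : Finite ((EtCoh.stalk η).obj G) := Finite.of_injective _ (bijective_pushFamily f η F).1
  -- split the fibre
  obtain ⟨T, g, qT, hqT, V, hg, hV⟩ := EtaleSplit.exists_split f η (id : ι → ι) (fun _ => ⊤)
    (fun _ => trivial) (fun i => f.quasiFiniteAt _)
  haveI := hg
  let T₀ : Nbhd η := ⟨Scheme.Etale.mk g, Over.homMk qT hqT⟩
  obtain ⟨q₁, m₁, σ₁, -, hσ₁⟩ := exists_sigma G T₀
  obtain ⟨W, hW, hqW, -⟩ := exists_isAffineOpen_mem_and_subset (show q₁.point ∈ (⊤ : q₁.1.left.Opens) from trivial)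
  obtain ⟨y₁, hy₁⟩ := exists_fiber_map_eq η (EtPointClass.incl q₁.1 W) q₁.2 ⟨q₁.point, hqW⟩ rfl
  let p : Nbhd η := ⟨EtPointClass.sub q₁.1 W, y₁⟩
  let k : p ⟶ T₀ := (⟨EtPointClass.incl q₁.1 W, hy₁⟩ : p ⟶ q₁) ≫ m₁
  let σ := σ₁ ≫ G.obj.map (EtPointClass.incl q₁.1 W).op
  have hσ : ∀ e, germ η G p.2 (σ e) = e := fun e =>
    (germ_map η G (EtPointClass.incl q₁.1 W) y₁ (σ₁ e)).trans
      ((congrArg (fun l => germ η G l (σ₁ e)) hy₁).trans (hσ₁ e))
  haveI : IsAffine p.1.left := hW
  haveI : IsAffine ((𝟭 Scheme).obj p.1.left) := hW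
  -- the base change and its pieces
  let B := (EtCoh.bc f).obj p.1
  let ρ : B.left ⟶ p.1.left := bcFst f p.1
  haveI : IsFinite ρ := (inferInstance : IsFinite (pullback.fst p.1.hom f))
  haveI : LocallyOfFinitePresentation ρ := (inferInstance : LocallyOfFinitePresentation (pullback.fst p.1.hom f))
  haveI : IsAffine B.left := isAffine_of_isAffineHom ρ
  let β : B.left ⟶ pullback f g := pullback.lift (pullback.snd p.1.hom f) (ρ ≫ k.1.left) (by
    rw [← pullback.condition, Category.assoc]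
    exact congrArg (ρ ≫ ·) (MorphismProperty.Over.w k.1).symm)
  have hclV : ∀ i, IsClosed (V i : Set ↥(pullback f g)) := fun i => by
    haveI := (hV i).1
    exact EtaleSplit.isClosed_of_isFinite (pullback.snd f g) (V i)
  let E : ι → B.left.Opens := fun i => β ⁻¹ᵁ V i
  have hEc : ∀ i, IsConstructible (E i : Set B.left) := fun i =>
    ((hclV i).preimage β.continuous).isCompact.isConstructible (E i).2
  haveI : ∀ i, CompactSpace (Scheme.Opens.toScheme (E i)) := fun i =>
    isCompact_iff_compactSpace.1 ((hclV i).preimage β.continuous).isCompact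
  haveI : ∀ i, QuasiSeparatedSpace (Scheme.Opens.toScheme (E i)) := fun i =>
    quasiSeparatedSpace_of_quasiSeparated (Scheme.Opens.ι (E i))
  let π : ∀ i, Scheme.Opens.toScheme (E i) ⟶ p.1.left := fun i => Scheme.Opens.ι (E i) ≫ ρ
  haveI : ∀ i, IsClosedImmersion (Scheme.Opens.ι (E i)) := fun i =>
    IsClosedImmersion.of_isPreimmersion _ (by rw [Scheme.Opens.range_ι]; exact (hclV i).preimage β.continuous)
  haveI : ∀ i, IsFinite (π i) := fun i => by show IsFinite (Scheme.Opens.ι (E i) ≫ ρ); infer_instance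
  haveI : ∀ i, LocallyOfFinitePresentation (π i) := fun i => by
    show LocallyOfFinitePresentation (Scheme.Opens.ι (E i) ≫ ρ); infer_instance
  haveI : ∀ i, LocallyOfFinitePresentation (pullback.diagonal (π i)) := fun i => S4599.result (π i)
  haveI : ∀ i, IsAffine (Scheme.Opens.toScheme (E i)) := fun i => isAffine_of_isAffineHom (π i)
  -- points over a lift
  let upt : ∀ {Ω : Type u} [Field Ω] [IsSepClosed Ω] (ζ : Spec (CommRingCat.of Ω) ⟶ Y)
      (l : (Scheme.pointSmallEtale ζ).fiber.obj p.1), EtaleSplit.GPts f ζ → (Spec (CommRingCat.of Ω) ⟶ B.left) :=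
    fun ζ l u => pullback.lift (liftHom ζ l) u.1 ((liftHom_comp ζ l).trans u.2.symm)
  have hupt : ∀ {Ω : Type u} [Field Ω] [IsSepClosed Ω] (ζ : Spec (CommRingCat.of Ω) ⟶ Y)
      (l : (Scheme.pointSmallEtale ζ).fiber.obj p.1) (u : EtaleSplit.GPts f ζ), upt ζ l u ≫ ρ = liftHom ζ l :=
    fun ζ l u => pullback.lift_fst _ _ _
  have hptB : ∀ i : ι, upt η p.2 i default ∈ E i ∧ ∀ u : EtaleSplit.GPts f η, upt η p.2 u default ∈ E i → u = i := by
    intro i
    obtain ⟨-, -, hmem, huniq⟩ := hV i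
    have e : ∀ u : ι, upt η p.2 u ≫ β = pullback.lift u.1 qT (u.2.trans hqT.symm) := fun u => by
      refine pullback.hom_ext ?_ ?_
      · simp only [Category.assoc, β, pullback.lift_fst]
        exact pullback.lift_snd _ _ _
      · simp only [Category.assoc, β, pullback.lift_snd]
        rw [← Category.assoc, hupt]
        exact (liftHom_map η k.1 p.2).symm.trans (congrArg (fun l => liftHom η l) k.2)
    have hd : ∀ u : ι, β (upt η p.2 u default) = EtaleSplit.pt (pullback.lift u.1 qT (u.2.trans hqT.symm)) := fun u =>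
      (Scheme.Hom.comp_apply _ _ _).symm.trans ((congrArg (fun m : Spec _ ⟶ pullback f g => m default) (e u)).trans
        (EtaleSplit.pt_eq _ _))
    refine ⟨?_, fun u hu => ?_⟩
    · show β _ ∈ V i
      rw [hd]; exact hmem
    · have h := huniq ⟨pullback.lift u.1 qT (u.2.trans hqT.symm), pullback.lift_snd _ _ _⟩ (hd u ▸ hu)
      exact Subtype.ext (by simpa using congrArg (fun m => m ≫ pullback.fst f g) h)
  have hlift : ∀ (Ω : Type u) [Field Ω] [IsAlgClosed Ω] (ζ : Spec (CommRingCat.of Ω) ⟶ Y)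
      (l : (Scheme.pointSmallEtale ζ).fiber.obj p.1) (b : B.left), ρ b = liftHom ζ l default →
      ∃ u : EtaleSplit.GPts f ζ, upt ζ l u default = b := by
    intro Ω _ _ ζ l b hb
    obtain ⟨r, hr⟩ := EtaleSplit.exists_gpt ρ (liftHom ζ l) b (hb.trans (EtaleSplit.pt_eq _ _))
    let u : EtaleSplit.GPts f ζ := ⟨r.1 ≫ pullback.snd p.1.hom f, by
      rw [Category.assoc, ← pullback.condition, ← Category.assoc]
      exact (congrArg (· ≫ p.1.hom) r.2).trans (liftHom_comp ζ l)⟩
    have e : upt ζ l u = r.1 := pullback.hom_ext ((hupt ζ l u).trans r.2.symm) (pullback.lift_snd _ _ _)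
    exact ⟨u, by rw [e]; exact (EtaleSplit.pt_eq _ _).trans hr⟩
  -- constant pieces
  choose q hq₀ M θ hqa hM hgood using fun i : ι => exists_goodPt hF (⟨EtCoh.top X, topLift i.1⟩ : Nbhd i.1)
  haveI : ∀ i, Finite (M i) := hM
  haveI : ∀ i, IsAffine (q i).1.left := hqa
  choose r c d _hr using fun i : ι => IsCofilteredOrEmpty.cone_objs (C := Nbhd i.1) ⟨B, liftBcAt f η i p.1 p.2⟩ (q i)
  let θ' : ∀ i, M i ⟶ F.obj.obj (op (r i).1) := fun i => θ i ≫ F.obj.map (d i).1.op
  have hb : ∀ i, Function.Bijective fun m : M i => germ i.1 F (r i).2 (θ' i m) := fun i =>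
    GoodPt.map (d i).1 (by rw [Nbhd.map_point]; exact hgood i) _ i.1 (r i).2 rfl
  let h : ∀ i, (EtCoh.stalk η).obj G → M i := fun i e =>
    (Equiv.ofBijective _ (hb i)).symm (pushFamily f η F e i)
  let sB : (EtCoh.stalk η).obj G → EtCoh.sect F B := fun e => σ e
  let O : ∀ i, Set (r i).1.left := fun i =>
    ⋂ e, agree F.obj (F.obj.map (c i).1.op (sB e)) (θ' i (h i e))
  have hOo : ∀ i, IsOpen (O i) := fun i => isOpen_iInter_of_finite fun e => isOpen_agree F.obj _ _
  have hOp : ∀ i, (r i).point ∈ O i := fun i => Set.mem_iInter.2 fun e => by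
    refine (germ_eq_iff_mem_agree i.1 F.obj (r i).2 _ _).1 ?_
    refine (germ_map i.1 F (c i).1 (r i).2 _).trans ?_
    refine (congrArg (fun l => germ i.1 F l (σ e)) (c i).2).trans ?_
    refine (pushFamily_germ f η F p.1 p.2 (σ e) i).symm.trans ?_
    rw [hσ]
    exact ((Equiv.ofBijective _ (hb i)).apply_symm_apply _).symm
  choose A hA hrA hAO using fun i => exists_isAffineOpen_mem_and_subset
    (show (r i).point ∈ (⟨O i, hOo i⟩ : (r i).1.left.Opens) from hOp i)
  haveI : ∀ i, IsAffine (Scheme.Opens.toScheme (A i)) := hA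
  let H : ∀ i, Set (Scheme.Opens.toScheme (A i)) := fun i =>
    ((A i).ι ≫ (d i).1.left) ⁻¹' {v | GoodPt F (q i).1 (θ i) v}
  let cA : ∀ i, Scheme.Opens.toScheme (A i) ⟶ B.left := fun i => (A i).ι ≫ (c i).1.left
  haveI : ∀ i, AlgebraicGeometry.Etale (c i).1.left := fun i => etale_left _
  haveI : ∀ i, AlgebraicGeometry.Etale (cA i) := fun i => by
    show AlgebraicGeometry.Etale ((A i).ι ≫ (c i).1.left); infer_instance
  haveI : ∀ i, QuasiCompact (cA i) := fun i => quasiCompact_of_compactSpace _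
  have hHc : ∀ i, IsConstructible (cA i '' H i) := fun i =>
    (cA i).isConstructible_image (((A i).ι ≫ (d i).1.left).isConstructible_preimage (isConstructible_good hF (q i).1 (θ i)))
  -- the good locus
  let miss : Set p.1.left := ρ '' (⋃ i, (E i : Set B.left))ᶜ
  let over₂ : Set p.1.left := ⋃ (i : ι) (j : ι) (_ : i ≠ j), ρ '' ((E i : Set B.left) ∩ E j)
  let off : Set p.1.left := ⋃ i, ρ '' ((E i : Set B.left) ∩ (cA i '' H i)ᶜ)
  let dbl : Set p.1.left := ⋃ i, (pullback.fst (π i) (π i) ≫ π i) '' (Set.range (pullback.diagonal (π i)))ᶜ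
  let hit : Set p.1.left := ⋂ i, ρ '' (E i : Set B.left)
  have hCc : IsConstructible (hit ∩ missᶜ ∩ over₂ᶜ ∩ offᶜ ∩ dblᶜ) := by
    refine ((((IsConstructible.iInter fun i => ρ.isConstructible_image (hEc i)).inter ?_).inter ?_).inter ?_).inter ?_
    · exact (ρ.isConstructible_image (IsConstructible.iUnion hEc).compl).compl
    · refine (IsConstructible.iUnion fun i => IsConstructible.iUnion fun j => ?_).compl
      by_cases hij : i ≠ j
      · simp only [hij, ne_eq, not_false_eq_true, Set.iUnion_true]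
        exact ρ.isConstructible_image ((hEc i).inter (hEc j))
      · simp only [hij, Set.iUnion_of_empty, IsConstructible.empty]
    · exact (IsConstructible.iUnion fun i => ρ.isConstructible_image ((hEc i).inter (hHc i).compl)).compl
    · refine (IsConstructible.iUnion fun i => ?_).compl
      haveI : IsAffine (pullback (π i) (π i)) := isAffine_of_isAffineHom (pullback.fst (π i) (π i) ≫ π i)
      refine (pullback.fst (π i) (π i) ≫ π i).isConstructible_image ?_
      rw [isConstructible_compl, ← Set.image_univ]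
      exact (pullback.diagonal (π i)).isConstructible_image IsConstructible.univ
  refine ⟨p.1, _, σ, _, p.point, hW, inferInstance, (SpectralLib.isClopen_C_of_isConstructible hCc).2,
    p.hom_point.trans (geomPtAlg_default y), ⟨⟨⟨⟨?_, ?_⟩, ?_⟩, ?_⟩, ?_⟩, ?_⟩
  · refine Set.mem_iInter.2 fun i => ⟨_, (hptB i).1, ?_⟩
    rw [← Scheme.Hom.comp_apply, hupt]
  · rintro ⟨b, hb', hbp⟩
    obtain ⟨u, rfl⟩ := hlift _ η p.2 b hbp
    exact hb' (Set.mem_iUnion.2 ⟨u, (hptB u).1⟩)
  · intro hc
    simp only [over₂, Set.mem_iUnion] at hc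
    obtain ⟨i, j, hij, b, ⟨hbi, hbj⟩, hbp⟩ := hc
    obtain ⟨u, rfl⟩ := hlift _ η p.2 b hbp
    exact hij (((hptB i).2 u hbi).symm.trans ((hptB j).2 u hbj))
  · intro hc
    obtain ⟨i, b, ⟨hbi, hbn⟩, hbp⟩ := Set.mem_iUnion.1 hc
    obtain ⟨u, rfl⟩ := hlift _ η p.2 b hbp
    obtain rfl := (hptB i).2 u hbi
    refine hbn ⟨⟨(r u).point, hrA u⟩, ?_, ?_⟩
    · show GoodPt F (q u).1 (θ u) (((A u).ι ≫ (d u).1.left) ⟨(r u).point, hrA u⟩)
      have e : ((A u).ι ≫ (d u).1.left) ⟨(r u).point, hrA u⟩ = (q u).point :=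
        (Scheme.Hom.comp_apply _ _ _).trans (Nbhd.map_point (d u))
      rw [e]
      exact hgood u
    · exact (Scheme.Hom.comp_apply _ _ _).trans (Nbhd.map_point (c u))
  · intro hc
    obtain ⟨i, z, hz, hzp⟩ := Set.mem_iUnion.1 hc
    haveI : LocallyQuasiFinite (pullback.fst (π i) (π i) ≫ π i) := inferInstance
    obtain ⟨v, hv⟩ := EtaleSplit.exists_gpt (pullback.fst (π i) (π i) ≫ π i) (liftHom η p.2) z
      (hzp.trans (EtaleSplit.pt_eq _ _))
    have key : ∀ s : Spec (CommRingCat.of _) ⟶ Scheme.Opens.toScheme (E i), s ≫ π i = liftHom η p.2 →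
        s ≫ Scheme.Opens.ι (E i) = upt η p.2 i := by
      intro s hs
      let u : ι := ⟨s ≫ Scheme.Opens.ι (E i) ≫ pullback.snd p.1.hom f, by
        rw [Category.assoc, Category.assoc, ← pullback.condition]
        exact (by simpa [π, ρ, bcFst] using congrArg (· ≫ p.1.hom) hs :
          s ≫ Scheme.Opens.ι (E i) ≫ pullback.fst p.1.hom f ≫ p.1.hom = liftHom η p.2 ≫ p.1.hom).trans
            (liftHom_comp η p.2)⟩
      have e : upt η p.2 u = s ≫ Scheme.Opens.ι (E i) := pullback.hom_ext
        ((hupt η p.2 u).trans (hs.symm.trans (Category.assoc _ _ _).symm))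
        ((pullback.lift_snd _ _ _).trans (Category.assoc _ _ _).symm)
      have hu : u = i := (hptB i).2 u (by rw [e]; exact (s default).2)
      rw [← e, hu]
    have e : v.1 ≫ pullback.fst (π i) (π i) = v.1 ≫ pullback.snd (π i) (π i) := by
      rw [← cancel_mono (Scheme.Opens.ι (E i)), key _ ((Category.assoc _ _ _).trans v.2), key _ ?_]
      rw [Category.assoc, ← pullback.condition]
      exact v.2
    have hd : (v.1 ≫ pullback.fst (π i) (π i)) ≫ pullback.diagonal (π i) = v.1 := pullback.hom_ext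
      (by rw [Category.assoc, pullback.diagonal_fst, Category.comp_id])
      (by rw [Category.assoc, pullback.diagonal_snd, Category.comp_id]; exact e)
    refine hz ⟨EtaleSplit.pt (v.1 ≫ pullback.fst (π i) (π i)), ?_⟩
    rw [← EtaleSplit.pt_comp, hd]
    exact hv
  rintro w ⟨⟨⟨⟨hwh, hwm⟩, hwo⟩, hwf⟩, hwd⟩ Ω _ _ ζ l hl
  -- the points over a good point
  have hex : ∀ i, ∃ u : EtaleSplit.GPts f ζ, upt ζ l u default ∈ E i := fun i => by
    obtain ⟨b, hb', hbw⟩ := Set.mem_iInter.1 hwh i
    obtain ⟨u, rfl⟩ := hlift Ω ζ l b (hbw.trans hl.symm)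
    exact ⟨u, hb'⟩
  choose u hu using hex
  have hρ : ∀ v : EtaleSplit.GPts f ζ, ρ (upt ζ l v default) = w := fun v => by
    rw [← Scheme.Hom.comp_apply, hupt]; exact hl
  have hsame : ∀ i (v : EtaleSplit.GPts f ζ), upt ζ l v default ∈ E i → v = u i := by
    intro i v hv
    let lf : ∀ v' : EtaleSplit.GPts f ζ, upt ζ l v' default ∈ E i →
        (Spec (CommRingCat.of Ω) ⟶ Scheme.Opens.toScheme (E i)) := fun v' hv' =>
      IsOpenImmersion.lift (Scheme.Opens.ι (E i)) (upt ζ l v') (by
        rintro _ ⟨t, rfl⟩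
        rw [Scheme.Opens.range_ι, Subsingleton.elim (α := ↥(Spec (CommRingCat.of Ω))) t default]
        exact hv')
    have hlf : ∀ v' hv', lf v' hv' ≫ Scheme.Opens.ι (E i) = upt ζ l v' := fun v' hv' => IsOpenImmersion.lift_fac _ _ _
    have hlfπ : ∀ v' hv', lf v' hv' ≫ π i = liftHom ζ l := fun v' hv' => by
      show lf v' hv' ≫ Scheme.Opens.ι (E i) ≫ ρ = _
      rw [← Category.assoc, hlf v' hv', hupt]
    let z : Spec (CommRingCat.of Ω) ⟶ pullback (π i) (π i) :=
      pullback.lift (lf v hv) (lf (u i) (hu i)) ((hlfπ v hv).trans (hlfπ (u i) (hu i)).symm)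
    have hz : z default ∈ Set.range (pullback.diagonal (π i)) := by
      by_contra hn
      refine hwd (Set.mem_iUnion.2 ⟨i, z default, hn, ?_⟩)
      rw [← Scheme.Hom.comp_apply, pullback.lift_fst_assoc, hlfπ v hv]
      exact hl
    obtain ⟨t, ht⟩ := exists_fac_immersion (pullback.diagonal (π i)) z hz
    have e1 : lf v hv = t := by
      rw [← pullback.lift_fst (lf v hv) (lf (u i) (hu i)) ((hlfπ v hv).trans (hlfπ (u i) (hu i)).symm)]
      show z ≫ _ = t
      rw [← ht, Category.assoc, pullback.diagonal_fst, Category.comp_id]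
    have e2 : lf (u i) (hu i) = t := by
      rw [← pullback.lift_snd (lf v hv) (lf (u i) (hu i)) ((hlfπ v hv).trans (hlfπ (u i) (hu i)).symm)]
      show z ≫ _ = t
      rw [← ht, Category.assoc, pullback.diagonal_snd, Category.comp_id]
    refine Subtype.ext ?_
    have := congrArg (fun m => m ≫ pullback.snd p.1.hom f) ((hlf v hv).symm.trans ((congrArg (· ≫ Scheme.Opens.ι (E i))
      (e1.trans e2.symm)).trans (hlf (u i) (hu i))))
    simpa [upt] using this
  have hbij : Function.Bijective u := by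
    constructor
    · intro i j hij
      by_contra hne
      exact hwo (Set.mem_iUnion.2 ⟨i, Set.mem_iUnion.2 ⟨j, Set.mem_iUnion.2 ⟨hne, _, ⟨hu i, hij ▸ hu j⟩, hρ _⟩⟩⟩)
    · intro v
      obtain ⟨i, hi⟩ : ∃ i, upt ζ l v default ∈ E i := by
        by_contra hn
        exact hwm ⟨_, fun h' => hn (Set.mem_iUnion.1 h'), hρ v⟩
      exact ⟨i, (hsame i v hi).symm⟩
  let en := Equiv.ofBijective _ hbij
  -- the components
  have hcomp : ∀ i, ∃ e' : M i ≃ (EtCoh.stalk (u i).1).obj F,
      ∀ e, pushFamily f ζ F (germ ζ G l (σ e)) (u i) = e' (h i e) := by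
    intro i
    have hin : upt ζ l (u i) default ∈ cA i '' H i := by
      by_contra hn
      exact hwf (Set.mem_iUnion.2 ⟨i, _, ⟨hu i, hn⟩, hρ _⟩)
    obtain ⟨a, ha, hab⟩ := hin
    have hpt : liftHom (u i).1 (liftBcAt f ζ (u i) p.1 l) default = (c i).1.left ((A i).ι a) :=
      hab.symm.trans (Scheme.Hom.comp_apply _ _ _)
    obtain ⟨O', -, haO', huniq'⟩ := EtPointClass.exists_open_fibre ((A i).ι a)
    let S : (r i).1.left.Opens := A i ⊓ O'
    obtain ⟨z, hz⟩ := exists_fiber_map_eq (u i).1 (EtPointClass.incl (r i).1 S ≫ (c i).1)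
      (liftBcAt f ζ (u i) p.1 l) ⟨(A i).ι a, ⟨a.2, haO'⟩⟩ ((Scheme.Hom.comp_apply _ _ _).trans hpt.symm)
    let za : (Scheme.pointSmallEtale (u i).1).fiber.obj (r i).1 :=
      (Scheme.pointSmallEtale (u i).1).fiber.map (EtPointClass.incl (r i).1 S) z
    have hzc : (Scheme.pointSmallEtale (u i).1).fiber.map (c i).1 za = liftBcAt f ζ (u i) p.1 l := by
      refine Eq.trans ?_ hz
      rw [Functor.map_comp]; rfl
    have hza : liftHom (u i).1 za default = (A i).ι a := by
      refine huniq' _ ?_ ?_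
      · rw [fiber_map_point]
        exact (liftHom (u i).1 z default : Scheme.Opens.toScheme S).2.2
      · have h1 : (r i).1.hom (liftHom (u i).1 za default) = (u i).1 default :=
          Nbhd.hom_point (⟨(r i).1, za⟩ : Nbhd (u i).1)
        have h2 : (r i).1.hom ((A i).ι a) = B.hom ((c i).1.left ((A i).ι a)) :=
          (congrArg (fun m : (r i).1.left ⟶ X => m ((A i).ι a)) (MorphismProperty.Over.w (c i).1)).symm.trans
            (Scheme.Hom.comp_apply _ _ _)
        rw [h1, h2, ← hpt]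
        exact (Nbhd.hom_point (⟨B, liftBcAt f ζ (u i) p.1 l⟩ : Nbhd (u i).1)).symm
    have hg' : Function.Bijective fun m : M i => germ (u i).1 F za (θ' i m) :=
      GoodPt.map (d i).1 (show GoodPt F (q i).1 (θ i) ((d i).1.left ((A i).ι a)) from by
        have ha' : GoodPt F (q i).1 (θ i) (((A i).ι ≫ (d i).1.left) a) := ha
        rwa [Scheme.Hom.comp_apply] at ha') _ (u i).1 za hza
    refine ⟨Equiv.ofBijective _ hg', fun e => ?_⟩
    rw [pushFamily_germ]
    refine ((congrArg (fun l' => germ (u i).1 F l' (σ e)) hzc).symm.trans (germ_map (u i).1 F (c i).1 za (σ e)).symm).trans ?_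
    refine (germ_eq_iff_mem_agree (u i).1 F.obj za _ _).2 ?_
    rw [hza]
    exact Set.mem_iInter.1 (hAO i a.2) e
  choose e' he' using hcomp
  have key : (fun e => germ ζ G l (σ e)) =
      (Equiv.ofBijective _ (bijective_pushFamily f ζ F)).symm ∘
        ((Equiv.piCongrLeft (fun v => (EtCoh.stalk v.1).obj F) en) ∘ (fun e i => e' i (h i e))) := by
    funext e
    refine ((Equiv.symm_apply_eq _).2 (funext fun v => ?_)).symm
    obtain ⟨i, rfl⟩ := en.surjective v
    simp only [Function.comp_apply, Equiv.piCongrLeft_apply_apply]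
    exact (he' i e).symm
  rw [key]
  refine (Equiv.bijective _).comp ((Equiv.bijective _).comp ?_)
  exact ((Equiv.piCongrRight e').bijective.comp ((Equiv.piCongrRight fun i => (Equiv.ofBijective _ (hb i)).symm).bijective.comp
    (bijective_pushFamily f η F)))

end Groth.Agent.FLCLib
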