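import Groth.Agent.FLCLib.Ops
import Groth.Agent.EtPointClass.Fibre
import Groth.Agent.S8527
/-!
Behaviour of a sheaf at the generic point of a closed irreducible set.
-/

set_option autoImplicit false
set_option backward.isDefEq.respectTransparency false
set_option backward.isDefEq.respectTransparency.types false

universe u

open CategoryTheory CategoryTheory.Limits AlgebraicGeometry Opposite Topology

namespace Groth.Agent.FLCLib

open EtPtsLib

variable {X : Scheme.{u}} {Ω : Type u} [Field Ω] [IsSepClosed Ω] (ξ : Spec (CommRingCat.of Ω) ⟶ X)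

variable {ξ}

/-- The point of a neighbourhood. -/
noncomputable abbrev Nbhd.point (p : Nbhd ξ) : p.1.left := liftHom ξ p.2 default

theorem Nbhd.hom_point (p : Nbhd ξ) : p.1.hom p.point = ξ default :=
  (Scheme.Hom.comp_apply _ _ _).symm.trans
    (congrArg (fun h : Spec (CommRingCat.of Ω) ⟶ X => h default) (liftHom_comp ξ p.2))

theorem fiber_map_point {U V : X.Etale} {Ω : Type u} [Field Ω] [IsSepClosed Ω] {ξ : Spec (CommRingCat.of Ω) ⟶ X}
    (g : V ⟶ U) (y : (Scheme.pointSmallEtale ξ).fiber.obj V) :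
    liftHom ξ ((Scheme.pointSmallEtale ξ).fiber.map g y) default = g.left (liftHom ξ y default) :=
  (congrArg (fun h : Spec (CommRingCat.of Ω) ⟶ U.left => h default) (liftHom_map ξ g y)).trans
    (Scheme.Hom.comp_apply _ _ _)

theorem Nbhd.map_point {p q : Nbhd ξ} (g : q ⟶ p) : g.1.left q.point = p.point := by
  refine (fiber_map_point g.1 q.2).symm.trans ?_
  rw [g.2]

/-- Every point of `p` over the closure of the base point is a specialisation of the point of `p`. -/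
def Nbhd.Good (p : Nbhd ξ) : Prop := ∀ z : p.1.left, ξ default ⤳ p.1.hom z → p.point ⤳ z

theorem exists_good (p : Nbhd ξ) : ∃ (q : Nbhd ξ) (_ : q ⟶ p), q.Good := by
  obtain ⟨O, -, hpO, huniq⟩ := EtPointClass.exists_open_fibre p.point
  obtain ⟨y, hy⟩ := exists_fiber_map_eq ξ (EtPointClass.incl p.1 O) p.2 ⟨p.point, hpO⟩ rfl
  let q : Nbhd ξ := ⟨EtPointClass.sub p.1 O, y⟩
  refine ⟨q, ⟨EtPointClass.incl p.1 O, hy⟩, fun z hz => ?_⟩
  haveI : AlgebraicGeometry.Etale (EtPointClass.sub p.1 O).hom := (EtPointClass.sub p.1 O).prop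
  obtain ⟨w, hw, hwx⟩ := Flat.generalizingMap q.1.hom hz
  have e1 : O.ι w = p.point := huniq _ w.2 (by
    refine (show p.1.hom (O.ι w) = q.1.hom w from rfl).trans (hwx.trans ?_)
    exact p.hom_point.symm)
  have e2 : q.point = w := O.ι.isOpenEmbedding.injective
    ((Nbhd.map_point (⟨EtPointClass.incl p.1 O, hy⟩ : q ⟶ p)).trans e1.symm)
  exact e2 ▸ hw

/-- Equality of germs at a point over the closure gives equality at the point. -/
theorem Nbhd.Good.germ_eq {p : Nbhd ξ} (hp : p.Good) (F : EtCoh.Ab X) {s t : EtCoh.sect F p.1}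
    {Ω' : Type u} [Field Ω'] [IsSepClosed Ω'] {ζ : Spec (CommRingCat.of Ω') ⟶ X}
    (l : (Scheme.pointSmallEtale ζ).fiber.obj p.1) (hz : ξ default ⤳ ζ default)
    (e : germ ζ F l s = germ ζ F l t) : germ ξ F p.2 s = germ ξ F p.2 t := by
  refine (germ_eq_iff_mem_agree ξ F.obj p.2 s t).2 ?_
  refine (hp _ ?_).mem_open (isOpen_agree F.obj s t) ((germ_eq_iff_mem_agree ζ F.obj l s t).1 e)
  rw [show p.1.hom (liftHom ζ l default) = ζ default from (Scheme.Hom.comp_apply _ _ _).symm.trans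
    (congrArg (fun h : Spec (CommRingCat.of Ω') ⟶ X => h default) (liftHom_comp ζ l))]
  exact hz

/-- A finite stalk is given by sections over a good neighbourhood. -/
theorem exists_sigma (F : EtCoh.Ab X) [Finite ((EtCoh.stalk ξ).obj F)] (p : Nbhd ξ) :
    ∃ (q : Nbhd ξ) (_ : q ⟶ p) (σ : (EtCoh.stalk ξ).obj F ⟶ F.obj.obj (op q.1)),
      q.Good ∧ ∀ e, germ ξ F q.2 (σ e) = e := by
  obtain ⟨p₁, k₁, t, ht⟩ := exists_forall_germ_eq F p (id : (EtCoh.stalk ξ).obj F → (EtCoh.stalk ξ).obj F)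
  obtain ⟨p₂, k₂, h2⟩ := exists_forall_map_eq F p₁ (fun a : (EtCoh.stalk ξ).obj F × (EtCoh.stalk ξ).obj F => t (a.1 + a.2))
    (fun a => t a.1 + t a.2) fun a => (ht _).trans (Eq.trans (congrArg₂ (· + ·) (ht a.1) (ht a.2)).symm
      (map_add ((Scheme.pointSmallEtale ξ).toPresheafFiber p₁.1 p₁.2 F.obj).hom (t a.1) (t a.2)).symm)
  obtain ⟨q, k₃, hq⟩ := exists_good p₂
  let σ : (EtCoh.stalk ξ).obj F ⟶ F.obj.obj (op p₂.1) := AddCommGrpCat.ofHom (AddMonoidHom.mk'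
    (fun e => F.obj.map k₂.1.op (t e)) fun a b => (h2 (a, b)).trans (map_add (F.obj.map k₂.1.op).hom _ _))
  refine ⟨q, k₃ ≫ k₂ ≫ k₁, σ ≫ F.obj.map k₃.1.op, hq, fun e => ?_⟩
  show germ ξ F q.2 (F.obj.map k₃.1.op (F.obj.map k₂.1.op (t e))) = e
  rw [germ_map, k₃.2, germ_map, k₂.2]
  exact ht e

theorem injective_germ_sigma {F : EtCoh.Ab X} {q : Nbhd ξ} (hq : q.Good)
    {σ : (EtCoh.stalk ξ).obj F ⟶ F.obj.obj (op q.1)} (hσ : ∀ e, germ ξ F q.2 (σ e) = e)
    {Ω' : Type u} [Field Ω'] [IsSepClosed Ω'] {ζ : Spec (CommRingCat.of Ω') ⟶ X}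
    (l : (Scheme.pointSmallEtale ζ).fiber.obj q.1) (hz : ξ default ⤳ ζ default) :
    Function.Injective fun e => germ ζ F l (σ e) := fun a b e => by
  rw [← hσ a, ← hσ b]
  exact hq.germ_eq F l hz e

/-- Sections give every stalk over the closure of `x` exactly once. -/
def IsConstAbove (x : X) (F : EtCoh.Ab X) (U : X.Etale) {M : AddCommGrpCat.{u + 1}} (θ : M ⟶ F.obj.obj (op U)) : Prop :=
  ∀ (Ω : Type u) [Field Ω] [IsSepClosed Ω] (ζ : Spec (CommRingCat.of Ω) ⟶ X)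
    (l : (Scheme.pointSmallEtale ζ).fiber.obj U), x ⤳ ζ default → Function.Bijective fun m : M => germ ζ F l (θ m)

/-- Generically on every irreducible closed set, `F` is constant with finite value. -/
def GenConst (F : EtCoh.Ab X) : Prop :=
  ∀ x : X, ∃ (U : X.Etale) (M : AddCommGrpCat.{u + 1}) (θ : M ⟶ F.obj.obj (op U)),
    x ∈ Set.range U.hom ∧ Finite M ∧ IsConstAbove x F U θ

theorem IsConstAbove.map {x : X} {F : EtCoh.Ab X} {U V : X.Etale} {M : AddCommGrpCat.{u + 1}}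
    {θ : M ⟶ F.obj.obj (op U)} (h : IsConstAbove x F U θ) (g : V ⟶ U) : IsConstAbove x F V (θ ≫ F.obj.map g.op) :=
  fun Ω _ _ ζ l hz => by
  have e : (fun m : M => germ ζ F l ((θ ≫ F.obj.map g.op) m)) =
      fun m : M => germ ζ F ((Scheme.pointSmallEtale ζ).fiber.map g l) (θ m) := funext fun m => germ_map ζ F g l (θ m)
  rw [e]
  exact h Ω ζ _ hz

theorem isConstOn_pull_of_above {T : Scheme.{u}} (f : T ⟶ X) {x : X} (hf : ∀ t, x ⤳ f t) {F : EtCoh.Ab X}
    {U : X.Etale} {M : AddCommGrpCat.{u + 1}} {θ : M ⟶ F.obj.obj (op U)} (h : IsConstAbove x F U θ) :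
    IsConstOn ((EtCoh.pull f).obj F) ((EtCoh.bc f).obj U)
      (θ ≫ ((EtCoh.pullPushAdj f).unit.app F).hom.app (op U)) := fun Ω _ _ ζ l => by
  let l' : (Scheme.pointSmallEtale (ζ ≫ f)).fiber.obj U := Over.homMk (liftHom ζ l ≫ bcFst f U) (by
    show (liftHom ζ l ≫ pullback.fst U.hom f) ≫ U.hom = ζ ≫ f
    rw [Category.assoc, pullback.condition, ← Category.assoc]
    exact congrArg (· ≫ f) (liftHom_comp ζ l))
  have hl : liftBc f ζ U l' = l := fiber_bc_ext f ζ (liftHom_liftBc_fst f ζ U l')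
  have e : (fun m : M => germ ζ ((EtCoh.pull f).obj F) l ((θ ≫ ((EtCoh.pullPushAdj f).unit.app F).hom.app (op U)) m)) =
      unitStalk f ζ F ∘ fun m : M => germ (ζ ≫ f) F l' (θ m) := funext fun m => by
    have := ConcreteCategory.congr_hom (toPresheafFiber_unitStalk f ζ F U l') (θ m)
    rw [hl] at this
    exact this.symm
  refine e ▸ ((bijective_unitStalk f ζ F).comp (h Ω (ζ ≫ f) l' ?_))
  rw [Scheme.Hom.comp_apply]
  exact hf _

/-- A generically constant sheaf on a locally Noetherian scheme is constructible. -/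
theorem GenConst.isConstructible [IsLocallyNoetherian X] {F : EtCoh.Ab X} (h : GenConst F) :
    EtPBC.IsConstructible F := by
  refine (S8527.result F).2 fun x => ?_
  obtain ⟨U, M, θ, hx, hM, hθ⟩ := h x
  haveI : AlgebraicGeometry.Etale U.hom := U.prop
  obtain ⟨T, j, -, hj, hr⟩ := exists_immersion_inter (𝟙 X) (L := Set.range U.hom ∩ closure {x})
    ⟨Set.range U.hom, closure {x}, U.hom.isOpenMap.isOpen_range, isClosed_closure, rfl⟩
  have hr' : Set.range (j ≫ 𝟙 X) = Set.range U.hom ∩ closure {x} :=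
    hr.trans (Set.inter_eq_right.2 fun y _ => ⟨y, rfl⟩)
  refine ⟨⟨Set.range U.hom, U.hom.isOpenMap.isOpen_range⟩, T, j ≫ 𝟙 X, hj, hx, hr', ?_⟩
  refine (finiteLocallyConstant_iff _).2 fun t => ⟨(EtCoh.bc (j ≫ 𝟙 X)).obj U, M, _, ?_, hM, isConstOn_pull_of_above _ ?_ hθ⟩
  · exact bcFst_range _ (hr' ▸ Set.mem_range_self t : (j ≫ 𝟙 X) t ∈ Set.range U.hom ∩ closure {x}).1
  · intro t
    exact specializes_iff_mem_closure.2 (hr' ▸ Set.mem_range_self t : (j ≫ 𝟙 X) t ∈ Set.range U.hom ∩ closure {x}).2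

theorem flc_card {F : EtCoh.Ab X} (hF : EtCoh.IsFiniteLocallyConstant F) (x : X) :
    ∃ (n : ℕ) (N : Set X), IsOpen N ∧ x ∈ N ∧ ∀ (Ω : Type u) [Field Ω] [IsSepClosed Ω]
      (ξ : Spec (CommRingCat.of Ω) ⟶ X), ξ default ∈ N →
        Finite ((EtCoh.stalk ξ).obj F) ∧ Nat.card ((EtCoh.stalk ξ).obj F) = n := by
  obtain ⟨U, M, θ, hx, hM, hθ⟩ := (finiteLocallyConstant_iff F).1 hF x
  haveI : AlgebraicGeometry.Etale U.hom := U.prop
  haveI : Finite M := hM
  refine ⟨Nat.card M, _, U.hom.isOpenMap.isOpen_range, hx, fun Ω _ _ ζ ⟨v, hv⟩ => ?_⟩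
  obtain ⟨l, -⟩ := Scheme.pointSmallEtaleFiberObjToPreimage_surjective ζ rfl U ⟨v, hv⟩
  exact ⟨Finite.of_equiv M (Equiv.ofBijective _ (hθ Ω ζ l)), (Nat.card_congr (Equiv.ofBijective _ (hθ Ω ζ l))).symm⟩

/-- The cardinality of the stalks is generically constant on irreducible closed sets. -/
def GenCard (F : EtCoh.Ab X) : Prop :=
  ∀ x : X, ∃ (n : ℕ) (O : Set X), IsOpen O ∧ x ∈ O ∧ ∀ (Ω : Type u) [Field Ω] [IsSepClosed Ω]
    (ξ : Spec (CommRingCat.of Ω) ⟶ X), ξ default ∈ O → x ⤳ ξ default →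
      Finite ((EtCoh.stalk ξ).obj F) ∧ Nat.card ((EtCoh.stalk ξ).obj F) = n

theorem GenCard.genConst {F : EtCoh.Ab X} (h : GenCard F) : GenConst F := fun x => by
  obtain ⟨n, O, hO, hxO, hn⟩ := h x
  let ξ := geomPt x
  have hξ : ξ default = x := geomPt_default x
  obtain ⟨hfin, hcard⟩ := hn _ ξ (hξ.symm ▸ hxO) (hξ.symm ▸ specializes_rfl)
  obtain ⟨l⟩ := exists_geomPt_lift (U := EtDesc.ofOpen ⟨O, hO⟩) (x := x) ⟨(⟨x, hxO⟩ : Scheme.Opens.toScheme (⟨O, hO⟩ : X.Opens)), rfl⟩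
  obtain ⟨q, g, σ, hq, hσ⟩ := exists_sigma F (⟨_, l⟩ : Nbhd ξ)
  refine ⟨q.1, _, σ, ⟨q.point, q.hom_point.trans hξ⟩, hfin, fun Ω' _ _ ζ z hz => ?_⟩
  have hzO : ζ default ∈ O := by
    have e : (g.1.left (liftHom ζ z default)).val = ζ default := by
      refine ((Scheme.Hom.comp_apply g.1.left _ _).symm.trans (congrArg (fun h : q.1.left ⟶ X => h (liftHom ζ z default))
        (MorphismProperty.Over.w g.1))).trans ?_
      exact (Scheme.Hom.comp_apply _ _ _).symm.trans (congrArg (fun h : Spec (CommRingCat.of Ω') ⟶ X => h default) (liftHom_comp ζ z))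
    exact e ▸ (g.1.left (liftHom ζ z default)).2
  obtain ⟨hf', hc'⟩ := hn Ω' ζ hzO hz
  exact (injective_germ_sigma hq hσ z (hξ.symm ▸ hz)).bijective_of_nat_card_le (hc'.trans hcard.symm).le

theorem genCard_of_isConstructible {F : EtCoh.Ab X} (hF : EtPBC.IsConstructible F) : GenCard F := fun x => by
  obtain ⟨_, ⟨U, hU, rfl⟩, hxU, -⟩ := X.isBasis_affineOpens.exists_subset_of_mem_open (Set.mem_univ x) isOpen_univ
  obtain ⟨ι, _, T, g, hg, -, hcov, hflc⟩ := (isConstructible_iff F).1 hF U hU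
  obtain ⟨i, t, ht⟩ := hcov ⟨x, hxU⟩
  haveI := hg i
  let G := g i ≫ Scheme.Opens.ι U
  have hG : G t = x := by
    show (g i ≫ Scheme.Opens.ι U) t = x
    rw [Scheme.Hom.comp_apply, ht]; rfl
  obtain ⟨n, N, hN, htN, hcard⟩ := flc_card ((flc_pull_pull_iff _ _).2 (hflc i)) t
  obtain ⟨O₁, hO₁, rfl⟩ := G.isEmbedding.isOpen_iff.1 hN
  obtain ⟨O, Z, hO, hZ, hOZ⟩ := G.isLocallyClosed_range
  have hxr : x ∈ O ∩ Z := hOZ ▸ ⟨t, hG⟩
  refine ⟨n, O ∩ O₁, hO.inter hO₁, ⟨hxr.1, hG ▸ htN⟩, fun Ω _ _ ξ hξ hs => ?_⟩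
  have hr : ξ default ∈ Set.range G := hOZ ▸ ⟨hξ.1, hs.mem_closed hZ hxr.2⟩
  obtain ⟨ζ, rfl⟩ := exists_fac_immersion G ξ hr
  obtain ⟨hf, hc⟩ := hcard Ω ζ (by
    show G (ζ default) ∈ O₁
    rw [← Scheme.Hom.comp_apply]; exact hξ.2)
  let e := ((stalkPullIso G ζ).app F).addCommGroupIsoToAddEquiv.toEquiv
  haveI : Finite ↑((EtCoh.pull G ⋙ EtCoh.stalk ζ).obj F) := hf
  exact ⟨Finite.of_equiv _ e, (Nat.card_congr e).symm.trans hc⟩

end Groth.Agent.FLCLib
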