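import Groth.Agent.FLCLib.Descent
import Groth.Agent.EtPtsLib.ExtZeroStalk
import Mathlib.AlgebraicGeometry.Morphisms.FlatMono
/-!
Extension by zero of constructible sheaves along étale morphisms.
-/

set_option autoImplicit false
set_option backward.isDefEq.respectTransparency false
set_option backward.isDefEq.respectTransparency.types false

universe u

open CategoryTheory CategoryTheory.Limits AlgebraicGeometry Opposite Topology

namespace Groth.Agent.FLCLib

open EtPtsLib

variable {U X : Scheme.{u}} (j : U ⟶ X) [AlgebraicGeometry.Etale j] [EtShriek.JCont j]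

/-- With finitely many points over `ξ`, the stalk of the extension by zero is the sum. -/
theorem bijective_sum_ιStalk (F : EtCoh.Ab U) {Ω : Type u} [Field Ω] [IsSepClosed Ω]
    (ξ : Spec (CommRingCat.of Ω) ⟶ X) [Fintype (PtsOver j ξ)] :
    Function.Bijective fun a : ∀ u : PtsOver j ξ, (EtCoh.stalk u.1).obj F => ∑ u, ιStalk F u (a u) := by
  classical
  let pr : ∀ u : PtsOver j ξ, (EtCoh.stalk ξ).obj ((EtShriek.extZero j).obj F) ⟶ (EtCoh.stalk u.1).obj F := fun u =>
    descStalk F fun u' => if h : u' = u then eqToHom (by rw [h]) else 0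
  have hpr : ∀ (u u' : PtsOver j ξ) (a : (EtCoh.stalk u'.1).obj F),
      pr u (ιStalk F u' a) = (if h : u' = u then eqToHom (by rw [h]) else 0 :
        (EtCoh.stalk u'.1).obj F ⟶ (EtCoh.stalk u.1).obj F) a := fun u u' a => by
    rw [← ConcreteCategory.comp_apply, ιStalk_descStalk]
  constructor
  · intro a b e
    funext u
    have := congrArg (pr u) e
    simp only [map_sum, hpr] at this
    rw [Finset.sum_eq_single u, Finset.sum_eq_single u] at this
    · simpa using this
    all_goals intros
    all_goals first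
      | (rename_i h; rw [dif_neg h]; rfl)
      | simp at *
  · let φ : (∀ u : PtsOver j ξ, (EtCoh.stalk u.1).obj F) →+ (EtCoh.stalk ξ).obj ((EtShriek.extZero j).obj F) :=
      AddMonoidHom.mk' (fun a => ∑ u, ιStalk F u (a u)) fun a b => by
        simp [Finset.sum_add_distrib]
    let Q : AddCommGrpCat.{u + 1} := AddCommGrpCat.of ((EtCoh.stalk ξ).obj ((EtShriek.extZero j).obj F) ⧸ φ.range)
    let q : (EtCoh.stalk ξ).obj ((EtShriek.extZero j).obj F) ⟶ Q := AddCommGrpCat.ofHom (QuotientAddGroup.mk' φ.range)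
    have h1 : ∀ u, ιStalk F u ≫ q = 0 := fun u => by
      ext a
      refine (QuotientAddGroup.eq_zero_iff _).2 ⟨Pi.single u a, ?_⟩
      show ∑ u', ιStalk F u' ((Pi.single u a : ∀ u : PtsOver j ξ, (EtCoh.stalk u.1).obj F) u') = _
      rw [Finset.sum_eq_single u]
      · rw [Pi.single_eq_same]; rfl
      · intro u' _ h; simp [Pi.single_eq_of_ne h]
      · simp
    have h2 : q = 0 := (descStalk_uniq F (fun _ => 0) q h1).trans
      (descStalk_uniq F (fun _ => 0) 0 fun u => comp_zero).symm
    intro b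
    obtain ⟨a, ha⟩ := (QuotientAddGroup.eq_zero_iff b).1 (ConcreteCategory.congr_hom h2 b)
    exact ⟨a, ha⟩

theorem hasGood_extZero [CompactSpace U] [QuasiSeparatedSpace U] [CompactSpace X] [QuasiSeparatedSpace X]
    {F : EtCoh.Ab U} (hF : EtPBC.IsConstructible F) (x : X) : HasGood ((EtShriek.extZero j).obj F) x := by
  classical
  let ξ := geomPtAlg x
  haveI := EtPointClass.lqf_of_etale j
  haveI : QuasiCompact j := quasiCompact_of_compactSpace j
  haveI : Finite (EtaleSplit.GPts j ξ) := Set.finite_univ_iff.mp ((EtaleSplit.finite_gpts_over j ξ Set.univ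
    ((j.finite_preimage_singleton _).subset fun x hx => hx.2)).subset fun p _ => trivial)
  haveI : Finite (PtsOver j ξ) := (inferInstance : Finite (EtaleSplit.GPts j ξ))
  haveI := Fintype.ofFinite (PtsOver j ξ)
  let ι := PtsOver j ξ
  choose q hq₀ M θ hqa hM hgood using fun u : ι => exists_goodPt hF (⟨EtCoh.top U, topLift u.1⟩ : Nbhd u.1)
  haveI : ∀ u, Finite (M u) := hM
  let R : ι → Nbhd ξ := fun u => ⟨(EtShriek.compEtale j).obj (q u).1, joinLift u (q u).2⟩
  obtain ⟨q₁, hq₁⟩ := IsCofiltered.inf_objs_exists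
    (insert (⟨EtCoh.top X, topLift ξ⟩ : Nbhd ξ) (Finset.univ.image fun u => R u))
  obtain ⟨W, hW, hqW, -⟩ := exists_isAffineOpen_mem_and_subset (show q₁.point ∈ (⊤ : q₁.1.left.Opens) from trivial)
  obtain ⟨y, hy⟩ := exists_fiber_map_eq ξ (EtPointClass.incl q₁.1 W) q₁.2 ⟨q₁.point, hqW⟩ rfl
  let p : Nbhd ξ := ⟨EtPointClass.sub q₁.1 W, y⟩
  let k : ∀ u, p ⟶ R u := fun u => (⟨EtPointClass.incl q₁.1 W, hy⟩ : p ⟶ q₁) ≫
    (hq₁ (Finset.mem_insert_of_mem (Finset.mem_image.2 ⟨u, Finset.mem_univ u, rfl⟩))).some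
  haveI : IsAffine p.1.left := hW
  haveI : IsAffine ((𝟭 Scheme).obj p.1.left) := hW
  haveI : ∀ u, IsAffine (q u).1.left := hqa
  haveI : ∀ u, IsAffine ((𝟭 Scheme).obj (q u).1.left) := hqa
  -- the sections
  let G' := (EtShriek.extZero j).obj F
  let κ : ∀ u, M u ⟶ G'.obj.obj (op p.1) := fun u =>
    θ u ≫ ((EtShriek.extZeroAdj j).unit.app F).hom.app (op (q u).1) ≫ G'.obj.map (k u).1.op
  let Θ : AddCommGrpCat.of (∀ u, M u) ⟶ G'.obj.obj (op p.1) :=
    AddCommGrpCat.ofHom (AddMonoidHom.mk' (fun m => ∑ u, κ u (m u)) fun a b => by simp [Finset.sum_add_distrib])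
  -- the points over a lift
  let a : ι → (p.1.left ⟶ U) := fun u => (k u).1.left ≫ (q u).1.hom
  have ha : ∀ u, a u ≫ j = p.1.hom := fun u =>
    (Category.assoc _ _ _).trans (MorphismProperty.Over.w (k u).1)
  let P := Limits.pullback j p.1.hom
  let s : ι → (p.1.left ⟶ P) := fun u => pullback.lift (a u) (𝟙 _) (by rw [Category.id_comp]; exact ha u)
  haveI : AlgebraicGeometry.Etale p.1.hom := p.1.prop
  haveI : ∀ u, IsOpenImmersion (s u) := fun u => by
    haveI : AlgebraicGeometry.Etale (s u ≫ pullback.snd j p.1.hom) := by rw [pullback.lift_snd]; infer_instance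
    haveI : AlgebraicGeometry.Etale (s u) := AlgebraicGeometry.Etale.of_comp (s u) (pullback.snd j p.1.hom)
    haveI : Mono (s u) := mono_of_mono_fac (show s u ≫ pullback.snd j p.1.hom = 𝟙 _ from pullback.lift_snd _ _ _)
    exact IsOpenImmersion.of_flat_of_mono (s u)
  haveI : QuasiSeparatedSpace ((Functor.fromPUnit X).obj p.1.right) := (inferInstance : QuasiSeparatedSpace X)
  haveI : QuasiCompact p.1.hom := quasiCompact_of_compactSpace p.1.hom
  haveI : QuasiSeparated j := QuasiSeparated.of_quasiSeparatedSpace j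
  haveI : QuasiCompact (pullback.snd j p.1.hom) := inferInstance
  haveI : CompactSpace P := QuasiCompact.compactSpace_of_compactSpace (pullback.snd j p.1.hom)
  haveI : QuasiSeparatedSpace P := quasiSeparatedSpace_of_quasiSeparated (pullback.snd j p.1.hom)
  have hrange : ∀ u, IsConstructible (Set.range (s u)) := fun u =>
    (isCompact_range (s u).continuous).isConstructible (s u).isOpenMap.isOpen_range
  let miss : Set p.1.left := pullback.snd j p.1.hom '' (⋃ u, Set.range (s u))ᶜ
  let coll : Set p.1.left := ⋃ (u : ι) (u' : ι) (_ : u ≠ u'), (s u) ⁻¹' Set.range (s u')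
  let good : Set p.1.left := ⋂ u, (k u).1.left ⁻¹' {v | GoodPt F (q u).1 (θ u) v}
  have hCc : IsConstructible (good ∩ missᶜ ∩ collᶜ) := by
    refine ((IsConstructible.iInter fun u => (k u).1.left.isConstructible_preimage
      (isConstructible_good hF (q u).1 (θ u))).inter ?_).inter ?_
    · exact ((pullback.snd j p.1.hom).isConstructible_image (IsConstructible.iUnion fun u => hrange u).compl).compl
    · refine (IsConstructible.iUnion fun u => IsConstructible.iUnion fun u' => ?_).compl
      by_cases h : u ≠ u'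
      · simp only [h, ne_eq, not_false_eq_true, Set.iUnion_true]
        exact (s u).isConstructible_preimage (hrange u')
      · simp only [h, Set.iUnion_of_empty, IsConstructible.empty]
  -- geometric points of the pullback over a lift
  let upt : ∀ (u : ι) {Ω : Type u} [Field Ω] [IsSepClosed Ω] (ζ : Spec (CommRingCat.of Ω) ⟶ X)
      (l : (Scheme.pointSmallEtale ζ).fiber.obj p.1), PtsOver j ζ := fun u Ω _ _ ζ l =>
    ⟨liftHom ζ l ≫ a u, by rw [Category.assoc, ha]; exact liftHom_comp ζ l⟩
  have hs : ∀ (u : ι) {Ω : Type u} [Field Ω] [IsSepClosed Ω] (ζ : Spec (CommRingCat.of Ω) ⟶ X)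
      (l : (Scheme.pointSmallEtale ζ).fiber.obj p.1) (z : Spec (CommRingCat.of Ω) ⟶ P),
      z ≫ pullback.snd j p.1.hom = liftHom ζ l → z default ∈ Set.range (s u) →
      z ≫ pullback.fst j p.1.hom = (upt u ζ l).1 := by
    intro u Ω _ _ ζ l z hz hr
    have hz' : IsOpenImmersion.lift (s u) z (by
      rintro _ ⟨t, rfl⟩
      rwa [Subsingleton.elim (α := ↥(Spec (CommRingCat.of Ω))) t default]) ≫ s u = z := IsOpenImmersion.lift_fac _ _ _
    generalize IsOpenImmersion.lift (s u) z _ = l' at hz'
    subst hz'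
    obtain rfl : l' = liftHom ζ l := by
      rw [← hz, Category.assoc, pullback.lift_snd, Category.comp_id]
    rw [Category.assoc, pullback.lift_fst]
  have hk : ∀ u, upt u ξ p.2 = u := fun u => Subtype.ext <| by
    show liftHom ξ p.2 ≫ (k u).1.left ≫ (q u).1.hom = u.1
    rw [← Category.assoc, ← liftHom_map]
    exact (congrArg (fun l => liftHom ξ l ≫ (q u).1.hom) (k u).2).trans (liftHom_comp u.1 (q u).2)
  refine ⟨p.1, _, Θ, _, p.point, hW, inferInstance, (SpectralLib.isClopen_C_of_isConstructible hCc).2,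
    p.hom_point.trans (geomPtAlg_default x), ⟨⟨?_, ?_⟩, ?_⟩, ?_⟩
  · refine Set.mem_iInter.2 fun u => ?_
    show GoodPt F (q u).1 (θ u) ((k u).1.left p.point)
    have e : (k u).1.left p.point = (q u).point := Nbhd.map_point (k u)
    rw [e]
    exact hgood u
  · rintro ⟨z, hz, hzp⟩
    obtain ⟨g, hg⟩ := EtaleSplit.exists_gpt (Ω := AlgebraicClosure (X.residueField x)) (pullback.snd j p.1.hom)
      (liftHom ξ p.2) z (hzp.trans (congrArg _ (Subsingleton.elim _ _)))
    let u : ι := ⟨g.1 ≫ pullback.fst j p.1.hom, by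
      rw [Category.assoc, pullback.condition, ← Category.assoc, g.2]; exact liftHom_comp ξ p.2⟩
    have hgu : g.1 = liftHom ξ p.2 ≫ s u := pullback.hom_ext (by
      rw [Category.assoc, pullback.lift_fst]; exact (congrArg Subtype.val (hk u)).symm)
      (by rw [Category.assoc, pullback.lift_snd, Category.comp_id]; exact g.2)
    exact hz (Set.mem_iUnion.2 ⟨u, liftHom ξ p.2 (IsLocalRing.closedPoint _), by
      rw [← Scheme.Hom.comp_apply, ← hgu]; exact hg⟩)
  · intro hc
    simp only [coll, Set.mem_iUnion, Set.mem_preimage] at hc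
    obtain ⟨u, u', hne, hr⟩ := hc
    refine hne ((hk u).symm.trans (Eq.trans (Subtype.ext ?_) (hk u')))
    refine Eq.trans ?_ (hs u' ξ p.2 (liftHom ξ p.2 ≫ s u) (by rw [Category.assoc, pullback.lift_snd, Category.comp_id])
      (by rw [Scheme.Hom.comp_apply]; exact hr))
    rw [Category.assoc, pullback.lift_fst]
  · rintro w ⟨⟨hwg, hwm⟩, hwc⟩ Ω _ _ ζ l hl
    have hb : Function.Bijective fun u => upt u ζ l := by
      constructor
      · intro u u' e
        by_contra hne
        refine hwc (Set.mem_iUnion.2 ⟨u, Set.mem_iUnion.2 ⟨u', Set.mem_iUnion.2 ⟨hne, liftHom ζ l default, ?_⟩⟩⟩)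
        rw [← hl, ← Scheme.Hom.comp_apply, ← Scheme.Hom.comp_apply]
        refine congrArg (fun m : Spec (CommRingCat.of Ω) ⟶ P => m default) (pullback.hom_ext ?_ ?_)
        · rw [Category.assoc, pullback.lift_fst, Category.assoc, pullback.lift_fst]
          exact (congrArg Subtype.val e).symm
        · rw [Category.assoc, pullback.lift_snd, Category.assoc, pullback.lift_snd]
      · intro v
        let z : Spec (CommRingCat.of Ω) ⟶ P := pullback.lift v.1 (liftHom ζ l) (v.2.trans (liftHom_comp ζ l).symm)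
        obtain ⟨u, hu⟩ : ∃ u, z default ∈ Set.range (s u) := by
          by_contra hn
          refine hwm ⟨z default, fun h => hn (Set.mem_iUnion.1 h), ?_⟩
          rw [← Scheme.Hom.comp_apply, pullback.lift_snd]; exact hl
        exact ⟨u, Subtype.ext ((hs u ζ l z (pullback.lift_snd _ _ _) hu).symm.trans (pullback.lift_fst _ _ _))⟩
    let en := Equiv.ofBijective _ hb
    haveI : Finite (PtsOver j ζ) := Finite.of_equiv _ en
    haveI := Fintype.ofFinite (PtsOver j ζ)
    let z : ∀ u, (Scheme.pointSmallEtale (upt u ζ l).1).fiber.obj (q u).1 := fun u =>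
      Over.homMk (liftHom ζ l ≫ (k u).1.left) (Category.assoc _ _ _)
    have hz : ∀ u, Function.Bijective fun m : M u => germ (upt u ζ l).1 F (z u) (θ u m) := fun u => by
      refine (Set.mem_iInter.1 hwg u : GoodPt F (q u).1 (θ u) ((k u).1.left w)) Ω _ (z u) ?_
      show (liftHom ζ l ≫ (k u).1.left) default = _
      rw [Scheme.Hom.comp_apply, hl]
    have e : (fun m : AddCommGrpCat.of (∀ u, M u) => germ ζ G' l (Θ m)) =
        (fun b => ∑ v, ιStalk F v (b v)) ∘ (Equiv.piCongrLeft (fun v => (EtCoh.stalk v.1).obj F) en) ∘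
          (Equiv.piCongrRight fun u => Equiv.ofBijective _ (hz u)) := by
      funext m
      show germ ζ G' l (∑ u, κ u (m u)) = ∑ v, _
      refine (map_sum ((Scheme.pointSmallEtale ζ).toPresheafFiber p.1 l G'.obj).hom _ _).trans ?_
      rw [← en.sum_comp]
      refine Finset.sum_congr rfl fun u _ => ?_
      simp only [Function.comp_apply, Equiv.piCongrLeft_apply_apply]
      refine (germ_map ζ G' (k u).1 l _).trans ?_
      refine Eq.trans ?_ (ConcreteCategory.congr_hom (toPresheafFiber_ιStalk F (upt u ζ l) (q u).1 (z u)) (θ u (m u))).symm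
      exact congrArg (fun q' => germ ζ G' q' _) (Over.OverMorphism.ext (liftHom_map ζ (k u).1 l))
    rw [e]
    exact (bijective_sum_ιStalk j F ζ).comp ((Equiv.bijective _).comp (Equiv.bijective _))

theorem isConstructible_extZero [CompactSpace U] [QuasiSeparatedSpace U] [CompactSpace X] [QuasiSeparatedSpace X]
    {F : EtCoh.Ab U} (hF : EtPBC.IsConstructible F) : EtPBC.IsConstructible ((EtShriek.extZero j).obj F) :=
  isConstructible_of_hasGood _ (hasGood_extZero j hF)

theorem isConstructible_of_flc {X : Scheme.{u}} {F : EtCoh.Ab X} (hF : EtCoh.IsFiniteLocallyConstant F) :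
    EtPBC.IsConstructible F :=
  Strat.isConstructible ⟨PUnit, inferInstance, fun _ => X, fun _ => 𝟙 X, fun _ => inferInstance,
    fun _ => by simp, fun x => ⟨⟨⟩, x, rfl⟩, fun _ => isFiniteLocallyConstant_pull (𝟙 X) hF⟩

end Groth.Agent.FLCLib
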