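import Groth.Agent.FLCLib.Sub
import Groth.Agent.FLCLib.Present
import Groth.Agent.EtPtsLib.GermEq
/-!
Specialisation arrows with a prescribed lift, and locally constant sheaves along generisations.
-/

set_option autoImplicit false
set_option backward.isDefEq.respectTransparency false
set_option backward.isDefEq.respectTransparency.types false

universe u

open CategoryTheory CategoryTheory.Limits AlgebraicGeometry Opposite Topology

namespace Groth.Agent.FLCLib

open EtPtsLib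

variable {X : Scheme.{u}}

theorem finite_fiber_over_any {Ω : Type u} [Field Ω] [IsAlgClosed Ω] (ξ : Spec (CommRingCat.of Ω) ⟶ X)
    {U : X.Etale} (v : U.left) :
    {y : (Scheme.pointSmallEtale ξ).fiber.obj U | liftHom ξ y default ⤳ v}.Finite := by
  haveI : AlgebraicGeometry.Etale U.hom := U.prop
  obtain ⟨A, hA, hvA, -⟩ := exists_isAffineOpen_mem_and_subset (show U.hom v ∈ (⊤ : X.Opens) from trivial)
  obtain ⟨O, hO, hvO, hOA⟩ := exists_isAffineOpen_mem_and_subset (X := U.left) (show v ∈ ((U.hom ⁻¹ᵁ A : U.left.Opens)) from hvA)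
  haveI : IsAffine (Scheme.Opens.toScheme O) := hO
  haveI : IsAffine (Scheme.Opens.toScheme A) := hA
  have hr : Set.range (O.ι ≫ U.hom) ⊆ Set.range A.ι := by
    rintro _ ⟨t, rfl⟩
    rw [Scheme.Opens.range_ι]
    exact (Scheme.Hom.comp_apply _ _ _).symm ▸ hOA t.2
  let f' : Scheme.Opens.toScheme O ⟶ Scheme.Opens.toScheme A := IsOpenImmersion.lift A.ι (O.ι ≫ U.hom) hr
  have hf' : f' ≫ A.ι = O.ι ≫ U.hom := IsOpenImmersion.lift_fac _ _ _
  haveI : QuasiCompact f' := quasiCompact_of_compactSpace _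
  haveI := EtPointClass.lqf_of_etale U.hom
  haveI := EtPointClass.lqf_of_etale (O.ι ≫ U.hom)
  haveI : LocallyQuasiFinite (f' ≫ A.ι) := by rw [hf']; infer_instance
  haveI : LocallyQuasiFinite f' := LocallyQuasiFinite.of_comp f' A.ι
  have hfin : {w : U.left | w ∈ (O : Set U.left) ∧ U.hom w = EtaleSplit.pt ξ}.Finite := by
    by_cases hp : EtaleSplit.pt ξ ∈ (A : Set X)
    · refine ((f'.finite_preimage_singleton (⟨_, hp⟩ : Scheme.Opens.toScheme A)).image O.ι).subset ?_
      rintro w ⟨hw, hwx⟩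
      refine ⟨⟨w, hw⟩, Subtype.ext ?_, rfl⟩
      have h := congrArg (fun m : Scheme.Opens.toScheme O ⟶ X => m ⟨w, hw⟩) hf'
      simp only [Scheme.Hom.comp_apply] at h
      exact h.trans hwx
    · exact Set.Finite.subset Set.finite_empty fun w hw => hp (hw.2 ▸ hOA hw.1)
  have h := EtaleSplit.finite_gpts_over U.hom ξ (O : Set U.left) hfin
  refine Set.Finite.of_finite_image (f := fun y => (⟨liftHom ξ y, liftHom_comp ξ y⟩ : EtaleSplit.GPts U.hom ξ))
    (h.subset ?_) ?_
  · rintro _ ⟨y, hy, rfl⟩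
    show EtaleSplit.pt (liftHom ξ y) ∈ O
    have hy' : liftHom ξ y default ⤳ v := hy
    rw [← EtaleSplit.pt_eq (liftHom ξ y) default]
    exact Specializes.mem_open (s := (O : Set U.left)) hy' O.2 hvO
  · intro y _ y' _ e
    exact Over.OverMorphism.ext (congrArg Subtype.val e)

theorem nonempty_specialization_any {Ω : Type u} [Field Ω] [IsAlgClosed Ω] {ξ : Spec (CommRingCat.of Ω) ⟶ X}
    {Ω' : Type u} [Field Ω'] [IsSepClosed Ω']
    {ζ : Spec (CommRingCat.of Ω') ⟶ X} (hz : ξ default ⤳ ζ default) :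
    Nonempty (Scheme.pointSmallEtale ξ ⟶ Scheme.pointSmallEtale ζ) := by
  let Φ : Nbhd ζ ⥤ Type u :=
    { obj := fun j => {y : (Scheme.pointSmallEtale ξ).fiber.obj j.1 // liftHom ξ y default ⤳ j.point}
      map := fun {j j'} k => TypeCat.ofHom fun y => ⟨(Scheme.pointSmallEtale ξ).fiber.map k.1 y.1, by
        rw [fiber_map_point, ← Nbhd.map_point k]
        exact y.2.map k.1.left.continuous⟩
      map_id := fun j => by
        ext y; exact congrArg (fun q => q y.1) ((Scheme.pointSmallEtale ξ).fiber.map_id j.1)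
      map_comp := fun {a b c} k k' => by
        ext y; exact congrArg (fun q => q y.1) ((Scheme.pointSmallEtale ξ).fiber.map_comp k.1 k'.1) }
  haveI : IsCofiltered (Nbhd ζ) := inferInstance
  haveI : ∀ j, Finite (Φ.obj j) := fun j => (finite_fiber_over_any ξ j.point).to_subtype
  haveI : ∀ j, Nonempty (Φ.obj j) := fun j => by
    haveI : AlgebraicGeometry.Etale j.1.hom := j.1.prop
    obtain ⟨w, hw, hwx⟩ := Flat.generalizingMap j.1.hom (j.hom_point.symm ▸ hz : ξ default ⤳ j.1.hom j.point)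
    obtain ⟨O, -, hwO, huniq⟩ := EtPointClass.exists_open_fibre w
    obtain ⟨y, -⟩ := Scheme.pointSmallEtaleFiberObjToPreimage_surjective ξ rfl (EtPointClass.sub j.1 O)
      ⟨⟨w, hwO⟩, hwx⟩
    refine ⟨⟨(Scheme.pointSmallEtale ξ).fiber.map (EtPointClass.incl j.1 O) y, ?_⟩⟩
    rw [fiber_map_point]
    have e := huniq _ (liftHom ξ y default : (Scheme.Opens.toScheme O)).2
      ((Nbhd.hom_point (⟨EtPointClass.sub j.1 O, y⟩ : Nbhd ξ)).trans hwx.symm)
    exact (show (EtPointClass.incl j.1 O).left (liftHom ξ y default) = w from e).symm ▸ hw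
  obtain ⟨s, hs⟩ := nonempty_sections_of_finite_cofiltered_system Φ
  refine ⟨⟨{ app := fun U => TypeCat.ofHom fun l => (s ⟨U, l⟩).1, naturality := fun {U V} g => ?_ }⟩⟩
  ext l
  exact (congrArg Subtype.val (hs (j := ⟨U, l⟩) (j' := ⟨V, (Scheme.pointSmallEtale ζ).fiber.map g l⟩) ⟨g, rfl⟩)).symm

/-- A generisation in a neighbourhood is reached by a specialisation arrow. -/
theorem exists_specialization_lift {U : X.Etale} {Ω : Type u} [Field Ω] [IsSepClosed Ω]
    (ξ : Spec (CommRingCat.of Ω) ⟶ X) (l : (Scheme.pointSmallEtale ξ).fiber.obj U) (w : U.left)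
    (hw : w ⤳ liftHom ξ l default) :
    ∃ (Ω' : Type u) (_ : Field Ω') (_ : IsAlgClosed Ω') (ζ : Spec (CommRingCat.of Ω') ⟶ X)
      (φ : Scheme.pointSmallEtale ζ ⟶ Scheme.pointSmallEtale ξ), liftHom ζ (φ.hom.app U l) default = w := by
  haveI : AlgebraicGeometry.Etale U.hom := U.prop
  have key : ∀ (ξ' : Spec (CommRingCat.of Ω) ⟶ X) (ξt : Spec (CommRingCat.of Ω) ⟶ U.left), ξ' = ξt ≫ U.hom →
      ∀ l : (Scheme.pointSmallEtale ξ').fiber.obj U, liftHom ξ' l = ξt → w ⤳ ξt default →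
      ∃ (Ω' : Type u) (_ : Field Ω') (_ : IsAlgClosed Ω') (ζ : Spec (CommRingCat.of Ω') ⟶ X)
        (φ : Scheme.pointSmallEtale ζ ⟶ Scheme.pointSmallEtale ξ'), liftHom ζ (φ.hom.app U l) default = w := by
    rintro _ ξt rfl l hl hw
    let ζt := geomPtAlg w
    obtain ⟨φ'⟩ := nonempty_specialization_any (ξ := ζt) (ζ := ξt) (by rw [geomPtAlg_default]; exact hw)
    let φ : Scheme.pointSmallEtale (ζt ≫ U.hom) ⟶ Scheme.pointSmallEtale (ξt ≫ U.hom) :=
      ⟨(fiberIso U.hom ξt).hom ≫ Functor.whiskerLeft (EtCoh.bc U.hom) φ'.hom ≫ (fiberIso U.hom ζt).inv⟩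
    refine ⟨_, inferInstance, inferInstance, ζt ≫ U.hom, φ, ?_⟩
    let d : EtCoh.top U.left ⟶ (EtCoh.bc U.hom).obj U :=
      MorphismProperty.Over.homMk (pullback.lift (𝟙 U.left) (𝟙 U.left) rfl) (pullback.lift_snd _ _ _)
    have h1 : (Scheme.pointSmallEtale ξt).fiber.map d (topLift ξt) = liftBc U.hom ξt U l := by
      refine fiber_bc_ext U.hom ξt ?_
      rw [liftHom_liftBc_fst, liftHom_map, hl, Category.assoc]
      exact (congrArg (ξt ≫ ·) (pullback.lift_fst _ _ _)).trans (Category.comp_id _)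
    have h2 : φ'.hom.app _ (liftBc U.hom ξt U l) = (Scheme.pointSmallEtale ζt).fiber.map d (φ'.hom.app _ (topLift ξt)) := by
      rw [← h1]
      exact NatTrans.naturality_apply φ'.hom d (topLift ξt)
    have h3 : liftHom ζt (φ'.hom.app _ (topLift ξt)) = ζt :=
      (Category.comp_id _).symm.trans (liftHom_comp ζt (φ'.hom.app _ (topLift ξt)))
    show (liftHom ζt (φ'.hom.app _ (liftBc U.hom ξt U l)) ≫ bcFst U.hom U) default = w
    rw [h2, liftHom_map, h3, Category.assoc]
    exact ((congrArg (fun m => (ζt ≫ m) default) (pullback.lift_fst _ _ _)).trans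
      (congrArg (fun m => m default) (Category.comp_id ζt))).trans (geomPtAlg_default w)
  exact key ξ _ (liftHom_comp ξ l).symm l rfl hw

/-- Two sections of a finite locally constant sheaf agree on a closed set. -/
theorem isClosed_agree_of_flc {F : EtCoh.Ab X} (hF : EtCoh.IsFiniteLocallyConstant F) {W : X.Etale}
    (s t : EtCoh.sect F W) : IsClosed (agree F.obj s t) := by
  refine ⟨isOpen_iff_forall_mem_open.2 fun v hv => ?_⟩
  obtain ⟨V, M, θ, hx, -, hθ⟩ := (finiteLocallyConstant_iff F).1 hF (W.hom v)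
  obtain ⟨l, hl⟩ := exists_lift_geomPt v
  obtain ⟨y⟩ := exists_geomPt_lift hx
  obtain ⟨q, a, b, -⟩ := IsCofilteredOrEmpty.cone_objs (C := Nbhd (geomPt (W.hom v))) ⟨W, l⟩ ⟨V, y⟩
  have hθq := hθ.map b.1
  obtain ⟨m, hm⟩ := (hθq _ _ q.2).2 (germ (geomPt (W.hom v)) F q.2 (F.obj.map a.1.op s))
  obtain ⟨m', hm'⟩ := (hθq _ _ q.2).2 (germ (geomPt (W.hom v)) F q.2 (F.obj.map a.1.op t))
  let θ' := θ ≫ F.obj.map b.1.op
  have hne : m ≠ m' := fun e => hv <| by
    subst e
    rw [← hl]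
    refine (germ_eq_iff_mem_agree _ F.obj l s t).1 ?_
    have h := hm.symm.trans hm'
    rw [germ_map, germ_map, a.2] at h
    exact h
  let O : Set q.1.left := agree F.obj (θ' m) (F.obj.map a.1.op s) ∩ agree F.obj (θ' m') (F.obj.map a.1.op t)
  have hqO : q.point ∈ O :=
    ⟨(germ_eq_iff_mem_agree _ F.obj q.2 _ _).1 hm, (germ_eq_iff_mem_agree _ F.obj q.2 _ _).1 hm'⟩
  haveI : AlgebraicGeometry.Etale a.1.left := etale_left _
  refine ⟨a.1.left '' O, ?_, a.1.left.isOpenMap _ ((isOpen_agree _ _ _).inter (isOpen_agree _ _ _)),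
    ⟨q.point, hqO, (Nbhd.map_point a).trans hl⟩⟩
  rintro _ ⟨z, ⟨hz, hz'⟩, rfl⟩ hst
  obtain ⟨k, hk⟩ := exists_lift_geomPt z
  refine hne ((hθq _ _ k).1 ?_)
  have e1 := (germ_eq_iff_mem_agree (geomPt (q.1.hom z)) F.obj k (θ' m) _).2 (hk.symm ▸ hz)
  have e2 := (germ_eq_iff_mem_agree (geomPt (q.1.hom z)) F.obj k (θ' m') _).2 (hk.symm ▸ hz')
  refine e1.trans (Eq.trans ?_ e2.symm)
  show germ _ F k (F.obj.map a.1.op s) = germ _ F k (F.obj.map a.1.op t)
  rw [germ_map, germ_map]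
  refine (germ_eq_iff_mem_agree _ F.obj _ s t).2 ?_
  rw [fiber_map_point, hk]
  exact hst

theorem sheafFiber_germ {Ω Ω' : Type u} [Field Ω] [IsSepClosed Ω] [Field Ω'] [IsSepClosed Ω']
    {ξ : Spec (CommRingCat.of Ω) ⟶ X} {ξ' : Spec (CommRingCat.of Ω') ⟶ X}
    (φ : Scheme.pointSmallEtale ξ' ⟶ Scheme.pointSmallEtale ξ) (F : EtCoh.Ab X) {U : X.Etale}
    (l : (Scheme.pointSmallEtale ξ).fiber.obj U) (s : EtCoh.sect F U) :
    (GrothendieckTopology.Point.Hom.sheafFiber (A := AddCommGrpCat.{u + 1}) φ).app F (germ ξ F l s) =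
      germ ξ' F (φ.hom.app U l) s :=
  ConcreteCategory.congr_hom ((Scheme.pointSmallEtale ξ).toPresheafFiber_presheafFiberDesc
    (fun V y => (Scheme.pointSmallEtale ξ').toPresheafFiber V (φ.hom.app V y) F.obj) (fun V W g y => by
      rw [GrothendieckTopology.Point.toPresheafFiber_w]
      exact congrArg (fun z => (Scheme.pointSmallEtale ξ').toPresheafFiber W z F.obj)
        (NatTrans.naturality_apply φ.hom g y).symm) U l) s

/-- Finite local constancy near the base of a geometric point makes the specialisations bijective. -/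
theorem bijective_sheafFiber_of_flc {F : EtCoh.Ab X} {U : X.Opens}
    (hF : EtCoh.IsFiniteLocallyConstant ((EtCoh.pull U.ι).obj F)) {Ω Ω' : Type u} [Field Ω] [IsSepClosed Ω]
    [Field Ω'] [IsSepClosed Ω'] {ξ : Spec (CommRingCat.of Ω) ⟶ X} (hx : ξ default ∈ U)
    {ξ' : Spec (CommRingCat.of Ω') ⟶ X} (φ : Scheme.pointSmallEtale ξ' ⟶ Scheme.pointSmallEtale ξ) :
    Function.Bijective ((GrothendieckTopology.Point.Hom.sheafFiber (A := AddCommGrpCat.{u + 1}) φ).app F) := by
  obtain ⟨ζ, hζ⟩ := exists_fac_immersion U.ι ξ (by rw [Scheme.Opens.range_ι]; exact hx)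
  obtain ⟨n, N, hN, hζN, hn⟩ := flc_card hF (ζ default)
  let N' : X.Opens := ⟨U.ι '' N, U.ι.isOpenEmbedding.isOpenMap N hN⟩
  have hξN : ξ default ∈ N' := ⟨_, hζN, by rw [← Scheme.Hom.comp_apply, hζ]⟩
  have hcard : ∀ {Ω'' : Type u} [Field Ω''] [IsSepClosed Ω''] (η : Spec (CommRingCat.of Ω'') ⟶ X), η default ∈ N' →
      Finite ((EtCoh.stalk η).obj F) ∧ Nat.card ((EtCoh.stalk η).obj F) = n := by
    intro Ω'' _ _ η hη
    obtain ⟨z, hzN, hz⟩ := hη
    obtain ⟨η', rfl⟩ := exists_fac_immersion U.ι η ⟨z, hz⟩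
    have e : η' default = z := U.ι.isOpenEmbedding.injective ((Scheme.Hom.comp_apply _ _ _).symm.trans hz.symm)
    obtain ⟨h1, h2⟩ := hn Ω'' η' (e ▸ hzN)
    let i := ((stalkPullIso U.ι η').app F).addCommGroupIsoToAddEquiv.toEquiv
    haveI : Finite ((EtCoh.stalk η').obj ((EtCoh.pull U.ι).obj F)) := h1
    haveI : Finite ((EtCoh.pull U.ι ⋙ EtCoh.stalk η').obj F) := h1
    exact ⟨Finite.of_equiv _ i, (Nat.card_congr i).symm.trans h2⟩
  obtain ⟨lN⟩ : Nonempty ((Scheme.pointSmallEtale ξ).fiber.obj (EtDesc.ofOpen N')) := by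
    obtain ⟨ρ, hρ⟩ := exists_fac_immersion N'.ι ξ (by rw [Scheme.Opens.range_ι]; exact hξN)
    exact ⟨Over.homMk ρ hρ⟩
  haveI := (hcard ξ hξN).1
  obtain ⟨q, k, σ, -, hσ⟩ := exists_sigma F (⟨_, lN⟩ : Nbhd ξ)
  let l' := φ.hom.app q.1 q.2
  have hqN : ∀ v : q.1.left, q.1.hom v ∈ N' := fun v => by
    have h := (congrArg (fun m : q.1.left ⟶ X => m v) (MorphismProperty.Over.w k.1)).symm
    have h' : q.1.hom v = N'.ι (k.1.left v) := h.trans (Scheme.Hom.comp_apply _ _ _)
    rw [h']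
    exact (k.1.left v).2
  have hξ' : ξ' default ∈ N' := (Nbhd.hom_point (⟨q.1, l'⟩ : Nbhd ξ')) ▸ hqN _
  obtain ⟨hfin', hcard'⟩ := hcard ξ' hξ'
  have hw : liftHom ξ' l' default ⤳ liftHom ξ' l' default := specializes_rfl
  have hinj : Function.Injective fun e => germ ξ' F l' (σ e) := fun e e' he => by
    have hag := (germ_eq_iff_mem_agree ξ' F.obj l' _ _).1 he
    rw [← hσ e, ← hσ e']
    refine (germ_eq_iff_mem_agree ξ F.obj q.2 _ _).2 ?_
    -- the location of the specialised lift generises the point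
    have hgen : liftHom ξ' l' default ⤳ q.point := by
      refine specializes_iff_forall_open.2 fun O hO hqO => ?_
      obtain ⟨y, hy⟩ := exists_fiber_map_eq ξ (EtPointClass.incl q.1 ⟨O, hO⟩) q.2 ⟨q.point, hqO⟩ rfl
      have e2 : (Scheme.pointSmallEtale ξ').fiber.map (EtPointClass.incl q.1 ⟨O, hO⟩) (φ.hom.app _ y) = l' :=
        (NatTrans.naturality_apply φ.hom (EtPointClass.incl q.1 ⟨O, hO⟩) y).symm.trans (congrArg _ hy)
      rw [← e2, fiber_map_point]
      exact (liftHom ξ' (φ.hom.app _ y) default : Scheme.Opens.toScheme (⟨O, hO⟩ : q.1.left.Opens)).2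
    let β : ((EtCoh.bc U.ι).obj q.1).left ⟶ q.1.left := bcFst U.ι q.1
    haveI : IsOpenImmersion β := (inferInstance : IsOpenImmersion (pullback.fst q.1.hom U.ι))
    let cl := agree ((EtCoh.pull U.ι).obj F).obj
      (((EtCoh.pullPushAdj U.ι).unit.app F).hom.app (op q.1) (σ e))
      (((EtCoh.pullPushAdj U.ι).unit.app F).hom.app (op q.1) (σ e'))
    have hiff : ∀ z, z ∈ cl ↔ β z ∈ agree F.obj (σ e) (σ e') := fun z => by
      obtain ⟨m, hm⟩ := exists_lift_geomPt (U := (EtCoh.bc U.ι).obj q.1) z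
      let η := geomPt (((EtCoh.bc U.ι).obj q.1).hom z)
      let m' := (fiberIso U.ι η).inv.app q.1 m
      have hm' : liftBc U.ι η q.1 m' = m := fiber_bc_ext U.ι η (liftHom_liftBc_fst U.ι η q.1 m')
      have hp : liftHom (η ≫ U.ι) m' default = β z := by
        show (liftHom η m ≫ bcFst U.ι q.1) default = _
        rw [Scheme.Hom.comp_apply, hm]
      have h := germ_unit_eq_iff U.ι η F m m' hm' (σ e) (σ e')
      rw [germ_eq_iff_mem_agree, germ_eq_iff_mem_agree, hp, hm] at h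
      exact h
    have hrange : ∀ v : q.1.left, v ∈ Set.range β := fun v => by
      show v ∈ Set.range (pullback.fst q.1.hom U.ι)
      rw [Scheme.Pullback.range_fst, Scheme.Opens.range_ι]
      obtain ⟨z, -, hz⟩ := hqN v
      show q.1.hom v ∈ U
      rw [← hz]
      exact z.2
    obtain ⟨wt, hwt⟩ := hrange (liftHom ξ' l' default)
    obtain ⟨pt, hpt⟩ := hrange q.point
    have hsp : wt ⤳ pt := by
      rw [← β.isOpenEmbedding.isEmbedding.isInducing.specializes_iff, hwt, hpt]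
      exact hgen
    have := hsp.mem_closed (isClosed_agree_of_flc hF _ _) ((hiff wt).2 (hwt ▸ hag))
    have h' := (hiff pt).1 this
    rw [hpt] at h'
    exact h'
  have hb := hinj.bijective_of_nat_card_le (hcard'.trans (hcard ξ hξN).2.symm).le
  have e : ⇑((GrothendieckTopology.Point.Hom.sheafFiber (A := AddCommGrpCat.{u + 1}) φ).app F) =
      fun e => germ ξ' F l' (σ e) := funext fun e => by
    conv_lhs => rw [← hσ e]
    exact sheafFiber_germ φ F q.2 (σ e)
  rw [e]
  exact hb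

/-- A constructible sheaf with bijective specialisations into a point is locally constant near it. -/
theorem exists_good_cover {F : EtCoh.Ab X} (hF : EtPBC.IsConstructible F) {Ω : Type u} [Field Ω] [IsSepClosed Ω]
    (ξ : Spec (CommRingCat.of Ω) ⟶ X)
    (h : ∀ (Ω' : Type u) [Field Ω'] [IsSepClosed Ω'] (ξ' : Spec (CommRingCat.of Ω') ⟶ X)
      (φ : Scheme.pointSmallEtale ξ' ⟶ Scheme.pointSmallEtale ξ),
      Function.Bijective ((GrothendieckTopology.Point.Hom.sheafFiber (A := AddCommGrpCat.{u + 1}) φ).app F)) :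
    ∃ (V : X.Etale) (M : AddCommGrpCat.{u + 1}) (θ : M ⟶ F.obj.obj (op V)),
      ξ default ∈ Set.range V.hom ∧ Finite M ∧ ∀ v, GoodPt F V θ v := by
  obtain ⟨q, -, M, θ, hq, hM, hgood⟩ := exists_goodPt hF (⟨EtCoh.top X, topLift ξ⟩ : Nbhd ξ)
  haveI := hq
  haveI := hM
  let G : Set q.1.left := {v | GoodPt F q.1 θ v}
  have hgen : ∀ w, w ⤳ q.point → w ∈ G := fun w hw => by
    obtain ⟨Ω', _, _, ζ, φ, hloc⟩ := exists_specialization_lift ξ q.2 w hw
    refine goodPt_of_one (φ.hom.app q.1 q.2) hloc ?_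
    have e : (fun m : M => germ ζ F (φ.hom.app q.1 q.2) (θ m)) =
        (GrothendieckTopology.Point.Hom.sheafFiber (A := AddCommGrpCat.{u + 1}) φ).app F ∘
          fun m : M => germ ξ F q.2 (θ m) := funext fun m => (sheafFiber_germ φ F q.2 (θ m)).symm
    rw [e]
    exact (h Ω' ζ φ).comp (GoodPt.bijective q.2 hgood)
  have hcl : q.point ∉ closure Gᶜ := fun hc => by
    obtain ⟨e, he, hes⟩ := SpectralLib.exists_specializes_of_mem_closure
      (SpectralLib.isClopen_C_of_isConstructible (isConstructible_good hF q.1 θ).compl).1 hc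
    exact he (hgen e hes)
  let O : q.1.left.Opens := ⟨(closure Gᶜ)ᶜ, isClosed_closure.isOpen_compl⟩
  exact ⟨EtPointClass.sub q.1 O, M, θ ≫ F.obj.map (EtPointClass.incl q.1 O).op,
    ⟨(⟨q.point, hcl⟩ : Scheme.Opens.toScheme O), q.hom_point⟩, hM, fun v => GoodPt.map _ (by
      by_contra hb
      exact (v : Scheme.Opens.toScheme O).2 (subset_closure hb))⟩

/-- A constructible sheaf with bijective specialisations into a point is locally constant near it. -/
theorem exists_open_flc {F : EtCoh.Ab X} (hF : EtPBC.IsConstructible F) {Ω : Type u} [Field Ω] [IsSepClosed Ω]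
    (ξ : Spec (CommRingCat.of Ω) ⟶ X)
    (h : ∀ (Ω' : Type u) [Field Ω'] [IsSepClosed Ω'] (ξ' : Spec (CommRingCat.of Ω') ⟶ X)
      (φ : Scheme.pointSmallEtale ξ' ⟶ Scheme.pointSmallEtale ξ),
      Function.Bijective ((GrothendieckTopology.Point.Hom.sheafFiber (A := AddCommGrpCat.{u + 1}) φ).app F)) :
    ∃ U : X.Opens, ξ default ∈ U ∧ EtCoh.IsFiniteLocallyConstant ((EtCoh.pull U.ι).obj F) := by
  obtain ⟨V, M, θ, hx, hM, hgood⟩ := exists_good_cover hF ξ h
  haveI : AlgebraicGeometry.Etale V.hom := V.prop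
  haveI := hM
  refine ⟨⟨Set.range V.hom, V.hom.isOpenMap.isOpen_range⟩, hx, (finiteLocallyConstant_iff _).2 ?_⟩
  exact locConst_pull_of_good _ (U := V) (θ := θ) (fun v _ => hgood v) fun t => t.2

end Groth.Agent.FLCLib
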