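import Groth.Agent.FLCLib.Hom
import Groth.Agent.FLCLib.AlgCrit
import Groth.Agent.EtPtsLib.FiniteStalk
import Groth.Agent.S9559
import Groth.Agent.EtPointClass.Fibre
import Groth.Prelude.Def_EtShriek2
/-!
Direct images of finite locally constant sheaves along finite étale morphisms.
-/

set_option autoImplicit false
set_option backward.isDefEq.respectTransparency false
set_option backward.isDefEq.respectTransparency.types false

universe u

open CategoryTheory CategoryTheory.Limits AlgebraicGeometry Opposite GrothendieckTopology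

namespace Groth.Agent.FLCLib

open EtPtsLib

section FibreBij

variable {X Y : Scheme.{u}} (f : X ⟶ Y) [IsFinite f] {Ω : Type u} [Field Ω] [IsAlgClosed Ω]
  (ξ : Spec (CommRingCat.of Ω) ⟶ Y) (F : EtCoh.Ab X)

/-- The germs of a direct image over the points of the fibre. -/
noncomputable def pushFamily (b : (EtCoh.stalk ξ).obj ((EtCoh.push f).obj F)) (ζ : EtaleSplit.GPts f ξ) :
    (EtCoh.stalk ζ.1).obj F :=
  pushStalkAt f ξ ζ F.obj b

theorem bijective_pushFamily : Function.Bijective (pushFamily f ξ F) := by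
  haveI : Finite (EtaleSplit.GPts f ξ) := finite_gpts f ξ
  have hP : Presieve.IsSheaf X.smallEtaleTopology (F.obj ⋙ forget AddCommGrpCat.{u + 1}) :=
    (Presheaf.isSheaf_iff_isSheaf_forget _ _ (forget AddCommGrpCat.{u + 1})).1 F.property |> (isSheaf_iff_isSheaf_of_type _ _).1
  refine ⟨fun a b e => stalk_ext f ξ F.obj hP fun ζ => congrFun e ζ, fun a => ?_⟩
  obtain ⟨b, hb⟩ := (bijective_fibreProd f ξ F.obj hP).2 ((Concrete.productEquiv _).symm a)
  refine ⟨b, funext fun ζ => ?_⟩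
  have h := congrArg (fun c => Concrete.productEquiv _ c ζ) hb
  simp only [Equiv.apply_symm_apply, Concrete.productEquiv_apply_apply] at h
  rw [← ConcreteCategory.comp_apply] at h
  exact (congrArg (fun m => m b) (Pi.lift_π (fun ζ => pushStalkAt f ξ ζ F.obj) ζ)).symm.trans (h.trans (Concrete.productEquiv_symm_apply_π (fun ζ : EtaleSplit.GPts f ξ => (Scheme.pointSmallEtale ζ.1).presheafFiber.obj F.obj) a ζ))

theorem pushFamily_germ (U : Y.Etale) (l : (Scheme.pointSmallEtale ξ).fiber.obj U)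
    (s : EtCoh.sect ((EtCoh.push f).obj F) U) (ζ : EtaleSplit.GPts f ξ) :
    pushFamily f ξ F (germ ξ ((EtCoh.push f).obj F) l s) ζ = germ ζ.1 F (liftBcAt f ξ ζ U l) s :=
  pushStalkAt_germ f ξ ζ F.obj U l s

end FibreBij

theorem locConst_push {X Y : Scheme.{u}} (f : X ⟶ Y) [IsFinite f] [AlgebraicGeometry.Etale f] {F : EtCoh.Ab X}
    (hF : LocConst (fun M => Finite M) F) : LocConst (fun M => Finite M) ((EtCoh.push f).obj F) := fun y => by
  obtain ⟨U, g, hg, u, hu, n, V, c, hc, e, he⟩ := S9559.result f y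
  haveI := hg
  haveI := hc
  let UY : Y.Etale := Scheme.Etale.mk g
  -- the sections
  let t : ∀ j, U ⟶ ((EtCoh.bc f).obj UY).left := fun j =>
    inv (c j) ≫ Limits.Sigma.ι V j ≫ e.hom ≫ (pullbackSymmetry f g).hom
  have ht : ∀ j, t j ≫ pullback.fst g f = 𝟙 U := fun j => by
    have := he j
    simp only [t, Category.assoc, pullbackSymmetry_hom_comp_fst]
    rw [IsIso.inv_comp_eq, this, Category.comp_id]
  let a : ∀ j, U ⟶ X := fun j => t j ≫ pullback.snd g f
  have ha : ∀ j, a j ≫ f = g := fun j => by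
    show (t j ≫ pullback.snd g f) ≫ f = g
    rw [Category.assoc, ← pullback.condition, ← Category.assoc, ht, Category.id_comp]
  haveI : ∀ j, AlgebraicGeometry.Etale (a j) := fun j => by
    haveI : AlgebraicGeometry.Etale (a j ≫ f) := (ha j).symm ▸ hg
    exact AlgebraicGeometry.Etale.of_comp (a j) f
  -- the points
  let pt' : ∀ (j : Fin n) {Ω : Type u} [Field Ω] (ξ : Spec (CommRingCat.of Ω) ⟶ Y) (q : Spec (CommRingCat.of Ω) ⟶ U),
      q ≫ g = ξ → EtaleSplit.GPts f ξ := fun j Ω _ ξ q hq => ⟨q ≫ a j, by rw [Category.assoc, ha, hq]⟩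
  have hbij : ∀ {Ω : Type u} [Field Ω] (ξ : Spec (CommRingCat.of Ω) ⟶ Y) (q : Spec (CommRingCat.of Ω) ⟶ U)
      (hq : q ≫ g = ξ), Function.Bijective fun j => pt' j ξ q hq := by
    intro Ω _ ξ q hq
    constructor
    · intro i j hij
      have h : q ≫ t i = q ≫ t j := pullback.hom_ext
        (((Category.assoc _ _ _).trans (congrArg (q ≫ ·) (ht i))).trans
          ((Category.assoc _ _ _).trans (congrArg (q ≫ ·) (ht j))).symm)
        ((Category.assoc _ _ _).trans ((congrArg Subtype.val hij).trans (Category.assoc _ _ _).symm))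
      simp only [t] at h
      rw [← cancel_mono ((e ≪≫ pullbackSymmetry f g).inv)] at h
      simp at h
      have hd := congrArg (fun m => m default) h
      simp only [Scheme.Hom.comp_apply] at hd
      by_contra hne
      exact Set.disjoint_left.1 (TopologicalSpace.Opens.coe_disjoint.2 (disjoint_opensRange_sigmaι V i j hne))
        ⟨_, rfl⟩ ⟨_, hd.symm⟩
    · intro ζ
      let w : Spec (CommRingCat.of Ω) ⟶ ∐ V := pullback.lift ζ.1 q (ζ.2.trans hq.symm) ≫ e.inv
      obtain ⟨j, z, hz⟩ := (sigmaOpenCover V).exists_eq (w default)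
      let z' : Spec (CommRingCat.of Ω) ⟶ V j := IsOpenImmersion.lift (Limits.Sigma.ι V j) w (by
        rintro _ ⟨p, rfl⟩
        rw [Subsingleton.elim (α := ↥(Spec (CommRingCat.of Ω))) p default]
        exact ⟨z, hz⟩)
      have hz' : z' ≫ Limits.Sigma.ι V j = w := IsOpenImmersion.lift_fac _ _ _
      have hcq : z' ≫ c j = q := by
        rw [← he j, reassoc_of% hz']
        simp [w]
      refine ⟨j, Subtype.ext ?_⟩
      show q ≫ a j = ζ.1
      have h1 : q ≫ inv (c j) = z' := by rw [← hcq, Category.assoc, IsIso.hom_inv_id, Category.comp_id]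
      simp only [a, t, Category.assoc, pullbackSymmetry_hom_comp_snd]
      rw [reassoc_of% h1, reassoc_of% hz']
      simp [w]
  -- the base point
  obtain ⟨l₀, hl₀⟩ := exists_lift_geomPtAlg (U := UY) u
  let η := geomPtAlg (UY.hom u)
  let p₀ : Nbhd η := ⟨UY, l₀⟩
  have hη : η default = y := (geomPtAlg_default _).trans hu
  -- constant pieces near the points
  choose W M θ hW hM hθ using fun j => hF ((pt' j η (liftHom η l₀) (liftHom_comp η l₀)).1 default)
  choose lW hlW using fun j => Scheme.pointSmallEtaleFiberObjToPreimage_surjective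
    (pt' j η (liftHom η l₀) (liftHom_comp η l₀)).1 rfl (W j) ⟨(hW j).choose, (hW j).choose_spec⟩
  let UX : Fin n → X.Etale := fun j => Scheme.Etale.mk (a j)
  let lX : ∀ j, Nbhd (pt' j η (liftHom η l₀) (liftHom_comp η l₀)).1 := fun j =>
    ⟨UX j, Over.homMk (liftHom η l₀) rfl⟩
  choose r g₁ g₂ _hr using fun j => IsCofilteredOrEmpty.cone_objs (lX j)
    (⟨W j, lW j⟩ : Nbhd (pt' j η (liftHom η l₀) (liftHom_comp η l₀)).1)
  let R : Fin n → Nbhd η := fun j => ⟨(EtShriek.compEtale f).obj (r j).1,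
    Over.homMk (liftHom (pt' j η (liftHom η l₀) (liftHom_comp η l₀)).1 (r j).2) (by
      show liftHom (pt' j η (liftHom η l₀) (liftHom_comp η l₀)).1 (r j).2 ≫ (r j).1.hom ≫ f = η
      rw [← Category.assoc]
      exact (congrArg (· ≫ f) (liftHom_comp _ (r j).2)).trans (pt' j η (liftHom η l₀) (liftHom_comp η l₀)).2)⟩
  let k : ∀ j, R j ⟶ p₀ := fun j => ⟨MorphismProperty.Over.homMk (g₁ j).1.left (by
      show (g₁ j).1.left ≫ g = (r j).1.hom ≫ f
      have := MorphismProperty.Over.w (g₁ j).1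
      rw [← this, Category.assoc]
      exact congrArg ((g₁ j).1.left ≫ ·) (ha j).symm), by
    refine Over.OverMorphism.ext ?_
    have := congrArg (fun l => liftHom _ l) (g₁ j).2
    exact (liftHom_map _ _ _).trans ((liftHom_map _ (g₁ j).1 (r j).2).symm.trans this)⟩
  let G := (EtCoh.push f).obj F
  haveI : Finite ((EtCoh.stalk η).obj G) := by
    haveI : Finite (EtaleSplit.GPts f η) := finite_gpts f η
    haveI : ∀ ζ : EtaleSplit.GPts f η, Finite ((EtCoh.stalk ζ.1).obj F) := fun ζ => by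
      obtain ⟨U', M', θ', ⟨v, hv⟩, hM', hθ'⟩ := hF (ζ.1 default)
      obtain ⟨l, -⟩ := Scheme.pointSmallEtaleFiberObjToPreimage_surjective ζ.1 rfl U' ⟨v, hv⟩
      haveI : Finite M' := hM'
      exact Finite.of_equiv M' (Equiv.ofBijective _ (hθ' _ ζ.1 l))
    exact Finite.of_injective _ (bijective_pushFamily f η F).1
  obtain ⟨p₁, k₁, t₁, ht₁⟩ := exists_forall_germ_eq G p₀ (id : (EtCoh.stalk η).obj G → (EtCoh.stalk η).obj G)
  obtain ⟨p₂, k₂, h2⟩ := exists_forall_map_eq G p₁ (fun a : (EtCoh.stalk η).obj G × (EtCoh.stalk η).obj G => t₁ (a.1 + a.2))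
    (fun a => t₁ a.1 + t₁ a.2) fun a => (ht₁ _).trans (Eq.trans (congrArg₂ (· + ·) (ht₁ a.1) (ht₁ a.2)).symm
      (map_add ((Scheme.pointSmallEtale η).toPresheafFiber p₁.1 p₁.2 G.obj).hom (t₁ a.1) (t₁ a.2)).symm)
  let σ₂ : (EtCoh.stalk η).obj G ⟶ G.obj.obj (op p₂.1) := AddCommGrpCat.ofHom (AddMonoidHom.mk'
    (fun e => G.obj.map k₂.1.op (t₁ e)) fun a b => (h2 (a, b)).trans (map_add (G.obj.map k₂.1.op).hom _ _))
  have hq : ∀ S : Finset (Fin n), ∃ (q : Nbhd η) (_ : q ⟶ p₂) (m : q ⟶ p₀), ∀ j ∈ S, ∃ m' : q ⟶ R j, m' ≫ k j = m := by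
    intro S
    induction S using Finset.induction with
    | empty => exact ⟨p₂, 𝟙 _, k₂ ≫ k₁, fun j hj => absurd hj (Finset.notMem_empty j)⟩
    | insert j S _ ih =>
      obtain ⟨q, m₂, m, hm⟩ := ih
      obtain ⟨q', v, v', hv⟩ := IsCofiltered.cospan m (k j)
      refine ⟨q', v ≫ m₂, v ≫ m, fun i hi => ?_⟩
      rcases Finset.mem_insert.1 hi with rfl | hi
      · exact ⟨v', hv.symm⟩
      · obtain ⟨m', hm'⟩ := hm i hi
        exact ⟨v ≫ m', by rw [Category.assoc, hm']⟩
  obtain ⟨q, m₂, m, hm⟩ := hq Finset.univ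
  choose m' hm' using fun j => hm j (Finset.mem_univ j)
  let σ := σ₂ ≫ G.obj.map m₂.1.op
  have hσ : ∀ e, germ η G q.2 (σ e) = e := fun e => by
    show germ η G q.2 (G.obj.map m₂.1.op (G.obj.map k₂.1.op (t₁ e))) = e
    rw [germ_map, m₂.2, germ_map, k₂.2]
    exact ht₁ e
  let b : ∀ j, q.1.left ⟶ X := fun j => m.1.left ≫ a j
  haveI := etale_left m.1
  haveI : ∀ j, AlgebraicGeometry.Etale (b j) := fun j => by
    show AlgebraicGeometry.Etale (m.1.left ≫ a j); infer_instance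
  let Q : Fin n → X.Etale := fun j => Scheme.Etale.mk (b j)
  let kW : ∀ j, Q j ⟶ W j := fun j => MorphismProperty.Over.homMk (m' j).1.left (by
    show (m' j).1.left ≫ (r j).1.hom = m.1.left ≫ a j
    rw [← hm' j, ← MorphismProperty.Over.w (g₁ j).1]
    exact (Category.assoc _ _ _).symm) ≫ (g₂ j).1
  have hbf : ∀ j, b j ≫ f = q.1.hom := fun j => by
    show (m.1.left ≫ a j) ≫ f = q.1.hom
    rw [Category.assoc, ha, ← MorphismProperty.Over.w m.1]
    rfl
  let T : ∀ j, Q j ⟶ (EtCoh.bc f).obj q.1 := fun j => MorphismProperty.Over.homMk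
    (pullback.lift (𝟙 _) (b j) (by rw [Category.id_comp]; exact (hbf j).symm)) (pullback.lift_snd _ _ _)
  let θ' : ∀ j, M j ⟶ F.obj.obj (op (Q j)) := fun j => θ j ≫ F.obj.map (kW j).op
  -- points over a lift
  let ζ : ∀ (j : Fin n) {Ω : Type u} [Field Ω] [IsSepClosed Ω] (ξ : Spec (CommRingCat.of Ω) ⟶ Y),
      (Scheme.pointSmallEtale ξ).fiber.obj q.1 → EtaleSplit.GPts f ξ := fun j Ω _ _ ξ l => pt' j ξ (liftHom ξ l ≫ m.1.left) (by
        rw [Category.assoc]
        exact (congrArg (liftHom ξ l ≫ ·) (MorphismProperty.Over.w m.1)).trans (liftHom_comp ξ l))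
  let z : ∀ (j : Fin n) {Ω : Type u} [Field Ω] [IsSepClosed Ω] (ξ : Spec (CommRingCat.of Ω) ⟶ Y)
      (l : (Scheme.pointSmallEtale ξ).fiber.obj q.1), (Scheme.pointSmallEtale (ζ j ξ l).1).fiber.obj (Q j) :=
    fun j Ω _ _ ξ l => Over.homMk (liftHom ξ l) (Category.assoc _ _ _).symm
  have hz : ∀ (j : Fin n) {Ω : Type u} [Field Ω] [IsAlgClosed Ω] (ξ : Spec (CommRingCat.of Ω) ⟶ Y)
      (l : (Scheme.pointSmallEtale ξ).fiber.obj q.1),
      (Scheme.pointSmallEtale (ζ j ξ l).1).fiber.map (T j) (z j ξ l) = liftBcAt f ξ (ζ j ξ l) q.1 l := by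
    intro j Ω _ _ ξ l
    refine fiber_bc_ext f _ ?_
    rw [liftHom_map, Category.assoc, liftHom_liftBcAt_fst]
    exact (congrArg (liftHom ξ l ≫ ·) (pullback.lift_fst _ _ _)).trans (Category.comp_id _)
  -- the stalk in coordinates
  let coord : ∀ {Ω : Type u} [Field Ω] [IsAlgClosed Ω] (ξ : Spec (CommRingCat.of Ω) ⟶ Y)
      (l : (Scheme.pointSmallEtale ξ).fiber.obj q.1), (EtCoh.stalk ξ).obj G → ∀ j, M j := fun ξ l x j =>
    (Equiv.ofBijective _ ((hθ j).map (kW j) _ (ζ j ξ l).1 (z j ξ l))).symm (pushFamily f ξ F x (ζ j ξ l))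
  have hcoord : ∀ {Ω : Type u} [Field Ω] [IsAlgClosed Ω] (ξ : Spec (CommRingCat.of Ω) ⟶ Y)
      (l : (Scheme.pointSmallEtale ξ).fiber.obj q.1), Function.Bijective (coord ξ l) := by
    intro Ω _ _ ξ l
    let en := Equiv.ofBijective _ (hbij ξ (liftHom ξ l ≫ m.1.left) (by
      rw [Category.assoc]
      exact (congrArg (liftHom ξ l ≫ ·) (MorphismProperty.Over.w m.1)).trans (liftHom_comp ξ l)))
    exact (((Equiv.piCongrLeft' _ en.symm).trans (Equiv.piCongrRight fun j =>
      (Equiv.ofBijective _ ((hθ j).map (kW j) _ (ζ j ξ l).1 (z j ξ l))).symm)).bijective).comp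
      (bijective_pushFamily f ξ F)
  haveI : ∀ j, Finite (M j) := hM
  let h : (EtCoh.stalk η).obj G → ∀ j, M j := coord η q.2
  -- where the sections are as at the point
  let s₁ : ∀ j, (EtCoh.stalk η).obj G → EtCoh.sect F (Q j) := fun j e => F.obj.map (T j).op (σ e)
  let O : Set q.1.left := ⋂ (j : Fin n), ⋂ (e : (EtCoh.stalk η).obj G), agree F.obj (s₁ j e) (θ' j (h e j))
  have hO : IsOpen O := isOpen_iInter_of_finite fun j => isOpen_iInter_of_finite fun e => isOpen_agree F.obj _ _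
  have hval : ∀ (j : Fin n) {Ω : Type u} [Field Ω] [IsAlgClosed Ω] (ξ : Spec (CommRingCat.of Ω) ⟶ Y)
      (l : (Scheme.pointSmallEtale ξ).fiber.obj q.1) (e : (EtCoh.stalk η).obj G),
      germ (ζ j ξ l).1 F (z j ξ l) (s₁ j e) = pushFamily f ξ F (germ ξ G l (σ e)) (ζ j ξ l) := by
    intro j Ω _ _ ξ l e
    rw [pushFamily_germ]
    exact (germ_map _ F (T j) _ _).trans (congrArg (fun w => germ (ζ j ξ l).1 F w (σ e)) (hz j ξ l))
  have hq0 : liftHom η q.2 default ∈ O := Set.mem_iInter.2 fun j => Set.mem_iInter.2 fun e => by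
    refine (germ_eq_iff_mem_agree (ζ j η q.2).1 F.obj (z j η q.2) _ _).1 ?_
    refine (hval j η q.2 e).trans ?_
    rw [hσ]
    exact ((Equiv.ofBijective _ ((hθ j).map (kW j) _ (ζ j η q.2).1 (z j η q.2))).apply_symm_apply _).symm
  have hc : IsConstOnAlg G (EtPointClass.sub q.1 ⟨O, hO⟩) (σ ≫ G.obj.map (EtPointClass.incl q.1 ⟨O, hO⟩).op) := fun Ω _ _ ξ l' => by
    let l := (Scheme.pointSmallEtale ξ).fiber.map (EtPointClass.incl q.1 ⟨O, hO⟩) l'
    have hl : liftHom ξ l default ∈ O := by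
      refine (congrArg (fun w => w default) (liftHom_map ξ (EtPointClass.incl q.1 ⟨O, hO⟩) l')).symm ▸ ?_
      exact (liftHom ξ l' default : Scheme.Opens.toScheme ⟨O, hO⟩).2
    have key : ∀ e, coord ξ l (germ ξ G l (σ e)) = h e := fun e => funext fun j => by
      refine (Equiv.symm_apply_eq _).2 ?_
      refine (hval j ξ l e).symm.trans ?_
      exact (germ_eq_iff_mem_agree (ζ j ξ l).1 F.obj (z j ξ l) _ _).2 (Set.mem_iInter.1 (Set.mem_iInter.1 hl j) e)
    have e1 : (fun e => germ ξ G l' ((σ ≫ G.obj.map (EtPointClass.incl q.1 ⟨O, hO⟩).op) e)) =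
        fun e => germ ξ G l (σ e) := funext fun e => germ_map ξ G _ l' (σ e)
    rw [e1]
    refine (Function.Bijective.of_comp_iff' (hcoord ξ l) _).1 ?_
    have : coord ξ l ∘ (fun e => germ ξ G l (σ e)) = h := funext key
    rw [this]
    exact hcoord η q.2
  obtain ⟨θ₀, hθ₀⟩ := IsConstOnAlg.exists_isConstOn G _ _ hc
  exact ⟨_, _, θ₀, ⟨⟨liftHom η q.2 default, hq0⟩, (show (EtPointClass.sub q.1 ⟨O, hO⟩).hom ⟨liftHom η q.2 default, hq0⟩ = y from ((Scheme.Hom.comp_apply (liftHom η q.2) q.1.hom default).symm.trans (congrArg (fun w : Spec _ ⟶ Y => w default) (liftHom_comp η q.2))).trans hη)⟩, inferInstance, hθ₀⟩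

end Groth.Agent.FLCLib
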