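import Groth.Agent.FLCLib.Colim
import Groth.Agent.S0138
/-!
Sections over affines commute with filtered colimits, and constructible sheaves are compact.
-/

set_option autoImplicit false
set_option backward.isDefEq.respectTransparency false

universe v v' u

open CategoryTheory CategoryTheory.Limits AlgebraicGeometry Opposite Topology

namespace Groth.Agent.FLCLib

open EtPtsLib

theorem exists_common {J : Type v} [Category.{v'} J] [IsFiltered J] {ι : Type*} (s : Finset ι) {j : J} (k : ι → J)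
    (f : ∀ i, j ⟶ k i) :
    ∃ (K : J) (T : j ⟶ K) (g : ∀ i ∈ s, k i ⟶ K), ∀ i (hi : i ∈ s), f i ≫ g i hi = T := by
  classical
  induction s using Finset.induction with
  | empty => exact ⟨j, 𝟙 j, fun i hi => absurd hi (Finset.notMem_empty i), fun i hi => absurd hi (Finset.notMem_empty i)⟩
  | @insert a s ha ih =>
    obtain ⟨K, T, g, hg⟩ := ih
    obtain ⟨K', p, q, hpq⟩ := IsFilteredOrEmpty.cocone_objs K (k a)
    let K'' := IsFiltered.coeq (T ≫ p) (f a ≫ q)
    let c := IsFiltered.coeqHom (T ≫ p) (f a ≫ q)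
    refine ⟨K'', T ≫ p ≫ c, fun i hi =>
      if h : i = a then eqToHom (congrArg k h) ≫ q ≫ c
      else g i ((Finset.mem_insert.1 hi).resolve_left h) ≫ p ≫ c, fun i hi => ?_⟩
    by_cases h : i = a
    · subst h
      dsimp only
      rw [dif_pos rfl, eqToHom_refl, Category.id_comp]
      exact (Category.assoc _ _ _).symm.trans ((IsFiltered.coeq_condition (T ≫ p) (f i ≫ q)).symm.trans (Category.assoc _ _ _))
    · dsimp only
      rw [dif_neg h, ← Category.assoc, hg]

variable {X : Scheme.{u}} {J : Type v} [Category.{v'} J] [IsFiltered J]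
  [PreservesColimitsOfShape J (forget AddCommGrpCat.{u + 1})]
  {D : J ⥤ EtCoh.Ab X} {c : Cocone D} (hc : IsColimit c)

include hc

theorem exists_sect_zero (U : X.Etale) [CompactSpace U.left] (j : J) (s : EtCoh.sect (D.obj j) U)
    (hs : (c.ι.app j).hom.app (op U) s = 0) :
    ∃ (k : J) (f : j ⟶ k), (D.map f).hom.app (op U) s = 0 := by
  have key : ∀ v : U.left, ∃ (k : J) (f : j ⟶ k), v ∈ agree (D.obj k).obj ((D.map f).hom.app (op U) s) 0 := by
    intro v
    obtain ⟨l, hl⟩ := exists_lift_geomPt v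
    have h0 : (EtCoh.stalk (geomPt (U.hom v))).map (c.ι.app j) (germ (geomPt (U.hom v)) (D.obj j) l s) = 0 := by
      rw [germ_app, hs]
      exact map_zero _
    obtain ⟨k, f, hf⟩ := exists_stalk_zero hc (geomPt (U.hom v)) j _ h0
    rw [germ_app] at hf
    refine ⟨k, f, hl ▸ (germ_eq_iff_mem_agree (geomPt (U.hom v)) (D.obj k).obj l _ _).1 ?_⟩
    exact hf.trans (map_zero _).symm
  choose k f hv using key
  obtain ⟨S, hS⟩ := isCompact_univ.elim_finite_subcover
    (fun v : U.left => agree (D.obj (k v)).obj ((D.map (f v)).hom.app (op U) s) 0)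
    (fun v => isOpen_agree _ _ _) fun v _ => Set.mem_iUnion.2 ⟨v, hv v⟩
  obtain ⟨K, T, g, hg⟩ := exists_common S k f
  refine ⟨K, T, sect_ext _ U _ _ fun Ω _ _ ξ l => ?_⟩
  obtain ⟨v, hvS, hmem⟩ := Set.mem_iUnion₂.1 (hS (Set.mem_univ (liftHom ξ l default)))
  have h1 := (germ_eq_iff_mem_agree ξ (D.obj (k v)).obj l _ _).2 hmem
  have h2 := congrArg ((EtCoh.stalk ξ).map (D.map (g v hvS))) h1
  refine ((congrArg (fun T => germ ξ (D.obj K) l ((D.map T).hom.app (op U) s)) (hg v hvS)).symm.trans ?_)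
  refine Eq.trans ?_ ((h2.trans (germ_app (D.map (g v hvS)) l 0)).trans (congrArg (germ ξ (D.obj K) l) (map_zero _)))
  rw [D.map_comp]
  exact (germ_app (D.map (g v hvS)) l ((D.map (f v)).hom.app (op U) s)).symm

theorem exists_sect_rep (U : X.Etale) [IsAffine U.left] (h : EtCoh.sect c.pt U) :
    ∃ (j : J) (s : EtCoh.sect (D.obj j) U), (c.ι.app j).hom.app (op U) s = h := by
  classical
  have key : ∀ v : U.left, ∃ (W : X.Etale) (_ : IsAffine W.left) (g : W ⟶ U) (j : J) (t : EtCoh.sect (D.obj j) W),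
      v ∈ Set.range g.left ∧ (c.ι.app j).hom.app (op W) t = c.pt.obj.map g.op h := by
    intro v
    obtain ⟨l, hl⟩ := exists_lift_geomPt v
    obtain ⟨j, a, ha⟩ := exists_stalk_rep hc (geomPt (U.hom v)) (germ (geomPt (U.hom v)) c.pt l h)
    obtain ⟨V, y, s, rfl⟩ := (Scheme.pointSmallEtale (geomPt (U.hom v))).toPresheafFiber_jointly_surjective a
    have hcof := IsCofilteredOrEmpty.cone_objs (C := Nbhd (geomPt (U.hom v))) ⟨V, y⟩ ⟨U, l⟩
    obtain ⟨q, a₁, a₂, -⟩ := hcof
    have e : germ (geomPt (U.hom v)) c.pt q.2 ((c.ι.app j).hom.app (op q.1) ((D.obj j).obj.map a₁.1.op s)) =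
        germ (geomPt (U.hom v)) c.pt q.2 (c.pt.obj.map a₂.1.op h) := by
      refine (germ_app (c.ι.app j) q.2 _).symm.trans ?_
      rw [germ_map, a₁.2, germ_map, a₂.2]
      exact ha
    obtain ⟨Z, k, z, hz, hk⟩ := ((Scheme.pointSmallEtale _).toPresheafFiber_eq_iff' q.1 q.2 _ _).1 e
    obtain ⟨W, hW, hzW, -⟩ := exists_isAffineOpen_mem_and_subset
      (show liftHom _ z default ∈ (⊤ : Z.left.Opens) from trivial)
    obtain ⟨w, hw⟩ := exists_fiber_map_eq _ (EtPointClass.incl Z W) z ⟨_, hzW⟩ rfl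
    let g : EtPointClass.sub Z W ⟶ U := EtPointClass.incl Z W ≫ k ≫ a₂.1
    refine ⟨EtPointClass.sub Z W, hW, g, j,
      (D.obj j).obj.map (EtPointClass.incl Z W ≫ k ≫ a₁.1).op s, ⟨liftHom _ w default, ?_⟩, ?_⟩
    · rw [← fiber_map_point g w]
      have : (Scheme.pointSmallEtale (geomPt (U.hom v))).fiber.map g w = l := by
        rw [Functor.map_comp, ConcreteCategory.comp_apply, hw, Functor.map_comp, ConcreteCategory.comp_apply, hz]
        exact a₂.2
      rw [this]
      exact hl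
    · refine (NatTrans.naturality_apply (c.ι.app j).hom (EtPointClass.incl Z W ≫ k ≫ a₁.1).op s).trans ?_
      show c.pt.obj.map (EtPointClass.incl Z W ≫ k ≫ a₁.1).op ((c.ι.app j).hom.app (op V) s) =
        c.pt.obj.map (EtPointClass.incl Z W ≫ k ≫ a₂.1).op h
      rw [← sect_map_map c.pt (k ≫ a₁.1), ← sect_map_map c.pt (k ≫ a₂.1), ← sect_map_map c.pt a₁.1 k,
        ← sect_map_map c.pt a₂.1 k]
      refine congrArg (c.pt.obj.map (EtPointClass.incl Z W).op) ?_
      refine Eq.trans (congrArg (c.pt.obj.map k.op) ?_) hk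
      exact (NatTrans.naturality_apply (c.ι.app j).hom a₁.1.op s).symm
  choose W hW g j t hv ht using key
  obtain ⟨S, hS⟩ := isCompact_univ.elim_finite_subcover (fun v : U.left => Set.range (g v).left)
    (fun v => by
      haveI : AlgebraicGeometry.Etale (g v).left := etale_left _
      exact (g v).left.isOpenMap.isOpen_range)
    fun v _ => Set.mem_iUnion.2 ⟨v, hv v⟩
  -- a common stage
  obtain ⟨j₀, hj₀⟩ := IsFiltered.sup_objs_exists (S.image j)
  let t₀ : ∀ a : S, EtCoh.sect (D.obj j₀) (W a.1) := fun a =>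
    (D.map (hj₀ (Finset.mem_image_of_mem j a.2)).some).hom.app _ (t a.1)
  have ht₀ : ∀ a : S, (c.ι.app j₀).hom.app _ (t₀ a) = c.pt.obj.map (g a.1).op h := fun a =>
    (congrArg (fun m : D.obj (j a.1) ⟶ c.pt => m.hom.app _ (t a.1))
      (c.w (hj₀ (Finset.mem_image_of_mem j a.2)).some)).trans (ht a.1)
  haveI : ∀ a : S, IsAffine (W a.1).left := fun a => hW a.1
  haveI : ∀ a : S, IsAffine ((𝟭 Scheme).obj (W a.1).left) := fun a => hW a.1
  haveI : IsAffine ((𝟭 Scheme).obj U.left) := ‹IsAffine U.left›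
  haveI : ∀ a : S, AlgebraicGeometry.Etale (g a.1).left := fun a => etale_left _
  haveI : ∀ a : S, AlgebraicGeometry.Etale (W a.1).hom := fun a => (W a.1).prop
  let P : S × S → X.Etale := fun p =>
    Scheme.Etale.mk (pullback.fst (g p.1.1).left (g p.2.1).left ≫ (W p.1.1).hom)
  let p₁ : ∀ p : S × S, P p ⟶ W p.1.1 := fun p =>
    MorphismProperty.Over.homMk (pullback.fst (g p.1.1).left (g p.2.1).left) rfl
  let p₂ : ∀ p : S × S, P p ⟶ W p.2.1 := fun p =>
    MorphismProperty.Over.homMk (pullback.snd (g p.1.1).left (g p.2.1).left) (by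
      show pullback.snd _ _ ≫ (W p.2.1).hom = pullback.fst _ _ ≫ (W p.1.1).hom
      rw [← MorphismProperty.Over.w (g p.2.1), ← MorphismProperty.Over.w (g p.1.1), pullback.condition_assoc])
  have hp : ∀ p, p₁ p ≫ g p.1.1 = p₂ p ≫ g p.2.1 := fun p =>
    MorphismProperty.Over.Hom.ext pullback.condition
  haveI : ∀ p : S × S, IsAffine (P p).left := fun p => by
    show IsAffine (pullback (g p.1.1).left (g p.2.1).left)
    infer_instance
  have hdiff : ∀ p : S × S, ∃ (k : J) (f : j₀ ⟶ k), (D.map f).hom.app _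
      ((D.obj j₀).obj.map (p₁ p).op (t₀ p.1) - (D.obj j₀).obj.map (p₂ p).op (t₀ p.2)) = 0 := fun p => by
    refine exists_sect_zero hc (P p) j₀ _ ?_
    rw [map_sub]
    refine sub_eq_zero.2 ?_
    refine (NatTrans.naturality_apply (c.ι.app j₀).hom (p₁ p).op _).trans (Eq.trans ?_
      (NatTrans.naturality_apply (c.ι.app j₀).hom (p₂ p).op _).symm)
    refine (congrArg (c.pt.obj.map (p₁ p).op) (ht₀ p.1)).trans (Eq.trans ?_
      (congrArg (c.pt.obj.map (p₂ p).op) (ht₀ p.2)).symm)
    exact (sect_map_map c.pt _ _ h).trans ((congrArg (fun m => c.pt.obj.map m.op h) (hp p)).trans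
      (sect_map_map c.pt _ _ h).symm)
  choose k f hf using hdiff
  obtain ⟨K, T, gK, hgK⟩ := exists_common (Finset.univ : Finset (S × S)) k f
  let t₁ : ∀ a : S, EtCoh.sect (D.obj K) (W a.1) := fun a => (D.map T).hom.app _ (t₀ a)
  have ht₁ : ∀ a : S, (c.ι.app K).hom.app _ (t₁ a) = c.pt.obj.map (g a.1).op h := fun a =>
    (congrArg (fun m : D.obj j₀ ⟶ c.pt => m.hom.app _ (t₀ a)) (c.w T)).trans (ht₀ a)
  have hcomp : ∀ p : S × S, (D.obj K).obj.map (p₁ p).op (t₁ p.1) = (D.obj K).obj.map (p₂ p).op (t₁ p.2) := fun p => by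
    refine sub_eq_zero.1 ?_
    have e1 := NatTrans.naturality_apply (D.map T).hom (p₁ p).op (t₀ p.1)
    have e2 := NatTrans.naturality_apply (D.map T).hom (p₂ p).op (t₀ p.2)
    refine ((congrArg₂ (· - ·) e1.symm e2.symm).trans (map_sub ((D.map T).hom.app (op (P p))).hom _ _).symm).trans ?_
    refine (congrArg (fun m => (D.map m).hom.app (op (P p)) _) (hgK p (Finset.mem_univ p)).symm).trans ?_
    rw [D.map_comp]
    exact (congrArg ((D.map (gK p (Finset.mem_univ p))).hom.app (op (P p))) (hf p)).trans (map_zero _)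
  -- glue
  have hR : Sieve.generate (Presieve.ofArrows (fun a : S => W a.1) fun a => g a.1) ∈ X.smallEtaleTopology U :=
    covering_of_points _ fun x => by
      obtain ⟨v, hvS, w, hw⟩ := Set.mem_iUnion₂.1 (hS (Set.mem_univ x))
      exact ⟨W v, g v, w, Sieve.le_generate _ _ _ (Presieve.ofArrows.mk (⟨v, hvS⟩ : S)), hw⟩
  have hsh : Presieve.IsSheafFor ((D.obj K).obj ⋙ forget AddCommGrpCat.{u + 1})
      (Presieve.ofArrows (fun a : S => W a.1) fun a => g a.1) :=
    (Presieve.isSheafFor_iff_generate _).2 (((isSheaf_iff_isSheaf_of_type _ _).1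
      ((sheafCompose X.smallEtaleTopology (forget AddCommGrpCat.{u + 1})).obj (D.obj K)).property) _ hR)
  obtain ⟨s, hs, -⟩ := (Presieve.isSheafFor_arrows_iff _ _).1 hsh t₁ fun a b Z ga gb e => by
    let m : Z ⟶ P (a, b) := MorphismProperty.Over.homMk
      (pullback.lift ga.left gb.left (congrArg (fun q => q.left) e)) (by
        show pullback.lift _ _ _ ≫ pullback.fst _ _ ≫ (W a.1).hom = Z.hom
        rw [pullback.lift_fst_assoc]
        exact MorphismProperty.Over.w ga)
    have m1 : m ≫ p₁ (a, b) = ga := MorphismProperty.Over.Hom.ext (pullback.lift_fst _ _ _)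
    have m2 : m ≫ p₂ (a, b) = gb := MorphismProperty.Over.Hom.ext (pullback.lift_snd _ _ _)
    show (D.obj K).obj.map ga.op (t₁ a) = (D.obj K).obj.map gb.op (t₁ b)
    rw [← m1, ← m2, ← sect_map_map, ← sect_map_map]
    exact congrArg ((D.obj K).obj.map m.op) (hcomp (a, b))
  refine ⟨K, s, sect_ext _ U _ _ fun Ω _ _ ξ l => ?_⟩
  obtain ⟨v, hvS, w, hw⟩ := Set.mem_iUnion₂.1 (hS (Set.mem_univ (liftHom ξ l default)))
  obtain ⟨z, hz⟩ := exists_fiber_map_eq ξ (g v) l w hw
  rw [← hz, ← germ_map, ← germ_map]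
  refine congrArg (germ ξ c.pt z) ?_
  refine ((NatTrans.naturality_apply (c.ι.app K).hom (g v).op s).symm.trans ?_)
  exact (congrArg ((c.ι.app K).hom.app (op (W v))) (hs ⟨v, hvS⟩)).trans (ht₁ ⟨v, hvS⟩)

omit hc in
/-- Constructible sheaves are compact objects. -/
theorem preservesColimitsOfShape_coyoneda [CompactSpace X] [QuasiSeparatedSpace X] {F : EtCoh.Ab X}
    (hF : EtPBC.IsConstructible F) : PreservesColimitsOfShape J (coyoneda.obj (op F)) := by
  classical
  obtain ⟨n, hn, hFn⟩ := exists_killedBy hF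
  obtain ⟨a, b, V, U, hV, hU, φ, ⟨e⟩⟩ := S0138.result X n hn F hF hFn
  let π : (⨁ fun i => EtPBC.extZeroConst (U i) (ZMod n)) ⟶ F := cokernel.π φ ≫ e.inv
  have hπ : φ ≫ π = 0 := by rw [← Category.assoc, cokernel.condition, zero_comp]
  refine ⟨fun {D} => ⟨fun {c} hc => ⟨Types.FilteredColimit.isColimitOf' _ _ (fun g => ?_) (fun i x y hxy => ?_)⟩⟩⟩
  · change F ⟶ c.pt at g
    have hl : ∀ i, ∃ (j : J) (s : EtCoh.sect (D.obj j) (U i)), n • s = 0 ∧
        (c.ι.app j).hom.app _ s = (biproduct.ι _ i ≫ π ≫ g).hom.app _ (one (U i) n) := fun i => by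
      haveI := hU i
      obtain ⟨j, s, hs⟩ := exists_sect_rep hc (U i) ((biproduct.ι _ i ≫ π ≫ g).hom.app _ (one (U i) n))
      have h0 : (c.ι.app j).hom.app _ (n • s) = 0 := by
        refine (map_nsmul _ n s).trans ?_
        rw [hs]
        exact (map_nsmul _ n _).symm.trans
          ((congrArg _ (killedBy_extZeroConst (U i) n _ (one (U i) n))).trans (map_zero _))
      obtain ⟨k, f, hf⟩ := exists_sect_zero hc (U i) j _ h0
      refine ⟨k, (D.map f).hom.app _ s, by rw [← map_nsmul]; exact hf, ?_⟩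
      exact (congrArg (fun m : D.obj j ⟶ c.pt => m.hom.app _ s) (c.w f)).trans hs
    choose j s hsn hs using hl
    obtain ⟨j₀, hj₀⟩ := IsFiltered.sup_objs_exists (Finset.univ.image j)
    choose ψ hψ using fun i => exists_hom_one (D.obj j₀) n
      ((D.map (hj₀ (Finset.mem_image_of_mem j (Finset.mem_univ i))).some).hom.app _ (s i))
      (by rw [← map_nsmul, hsn, map_zero])
    let Φ := biproduct.desc ψ
    have hΦ : Φ ≫ c.ι.app j₀ = π ≫ g := biproduct.hom_ext' _ _ fun i => hom_ext_one <| by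
      rw [← Category.assoc, biproduct.ι_desc]
      refine (congrArg ((c.ι.app j₀).hom.app _) (hψ i)).trans ?_
      exact (congrArg (fun m : D.obj (j i) ⟶ c.pt => m.hom.app _ (s i))
        (c.w (hj₀ (Finset.mem_image_of_mem j (Finset.mem_univ i))).some)).trans (hs i)
    have hr : ∀ i, ∃ (k : J) (f : j₀ ⟶ k), biproduct.ι _ i ≫ φ ≫ Φ ≫ D.map f = 0 := fun i => by
      haveI := hV i
      obtain ⟨k, f, hf⟩ := exists_sect_zero hc (V i) j₀ ((biproduct.ι _ i ≫ φ ≫ Φ).hom.app _ (one (V i) n)) (by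
        have : (biproduct.ι _ i ≫ φ ≫ Φ) ≫ c.ι.app j₀ = 0 := by
          rw [Category.assoc, Category.assoc, hΦ, reassoc_of% hπ, zero_comp, comp_zero]
        exact congrArg (fun m : EtPBC.extZeroConst (V i) (ZMod n) ⟶ c.pt => m.hom.app _ (one (V i) n)) this)
      refine ⟨k, f, hom_ext_one ?_⟩
      rw [← Category.assoc φ, ← Category.assoc (biproduct.ι _ i)]
      exact hf
    choose k f hf using hr
    obtain ⟨K, T, gK, hgK⟩ := exists_common (Finset.univ : Finset (Fin a)) k f
    have h0 : φ ≫ Φ ≫ D.map T = 0 := biproduct.hom_ext' _ _ fun i => by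
      rw [comp_zero, ← hgK i (Finset.mem_univ i), D.map_comp]
      have := congrArg (· ≫ D.map (gK i (Finset.mem_univ i))) (hf i)
      simpa using this
    refine ⟨K, e.hom ≫ cokernel.desc φ (Φ ≫ D.map T) h0, ?_⟩
    show g = (e.hom ≫ cokernel.desc φ (Φ ≫ D.map T) h0) ≫ c.ι.app K
    rw [← cancel_epi e.inv, Category.assoc, e.inv_hom_id_assoc, ← cancel_epi (cokernel.π φ), cokernel.π_desc_assoc,
      Category.assoc, c.w T, hΦ]
    exact (Category.assoc _ _ _).symm
  · change F ⟶ D.obj i at x y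
    change x ≫ c.ι.app i = y ≫ c.ι.app i at hxy
    have hl : ∀ l, ∃ (k : J) (f : i ⟶ k), biproduct.ι _ l ≫ π ≫ (x - y) ≫ D.map f = 0 := fun l => by
      haveI := hU l
      obtain ⟨k, f, hf⟩ := exists_sect_zero hc (U l) i ((biproduct.ι _ l ≫ π ≫ (x - y)).hom.app _ (one (U l) n)) (by
        have : (biproduct.ι _ l ≫ π ≫ (x - y)) ≫ c.ι.app i = 0 := by
          rw [Category.assoc, Category.assoc, Preadditive.sub_comp, hxy, sub_self, comp_zero, comp_zero]
        exact congrArg (fun m : EtPBC.extZeroConst (U l) (ZMod n) ⟶ c.pt => m.hom.app _ (one (U l) n)) this)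
      refine ⟨k, f, hom_ext_one ?_⟩
      rw [← Category.assoc π, ← Category.assoc (biproduct.ι _ l)]
      exact hf
    choose k f hf using hl
    obtain ⟨K, T, gK, hgK⟩ := exists_common (Finset.univ : Finset (Fin b)) k f
    refine ⟨K, T, ?_⟩
    show x ≫ D.map T = y ≫ D.map T
    rw [← sub_eq_zero, ← Preadditive.sub_comp, ← cancel_epi π, comp_zero]
    refine biproduct.hom_ext' _ _ fun l => ?_
    rw [comp_zero, ← hgK l (Finset.mem_univ l), D.map_comp]
    have := congrArg (· ≫ D.map (gK l (Finset.mem_univ l))) (hf l)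
    simpa using this

end Groth.Agent.FLCLib
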