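import Groth.Agent.EtPtsLib.GermEq
import Groth.Agent.EtPtsLib.Opens
/-!
A sheaf is constant over an étale scheme iff some sections give every stalk.
-/

set_option autoImplicit false
set_option backward.isDefEq.respectTransparency false
set_option backward.isDefEq.respectTransparency.types false

universe u

open CategoryTheory CategoryTheory.Limits AlgebraicGeometry Opposite GrothendieckTopology

namespace Groth.Agent.FLCLib

open EtPtsLib

variable {X : Scheme.{u}}

/-- The sections `θ m` have, at every geometric point, every germ exactly once. -/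
def IsConstOn (F : EtCoh.Ab X) (U : X.Etale) {M : AddCommGrpCat.{u + 1}} (θ : M ⟶ F.obj.obj (op U)) : Prop :=
  ∀ (Ω : Type u) [Field Ω] [IsSepClosed Ω] (ξ : Spec (CommRingCat.of Ω) ⟶ X)
    (l : (Scheme.pointSmallEtale ξ).fiber.obj U), Function.Bijective fun m : M => germ ξ F l (θ m)

theorem IsConstOn.map {F : EtCoh.Ab X} {U : X.Etale} {M : AddCommGrpCat.{u + 1}} {θ : M ⟶ F.obj.obj (op U)}
    (h : IsConstOn F U θ) {V : X.Etale} (g : V ⟶ U) : IsConstOn F V (θ ≫ F.obj.map g.op) := fun Ω _ _ ξ l => by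
  have e : (fun m : M => germ ξ F l ((θ ≫ F.obj.map g.op) m)) =
      fun m : M => germ ξ F ((Scheme.pointSmallEtale ξ).fiber.map g l) (θ m) := funext fun m => germ_map ξ F g l (θ m)
  rw [e]
  exact h Ω ξ _

theorem IsConstOn.comp_iso {F : EtCoh.Ab X} {U : X.Etale} {M N : AddCommGrpCat.{u + 1}}
    {θ : M ⟶ F.obj.obj (op U)} (h : IsConstOn F U θ) (e : N ≅ M) : IsConstOn F U (e.hom ≫ θ) :=
  fun Ω _ _ ξ l => (h Ω ξ l).comp (ConcreteCategory.bijective_of_isIso e.hom)

theorem IsConstOn.of_iso {F G : EtCoh.Ab X} (a : F ≅ G) {U : X.Etale} {M : AddCommGrpCat.{u + 1}}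
    {θ : M ⟶ F.obj.obj (op U)} (h : IsConstOn F U θ) : IsConstOn G U (θ ≫ a.hom.hom.app (op U)) :=
  fun Ω _ _ ξ l => by
  have e : (fun m : M => germ ξ G l ((θ ≫ a.hom.hom.app (op U)) m)) =
      (EtCoh.stalk ξ).map a.hom ∘ fun m : M => germ ξ F l (θ m) :=
    funext fun m => ((Scheme.pointSmallEtale ξ).toPresheafFiber_naturality_apply a.hom.hom U l (θ m)).symm
  rw [e]
  exact (ConcreteCategory.bijective_of_isIso _).comp (h Ω ξ l)

theorem mem_over_of_pointwise {U : X.Etale} {Y : Over U} (R : Sieve Y)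
    (h : ∀ v : Y.left.left, ∃ (W : Over U) (g : W ⟶ Y) (w : W.left.left), R g ∧ g.left.left w = v) :
    R ∈ X.smallEtaleTopology.over U Y := by
  rw [mem_over_iff]
  have eX : X.smallEtaleTopology = (X.smallPretopology (P := EtCoh.etaleMP) (Q := EtCoh.etaleMP)).toGrothendieck :=
    Scheme.smallGrothendieckTopology_eq_toGrothendieck_smallPretopology X le_rfl
  rw [eX]
  refine (Scheme.mem_toGrothendieck_smallPretopology _ _).2 fun v => ?_
  obtain ⟨W, g, w, hg, hw⟩ := h v
  exact ⟨W.left, g.left, w, (Sieve.overEquiv_iff _ _).2 (by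
    convert R.downward_closed hg (Over.homMk (𝟙 W.left) (by simp) : Over.mk (g.left ≫ Y.hom) ⟶ W) using 1
    apply Over.OverMorphism.ext
    simp), etale_left g.left, hw⟩

theorem exists_mem_over {U : X.Etale} {Y : Over U} {R : Sieve Y} (hR : R ∈ X.smallEtaleTopology.over U Y)
    (v : Y.left.left) :
    ∃ (W : Over U) (g : W ⟶ Y) (w : W.left.left), R g ∧ g.left.left w = v := by
  rw [mem_over_iff] at hR
  obtain ⟨V, g, w, hg, hw⟩ := exists_mem_of_covering hR v
  exact ⟨Over.mk (g ≫ Y.hom), Over.homMk g, w, (Sieve.overEquiv_iff _ _).1 hg, hw⟩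

variable (F : EtCoh.Ab X) (U : X.Etale) (M : AddCommGrpCat.{u + 1})

/-- The presheaf map defined by sections. -/
noncomputable def psi (θ : M ⟶ F.obj.obj (op U)) :
    (Functor.const (Over U)ᵒᵖ).obj M ⟶ (F.over U).obj where
  app V := θ ≫ F.obj.map V.unop.hom.op
  naturality V W g := by
    change 𝟙 M ≫ θ ≫ F.obj.map W.unop.hom.op = (θ ≫ F.obj.map V.unop.hom.op) ≫ F.obj.map g.unop.left.op
    rw [Category.id_comp, Category.assoc, ← Functor.map_comp, ← op_comp, Over.w]

theorem germ_psi (θ : M ⟶ F.obj.obj (op U)) (Y : Over U) {Ω : Type u} [Field Ω] [IsSepClosed Ω]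
    (ξ : Spec (CommRingCat.of Ω) ⟶ X) (l : (Scheme.pointSmallEtale ξ).fiber.obj Y.left) (m : M) :
    germ ξ F l ((psi F U M θ).app (op Y) m) = germ ξ F ((Scheme.pointSmallEtale ξ).fiber.map Y.hom l) (θ m) :=
  germ_map ξ F Y.hom l (θ m)

theorem isLocallyInjective_psi {θ : M ⟶ F.obj.obj (op U)} (h : IsConstOn F U θ) :
    Presheaf.IsLocallyInjective (X.smallEtaleTopology.over U) (psi F U M θ) := by
  refine ⟨fun {Y} a b hab => mem_over_of_pointwise _ fun v => ⟨Y.unop, 𝟙 _, v, ?_, rfl⟩⟩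
  obtain ⟨l, -⟩ := exists_lift_geomPt v
  show a = b
  refine (h _ _ ((Scheme.pointSmallEtale _).fiber.map Y.unop.hom l)).1 ?_
  exact (germ_psi F U M θ Y.unop _ l a).symm.trans
    ((congrArg (germ _ F l) hab).trans (germ_psi F U M θ Y.unop _ l b))

theorem isLocallySurjective_psi {θ : M ⟶ F.obj.obj (op U)} (h : IsConstOn F U θ) :
    Presheaf.IsLocallySurjective (X.smallEtaleTopology.over U) (psi F U M θ) := by
  refine ⟨fun {Y} s => mem_over_of_pointwise _ fun v => ?_⟩
  obtain ⟨l, hl⟩ := exists_lift_geomPt v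
  obtain ⟨m, hm⟩ := (h _ _ ((Scheme.pointSmallEtale _).fiber.map Y.hom l)).2 (germ _ F l s)
  have e : germ (geomPt (Y.left.hom v)) F l ((psi F U M θ).app (op Y) m) = germ (geomPt (Y.left.hom v)) F l s :=
    (germ_psi F U M θ Y _ l m).trans hm
  obtain ⟨W, g, y, hy, hg⟩ := ((Scheme.pointSmallEtale _).toPresheafFiber_eq_iff' Y.left l _ _).1 e
  refine ⟨Over.mk (g ≫ Y.hom), Over.homMk g, liftHom _ y default, ⟨m, ?_⟩, ?_⟩
  · refine (NatTrans.naturality_apply (psi F U M θ) (Over.homMk g : Over.mk (g ≫ Y.hom) ⟶ Y).op m).trans ?_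
    exact hg
  · refine Eq.trans ?_ hl
    refine Eq.trans ?_ (congrArg (fun q => liftHom _ q default) hy)
    rw [liftHom_map]
    rfl

theorem exists_iso_of_isConstOn {θ : M ⟶ F.obj.obj (op U)} (h : IsConstOn F U θ) :
    ∃ e : F.over U ≅ (constantSheaf (X.smallEtaleTopology.over U) AddCommGrpCat.{u + 1}).obj M,
      (sheafificationAdjunction (X.smallEtaleTopology.over U) AddCommGrpCat.{u + 1}).homEquiv _ _ e.inv =
        psi F U M θ := by
  let K := X.smallEtaleTopology.over U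
  let P : (Over U)ᵒᵖ ⥤ AddCommGrpCat.{u + 1} := (Functor.const (Over U)ᵒᵖ).obj M
  haveI := isLocallyInjective_psi F U M h
  haveI := isLocallySurjective_psi F U M h
  let φ : (presheafToSheaf K AddCommGrpCat.{u + 1}).obj P ⟶ F.over U :=
    ((sheafificationAdjunction K AddCommGrpCat.{u + 1}).homEquiv P (F.over U)).symm (psi F U M θ)
  have fac : CategoryTheory.toSheafify K P ≫ φ.hom = psi F U M θ := by
    have := ((sheafificationAdjunction K AddCommGrpCat.{u + 1}).homEquiv P (F.over U)).apply_symm_apply (psi F U M θ)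
    rwa [Adjunction.homEquiv_unit] at this
  haveI : Sheaf.IsLocallyInjective φ :=
    Presheaf.isLocallyInjective_of_isLocallyInjective_of_isLocallySurjective_fac K (psi F U M θ) fac
  haveI : Sheaf.IsLocallySurjective φ := Presheaf.isLocallySurjective_of_isLocallySurjective_fac K fac
  haveI : IsIso φ := (Sheaf.isLocallyBijective_iff_isIso φ).1 ⟨inferInstance, inferInstance⟩
  exact ⟨(asIso φ).symm, ((sheafificationAdjunction K AddCommGrpCat.{u + 1}).homEquiv P (F.over U)).apply_symm_apply _⟩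

theorem nonempty_iso_of_isConstOn {θ : M ⟶ F.obj.obj (op U)} (h : IsConstOn F U θ) :
    Nonempty (F.over U ≅ (constantSheaf (X.smallEtaleTopology.over U) AddCommGrpCat.{u + 1}).obj M) :=
  ⟨(exists_iso_of_isConstOn F U M h).choose⟩

theorem exists_isConstOn_of_iso
    (φ : F.over U ≅ (constantSheaf (X.smallEtaleTopology.over U) AddCommGrpCat.{u + 1}).obj M) :
    ∃ θ : M ⟶ F.obj.obj (op U), IsConstOn F U θ := by
  let K := X.smallEtaleTopology.over U
  let P : (Over U)ᵒᵖ ⥤ AddCommGrpCat.{u + 1} := (Functor.const (Over U)ᵒᵖ).obj M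
  let a : P ⟶ (F.over U).obj := CategoryTheory.toSheafify K P ≫ φ.inv.hom
  haveI : Presheaf.IsLocallyInjective K a := by
    haveI : Presheaf.IsLocallyInjective K φ.inv.hom :=
      ((Sheaf.isLocallyBijective_iff_isIso φ.inv).2 inferInstance).1
    infer_instance
  haveI : Presheaf.IsLocallySurjective K a := by
    haveI : Presheaf.IsLocallySurjective K φ.inv.hom :=
      ((Sheaf.isLocallyBijective_iff_isIso φ.inv).2 inferInstance).2
    infer_instance
  refine ⟨a.app (op (Over.mk (𝟙 U))), fun Ω _ _ ξ l => ?_⟩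
  have nat : ∀ (W : X.Etale) (g : W ⟶ U) (m : M), F.obj.map g.op (a.app (op (Over.mk (𝟙 U))) m) = a.app (op (Over.mk g)) m :=
    fun W g m => (NatTrans.naturality_apply a (Over.homMk g (Category.comp_id g) : Over.mk g ⟶ Over.mk (𝟙 U)).op m).symm
  constructor
  · intro m m' e
    obtain ⟨W, g, y, -, hg⟩ := ((Scheme.pointSmallEtale ξ).toPresheafFiber_eq_iff' U l _ _).1 e
    replace hg : a.app (op (Over.mk g)) m = a.app (op (Over.mk g)) m' := (nat W g m).symm.trans (hg.trans (nat W g m'))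
    obtain ⟨Z, k, z, hk, -⟩ := exists_mem_over (Presheaf.equalizerSieve_mem K a m m' hg) (liftHom ξ y default)
    exact hk
  · intro b
    obtain ⟨V, y, t, rfl⟩ := (Scheme.pointSmallEtale ξ).toPresheafFiber_jointly_surjective b
    obtain ⟨S, g₁, g₂, -⟩ := IsCofilteredOrEmpty.cone_objs (C := (Scheme.pointSmallEtale ξ).fiber.Elements) ⟨V, y⟩ ⟨U, l⟩
    let Y₀ : Over U := Over.mk g₂.1
    let t₀ : ToType ((F.over U).obj.obj (op Y₀)) := F.obj.map g₁.1.op t
    have hmem := Presheaf.imageSieve_mem K a t₀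
    obtain ⟨Z, k, z, ⟨m, hm⟩, hz⟩ := exists_mem_over hmem (liftHom ξ S.2 default)
    obtain ⟨w, hw⟩ := exists_fiber_map_eq ξ k.left S.2 z hz
    refine ⟨m, ?_⟩
    have e₁ : germ ξ F w (F.obj.map k.left.op (F.obj.map g₁.1.op t)) = germ ξ F y t := by
      rw [germ_map, hw]
      exact (germ_map ξ F g₁.1 S.2 t).trans (congrArg (fun q => germ ξ F q t) g₁.2)
    have e₂ : germ ξ F w (F.obj.map k.left.op (F.obj.map g₂.1.op (a.app (op (Over.mk (𝟙 U))) m))) =
        germ ξ F l (a.app (op (Over.mk (𝟙 U))) m) := by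
      rw [germ_map, hw]
      exact (germ_map ξ F g₂.1 S.2 _).trans (congrArg (fun q => germ ξ F q (a.app (op (Over.mk (𝟙 U))) m)) g₂.2)
    refine e₂.symm.trans (Eq.trans ?_ e₁)
    refine congrArg (germ ξ F w) ?_
    refine ((congrArg (F.obj.map k.left.op) (nat _ g₂.1 m)).trans ?_).trans hm
    exact (NatTrans.naturality_apply a k.op m).symm

end Groth.Agent.FLCLib
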