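import Groth.Agent.FLCLib.ExtZeroC
import Groth.Agent.FLCLib.Spec
import Groth.Agent.S8546
import Mathlib.AlgebraicGeometry.Morphisms.UniversallyOpen
/-!
Finite local constancy descends along flat surjective morphisms of finite presentation.
-/

set_option autoImplicit false
set_option backward.isDefEq.respectTransparency false
set_option backward.isDefEq.respectTransparency.types false

universe u

open CategoryTheory CategoryTheory.Limits AlgebraicGeometry Opposite Topology

namespace Groth.Agent.FLCLib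

open EtPtsLib

variable {X Y : Scheme.{u}} (f : X ⟶ Y) {F : EtCoh.Ab Y} {U : Y.Etale} {M : AddCommGrpCat.{u + 1}}
  {θ : M ⟶ F.obj.obj (op U)}

theorem germ_unit_comp {Ω : Type u} [Field Ω] [IsSepClosed Ω] (ζ : Spec (CommRingCat.of Ω) ⟶ X)
    (l : (Scheme.pointSmallEtale (ζ ≫ f)).fiber.obj U) :
    (fun m : M => germ ζ ((EtCoh.pull f).obj F) (liftBc f ζ U l)
      ((θ ≫ ((EtCoh.pullPushAdj f).unit.app F).hom.app (op U)) m)) =
      unitStalk f ζ F ∘ fun m : M => germ (ζ ≫ f) F l (θ m) :=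
  funext fun m => (ConcreteCategory.congr_hom (toPresheafFiber_unitStalk f ζ F U l) (θ m)).symm

theorem exists_fiber_of_bc {Ω : Type u} [Field Ω] [IsSepClosed Ω] (ζ : Spec (CommRingCat.of Ω) ⟶ X)
    (lb : (Scheme.pointSmallEtale ζ).fiber.obj ((EtCoh.bc f).obj U)) :
    ∃ l : (Scheme.pointSmallEtale (ζ ≫ f)).fiber.obj U, liftBc f ζ U l = lb ∧
      liftHom (ζ ≫ f) l default = bcFst f U (liftHom ζ lb default) := by
  let l : (Scheme.pointSmallEtale (ζ ≫ f)).fiber.obj U := Over.homMk (liftHom ζ lb ≫ bcFst f U) (by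
    show (liftHom ζ lb ≫ pullback.fst U.hom f) ≫ U.hom = ζ ≫ f
    rw [Category.assoc, pullback.condition, ← Category.assoc]
    exact congrArg (· ≫ f) (liftHom_comp ζ lb))
  exact ⟨l, fiber_bc_ext f ζ (liftHom_liftBc_fst f ζ U l),
    (Scheme.Hom.comp_apply (liftHom ζ lb) (bcFst f U) default)⟩

theorem GoodPt.bc {b : ((EtCoh.bc f).obj U).left} (h : GoodPt F U θ (bcFst f U b)) :
    GoodPt ((EtCoh.pull f).obj F) ((EtCoh.bc f).obj U)
      (θ ≫ ((EtCoh.pullPushAdj f).unit.app F).hom.app (op U)) b := fun Ω _ _ ζ lb hlb => by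
  obtain ⟨l, hl, hpt⟩ := exists_fiber_of_bc f ζ lb
  subst hl
  exact (germ_unit_comp f ζ l).symm ▸ ((bijective_unitStalk f ζ F).comp (h Ω (ζ ≫ f) l (hpt.trans (congrArg _ hlb))))

theorem GoodPt.of_bc [Finite M] {b : ((EtCoh.bc f).obj U).left}
    (h : GoodPt ((EtCoh.pull f).obj F) ((EtCoh.bc f).obj U)
      (θ ≫ ((EtCoh.pullPushAdj f).unit.app F).hom.app (op U)) b) :
    GoodPt F U θ (bcFst f U b) := by
  obtain ⟨lb, hlb⟩ := exists_lift_geomPtAlg b
  obtain ⟨l, hl, hpt⟩ := exists_fiber_of_bc f _ lb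
  refine goodPt_of_one l (hpt.trans (congrArg _ hlb)) ?_
  refine (Function.Bijective.of_comp_iff' (bijective_unitStalk f _ F) _).1 ?_
  subst hl
  exact (germ_unit_comp f _ l) ▸ h _ _ _ hlb

/-- Good points generise for a finite locally constant sheaf. -/
theorem GoodPt.generize [Finite M] (hF : EtCoh.IsFiniteLocallyConstant F) {w v : U.left} (hwv : w ⤳ v)
    (h : GoodPt F U θ v) : GoodPt F U θ w := by
  obtain ⟨l, hl⟩ := exists_lift_geomPtAlg (U := U) v
  obtain ⟨Ω', _, _, ζ, φ, hloc⟩ := exists_specialization_lift _ l w (hl.symm ▸ hwv)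
  refine goodPt_of_one (φ.hom.app U l) hloc ?_
  rw [show (fun m : M => germ ζ F (φ.hom.app U l) (θ m)) =
      (GrothendieckTopology.Point.Hom.sheafFiber (A := AddCommGrpCat.{u + 1}) φ).app F ∘
        fun m : M => germ _ F l (θ m) from funext fun m => (sheafFiber_germ φ F l (θ m)).symm]
  exact (bijective_sheafFiber_of_flc (U := ⊤) (isFiniteLocallyConstant_pull _ hF) trivial φ).comp (h _ _ l hl)

/-- Finite local constancy descends along flat surjective morphisms of finite presentation. -/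
theorem flc_of_pull_flat [Flat f] [Surjective f] [LocallyOfFinitePresentation f]
    (hf : EtCoh.IsFiniteLocallyConstant ((EtCoh.pull f).obj F)) : EtCoh.IsFiniteLocallyConstant F := by
  have hF : EtPBC.IsConstructible F := (Groth.Agent.S8546.result f F).2 (isConstructible_of_flc hf)
  refine (finiteLocallyConstant_iff F).2 fun y => ?_
  obtain ⟨q, -, M, θ, hq, hM, hgood⟩ := exists_goodPt hF (⟨EtCoh.top Y, topLift (geomPt y)⟩ : Nbhd (geomPt y))
  haveI := hq
  haveI := hM
  let G : Set q.1.left := {v | GoodPt F q.1 θ v}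
  have hgen : ∀ w, w ⤳ q.point → w ∈ G := fun w hw => by
    haveI : Flat (bcFst f q.1) := (inferInstance : Flat (pullback.fst q.1.hom f))
    haveI : Surjective (bcFst f q.1) := (inferInstance : Surjective (pullback.fst q.1.hom f))
    obtain ⟨b, hb⟩ := (bcFst f q.1).surjective q.point
    obtain ⟨b', hb', rfl⟩ := Flat.generalizingMap (f := bcFst f q.1) (show w ⤳ bcFst f q.1 b from hb.symm ▸ hw)
    exact GoodPt.of_bc f ((GoodPt.bc f (hb.symm ▸ hgood)).generize hf hb')
  have hcl : q.point ∉ closure Gᶜ := fun hc => by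
    obtain ⟨e, he, hes⟩ := SpectralLib.exists_specializes_of_mem_closure
      (SpectralLib.isClopen_C_of_isConstructible (isConstructible_good hF q.1 θ).compl).1 hc
    exact he (hgen e hes)
  let O : q.1.left.Opens := ⟨(closure Gᶜ)ᶜ, isClosed_closure.isOpen_compl⟩
  have hc : IsConstOnAlg F (EtPointClass.sub q.1 O) (θ ≫ F.obj.map (EtPointClass.incl q.1 O).op) :=
    fun Ω _ _ ζ l => GoodPt.map _ (v := liftHom ζ l default) (by
      by_contra hb
      exact (liftHom ζ l default : Scheme.Opens.toScheme O).2 (subset_closure hb)) Ω ζ l rfl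
  obtain ⟨θ', hθ'⟩ := IsConstOnAlg.exists_isConstOn _ _ _ hc
  exact ⟨_, M, θ', ⟨(⟨q.point, hcl⟩ : Scheme.Opens.toScheme O), q.hom_point.trans (geomPt_default y)⟩, hM, hθ'⟩

end Groth.Agent.FLCLib
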